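import Cfsg.Agent.TensorOrth.Transport
import Cfsg.Agent.AschbacherQuad.Basic

/-!
# Factor forms of a tensor structure
-/

set_option autoImplicit false
set_option linter.unusedSectionVars false

namespace CfsgLib.TensorOrth

open Matrix Cfsg.Geo CfsgLib.TensorMax
open scoped Kronecker

variable {F : Type*} [Field F] {n : ℕ}

/-- A scalar multiple of a bilinear form, bundled. -/
noncomputable def bilinOf {f : (Fin n → F) → (Fin n → F) → F} (hf : IsBilinearForm f) (k : F) :
    LinearMap.BilinForm F (Fin n → F) :=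
  k • LinearMap.mk₂ F f hf.add_left (fun c x v => by rw [hf.smul_left, smul_eq_mul]) hf.add_right
    (fun c v x => by rw [hf.smul_right, smul_eq_mul])

@[simp] theorem bilinOf_apply {f : (Fin n → F) → (Fin n → F) → F} (hf : IsBilinearForm f) (k : F)
    (x y : Fin n → F) : bilinOf hf k x y = k * f x y := rfl

theorem formOfGram_gram {f : (Fin n → F) → (Fin n → F) → F} (hf : IsBilinearForm f) (x y : Fin n → F) :
    formOfGram (id : F → F) (gramMatrix f) x y = f x y := by
  have h := LinearMap.congr_fun (LinearMap.congr_fun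
    (Matrix.toLinearMap₂'_toMatrix' (R := F) (bilinOf hf 1)) x) y
  rw [Matrix.toLinearMap₂'_apply', bilinOf_apply, one_mul] at h
  rw [← h, formOfGram, dotProduct]
  refine Finset.sum_congr rfl fun i _ => ?_
  rw [mulVec, dotProduct, Finset.mul_sum]
  refine Finset.sum_congr rfl fun j _ => ?_
  rw [LinearMap.toMatrix₂'_apply, bilinOf_apply, one_mul, id, gramMatrix, mul_assoc]

theorem formOfGram_kron_ten {a b : ℕ} {f₁ : (Fin a → F) → (Fin a → F) → F}
    {f₂ : (Fin b → F) → (Fin b → F) → F} (h₁ : IsBilinearForm f₁) (h₂ : IsBilinearForm f₂)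
    (x x' : Fin a → F) (y y' : Fin b → F) :
    formOfGram (id : F → F) (gramMatrix f₁ ⊗ₖ gramMatrix f₂) (ten x y) (ten x' y') = f₁ x x' * f₂ y y' := by
  rw [← formOfGram_gram h₁ x x', ← formOfGram_gram h₂ y y']
  simp only [formOfGram, Fintype.sum_prod_type, kroneckerMap_apply, ten, id]
  rw [Finset.sum_mul_sum]
  refine Finset.sum_congr rfl fun i _ => Finset.sum_congr rfl fun j _ => ?_
  rw [Finset.sum_mul_sum]
  exact Finset.sum_congr rfl fun k _ => Finset.sum_congr rfl fun l _ => by ring

/-- The factors of a symplectic form. -/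
theorem fac_of_symplectic {f : (Fin n → F) → (Fin n → F) → F} (hf : IsSymplecticForm f) {k : F} (hk : k ≠ 0) :
    Fac (bilinOf hf.bilinear k) (-1) where
  nondeg := by
    refine ⟨fun x hx => by_contra fun h0 => ?_, fun y hy => by_contra fun h0 => ?_⟩
    · obtain ⟨-, z, hz⟩ := hf.nondegenerate x h0
      exact hz ((mul_eq_zero.1 (by simpa using hx z)).resolve_left hk)
    · obtain ⟨⟨z, hz⟩, -⟩ := hf.nondegenerate y h0
      exact hz ((mul_eq_zero.1 (by simpa using hy z)).resolve_left hk)
  symm x y := by rw [bilinOf_apply, bilinOf_apply, hf.skew x y]; ring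
  kind := Or.inr ⟨rfl, fun x => by rw [bilinOf_apply, hf.alternating, mul_zero]⟩

end CfsgLib.TensorOrth
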