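import Cfsg.Agent.TensorOrth.LineSeed

/-!
# A singular slice mapped to a slice gives `Ω`
-/

set_option autoImplicit false
set_option linter.unusedSectionVars false

namespace CfsgLib.TensorOrth

open Matrix Module CfsgLib.Spinor CfsgLib.OrthMax
open CfsgLib.TensorMax (Idx ten ten_add_left ten_add_right ten_smul_left ten_smul_right ten_eq_zero
  ten_inj_left ten_inj_right)
open CfsgLib.TensorUnitary (ten_induction)

variable {F : Type*} [Field F] [Fintype F] {a b : ℕ} {Q : QuadraticForm F (Idx a b → F)}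
  {B₁ : LinearMap.BilinForm F (Fin a → F)} {B₂ : LinearMap.BilinForm F (Fin b → F)} {ε : F}
  {M : Subgroup (Isom Q)}

/-- The two factors are both alternating or both not. -/
theorem TSet.alt_right (hS : TSet Q B₁ B₂ ε) (h : ∀ x, B₁ x x = 0) (ha : 0 < a) : ∀ x, B₂ x x = 0 := by
  rcases hS.f₂.kind with ⟨he, h2⟩ | ⟨-, h'⟩
  · refine absurd ?_ h2
    let x : Fin a → F := Pi.single ⟨0, ha⟩ 1
    obtain ⟨y, hy⟩ := hS.f₁.exists_one (show x ≠ 0 by simp [x])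
    have h3 := h (x + y)
    simp only [map_add, LinearMap.add_apply, h, hy, hS.f₁.symm x y, he] at h3
    linear_combination h3
  · exact h'

namespace Ctx

variable (hX : Ctx Q B₁ B₂ ε M)
include hX

/-- A seed on either side gives `Ω`. -/
theorem omega_le_of_seed (hb5 : 5 ≤ b) (hW : Wide B₁) {γ : Fin a → F} {c : Fin b → F}
    (h : (∃ h', Seed M tenB B₁ B₂ γ c h') ∨ ∃ v, Seed M tenB.flip B₂ B₁ c γ v) :
    Cfsg.Omega F ⇑Q ≤ M := by
  have hS := hX.tset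
  have hT := hS.tens
  have hL := hS.lifts hX.card_ok hX.mem
  have hb3 : 3 ≤ b := by omega
  have hW₂ : Wide B₂ := Or.inl hb5
  have hcase : ∀ (ha : 3 ≤ a ∨ ∀ x, B₁ x x = 0),
      (3 ≤ a ∧ Wide B₁ ∧ Wide B₂) ∨ ((∀ x, B₁ x x = 0) ∧ ∀ x, B₂ x x = 0) := by
    rintro (ha | ha)
    · exact Or.inl ⟨ha, hW, hW₂⟩
    · exact Or.inr ⟨ha, hS.alt_right ha (by have := hX.a_two; omega)⟩
  have hcard : 5 ≤ Fintype.card (Idx a b) := by
    rw [Fintype.card_prod, Fintype.card_fin, Fintype.card_fin]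
    exact hX.card_ok
  rcases h with ⟨h', hs⟩ | ⟨v, hs⟩
  · exact hs.omega_le hT hL hS.f₁ hS.f₂ hS.nondeg hcard hb5 (hcase hX.first_ok)
  have ha : 3 ≤ a := by
    by_contra h
    have h1 := hS.f₁.finrank_cperp hs.c_ne
    have h2 : Submodule.span F {γ} = cperp B₁ γ := Submodule.eq_of_le_of_finrank_le
      (by rw [Submodule.span_singleton_le_iff_mem]; exact hs.c_iso)
      (by rw [finrank_span_singleton hs.c_ne]; omega)
    have hv : v ∈ Submodule.span F {γ} := by rw [h2]; exact hs.orth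
    obtain ⟨s, hs'⟩ := Submodule.mem_span_singleton.1 hv
    exact hs.indep s hs'
  have hbl := hs.blocks hT.swap hL.swap hS.f₂ hS.f₁ (Or.inl hb3) (Or.inl ha) hW
  obtain ⟨v', hv'⟩ := hbl.seed_swap hT.swap hS.f₂ hS.f₁ hb3 hs.γ_ne hs.γ_iso hs.c_ne hs.c_iso
  exact Seed.omega_le hT hL hS.f₁ hS.f₂ hS.nondeg hcard hb5 (hcase (Or.inl ha)) hv'

/-- An element outside the stabiliser mapping a singular slice to one gives `Ω`. -/
theorem omega_le_of_slice (hb5 : 5 ≤ b) (hW : Wide B₁) {g : Isom Q} (hgM : g ∈ M) (hgK : g ∉ Kr Q) {c c' : Fin b → F}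
    (hc0 : c ≠ 0) (hc : B₂ c c = 0) (hc'0 : c' ≠ 0) (hc' : B₂ c' c' = 0)
    (hg : ∀ x, ∃ x', mat Q g *ᵥ ten x c = ten x' c') : Cfsg.Omega F ⇑Q ≤ M := by
  have hS := hX.tset
  have h₂ := hS.f₂
  have ha : 0 < a := by have := hX.a_two; omega
  have hb : 0 < b := by omega
  obtain ⟨d, hd, hdc⟩ := h₂.exists_partner hc0 hc
  obtain ⟨T, hT, s, hs0, hTc⟩ :=
    h₂.exists_move (Or.inl (by omega)) hc'0 hc0 hc' hc
  obtain ⟨e, he, hev⟩ := hX.right hT
  have heK : e ∈ Kr Q := hS.mem_Kr_of_ten ha hb LinearMap.id (Matrix.mulVecLin (T : Matrix (Fin b) (Fin b) F))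
    fun x y => by rw [hev]; rfl
  have hg₁ : ∀ x, ∃ x', mat Q (e * g) *ᵥ ten x c = ten x' c := fun x => by
    obtain ⟨x', hx'⟩ := hg x
    exact ⟨s • x', by rw [mat_mul, ← mulVec_mulVec, hx', hev, hTc, ten_smul_right, ← ten_smul_left]⟩
  have hcd : B₂ c d = ε := by rw [h₂.symm, hdc, mul_one]
  set S₀ : (Fin a → F) →ₗ[F] (Fin a → F) :=
    ε • (evB B₂ d).comp ((Matrix.mulVecLin (mat Q (e * g))).comp (tenB.flip c)) with hS₀
  have hS₀v : ∀ x, mat Q (e * g) *ᵥ ten x c = ten (S₀ x) c := fun x => by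
    obtain ⟨x', hx'⟩ := hg₁ x
    rw [hx', hS₀]
    simp [hx', hcd, smul_smul, h₂.eps_sq]
  have hinj : Function.Injective S₀ := fun x y hxy =>
    ten_inj_left hc0 (mulVec_injective (e * g) (by
      show mat Q (e * g) *ᵥ _ = mat Q (e * g) *ᵥ _
      rw [hS₀v, hS₀v, hxy]))
  obtain ⟨r, hr, hrR, hrK⟩ := hX.exists_rad_outside (M.mul_mem he hgM)
    (fun h => hgK (by simpa using (Kr Q).mul_mem ((Kr Q).inv_mem heK) h)) hc0 hc
    (S := LinearEquiv.ofInjectiveEndo S₀ hinj) (fun x => by rw [hS₀v]; rfl)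
  by_cases hcen : M ⊓ Cen Q B₂ c ≤ Kr Q
  · obtain ⟨h, γ, σ, m, hl⟩ := hX.exists_line hb5 hc0 hc hd hdc hcen hr hrR hrK
    exact hX.omega_le_of_seed hb5 hW (hX.seed_of_line hc0 hc hd hdc hcen hl)
  · obtain ⟨γ, v, hv⟩ := hX.seed_of_cen hc0 hc hcen
    exact hX.omega_le_of_seed hb5 hW (Or.inr ⟨v, hv⟩)

end Ctx

end CfsgLib.TensorOrth
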