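import Cfsg.Agent.TensorOrth.Setup
import Cfsg.Agent.TensorMax.Reduce
import Cfsg.Agent.TensorUnitary.Product

/-!
# An element of `Ω` outside the stabiliser
-/

set_option autoImplicit false
set_option linter.unusedSectionVars false

namespace CfsgLib.TensorOrth

open Matrix Module CfsgLib.Spinor CfsgLib.OrthMax CfsgLib.Forms
open CfsgLib.TensorMax (Idx ten IsPure dependent_of_pure_add kron_mulVec_ten ten_smul_left ten_smul_right
  mem_kroneckerSubgroup_iff)
open scoped Kronecker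

variable {F : Type*} [Field F] [Fintype F] {a b : ℕ} {Q : QuadraticForm F (Idx a b → F)}
  {B₁ : LinearMap.BilinForm F (Fin a → F)} {B₂ : LinearMap.BilinForm F (Fin b → F)} {ε : F}

/-- An Eichler element at a singular pure tensor moves a pure tensor out. -/
theorem TSet.exists_omega_notMem (hS : TSet Q B₁ B₂ ε) (hn : 5 ≤ a * b) (hb : 3 ≤ b) {γ : Fin a → F}
    (hγ0 : γ ≠ 0) (hγ : B₁ γ γ = 0) {c : Fin b → F} (hc0 : c ≠ 0) (hc : B₂ c c = 0) :
    ∃ g ∈ Cfsg.Omega F ⇑Q, g ∉ Kr Q := by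
  have h₁ := hS.f₁
  have h₂ := hS.f₂
  obtain ⟨δ, hδ, hδγ⟩ := h₁.exists_partner hγ0 hγ
  obtain ⟨d, hd, hdc⟩ := h₂.exists_partner hc0 hc
  have hdim : 1 ≤ finrank F (cperp B₂ c ⊓ cperp B₂ d : Submodule F (Fin b → F)) := by
    have := h₂.finrank_le_inf (cperp B₂ c) d
    have := h₂.finrank_cperp hc0
    omega
  obtain ⟨h, hh, hh0⟩ := Submodule.exists_mem_ne_zero_of_ne_bot (p := cperp B₂ c ⊓ cperp B₂ d)
    fun h0 => by rw [h0, finrank_bot] at hdim; omega
  have hu : Q (ten γ c) = 0 := hS.quad _ _ (Or.inl hγ)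
  have huw : QuadraticMap.polar (⇑Q) (ten γ c) (ten γ h) = 0 := by rw [hS.polar, hγ, zero_mul]
  have hcard : 5 ≤ Fintype.card (Idx a b) := by
    rwa [Fintype.card_prod, Fintype.card_fin, Fintype.card_fin]
  refine ⟨_, eich_mem_omega hS.nondeg hcard hu huw, fun hK => ?_⟩
  obtain ⟨S, T, hST⟩ := hK
  have hcd : B₂ c d = ε := by rw [h₂.symm, hdc, mul_one]
  have hγδ : B₁ γ δ = ε := by rw [h₁.symm, hδγ, mul_one]
  have hhd : B₂ h d = 0 := hh.2
  have hval : mat Q (eichIso Q (ten γ c) (ten γ h) hu huw) *ᵥ ten δ d = ten δ d + ten γ h := by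
    rw [mat_eichIso, eich_mulVec, hS.polar, hS.polar, hγδ, hcd, hhd, h₁.eps_sq, one_smul, mul_zero, zero_smul,
      sub_zero, hS.quad _ _ (Or.inl hγ), zero_mul, zero_smul, sub_zero]
  have hpure : IsPure (ten δ d + ten γ h) := by
    refine ⟨(S : Matrix (Fin a) (Fin a) F) *ᵥ δ, (T : Matrix (Fin b) (Fin b) F) *ᵥ d, ?_⟩
    rw [← hval, ← kron_mulVec_ten]
    exact congrArg (· *ᵥ ten δ d) hST
  have hδ0 : δ ≠ 0 := fun h0 => by simp [h0] at hδγ
  have hd0 : d ≠ 0 := fun h0 => by simp [h0] at hdc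
  rcases dependent_of_pure_add hδ0 hd0 hpure with ⟨k, hk⟩ | ⟨k, hk⟩
  · have := congrArg (fun w => B₁ w δ) hk
    simp [hδ, hγδ, h₁.eps_ne, eq_comm] at this
  · have := congrArg (fun w => B₂ w c) hk
    simp [hdc, show B₂ h c = 0 from hh.1] at this
    exact hh0 (by rw [← hk, this, zero_smul])

end CfsgLib.TensorOrth
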