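import Cfsg.Agent.TensorOrth.Setup
import Cfsg.Agent.TensorMax.Transport
import Cfsg.Agent.AschbacherForms.FormTensor
import Cfsg.Agent.OrthMax.NondegenerateWrap

/-!
# Transport of orthogonal tensor stabilisers to tensor coordinates
-/

set_option autoImplicit false
set_option linter.unusedSectionVars false

namespace CfsgLib.TensorOrth

open Matrix Cfsg.Geo CfsgLib.TensorMax
open scoped Kronecker

variable {ι : Type} [Fintype ι] [DecidableEq ι] {F : Type*} [Field F]

/-- `Ω` in `GL` is the commutator of the isometry group there. -/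
theorem omegaGL_eq (Q : (ι → F) → F) :
    omegaGL Q = ⁅Cfsg.isometryGroup F Q, Cfsg.isometryGroup F Q⁆ := by
  rw [omegaGL, Cfsg.Omega, commutator_def, Subgroup.map_commutator, ← MonoidHom.range_eq_map,
    Subgroup.range_subtype]

theorem mem_isometryGroup {Q : (ι → F) → F} {g : GL ι F} :
    g ∈ Cfsg.isometryGroup F Q ↔ ∀ x, Q ((g : Matrix ι ι F) *ᵥ x) = Q x :=
  ⟨fun h x => h x x, fun h x _ => h x⟩

variable {a b : ℕ}

/-- The transfer to tensor coordinates. -/
noncomputable def coordIso (e : ι ≃ Fin a × Fin b) (P : GL ι F) : GL (Idx a b) F ≃* GL ι F :=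
  (glReindex e.symm).trans (MulAut.conj P)

theorem coordIso_mulVec (e : ι ≃ Fin a × Fin b) (P : GL ι F) (g : GL (Idx a b) F) (x : Idx a b → F) :
    (coordIso e P g : Matrix ι ι F) *ᵥ AschbacherForms.coords e P x
      = AschbacherForms.coords e P ((g : Matrix (Idx a b) (Idx a b) F) *ᵥ x) := by
  show ((P * glReindex e.symm g * P⁻¹ : GL ι F) : Matrix ι ι F) *ᵥ ((P : Matrix ι ι F) *ᵥ (x ∘ e)) =
    (P : Matrix ι ι F) *ᵥ (_ ∘ e)
  rw [mulVec_mulVec, ← Units.val_mul, inv_mul_cancel_right, Units.val_mul, ← mulVec_mulVec]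
  congr 1
  show (g : Matrix (Idx a b) (Idx a b) F).submatrix e.symm.symm e.symm.symm *ᵥ (x ∘ e) = _
  rw [Equiv.symm_symm, Matrix.submatrix_mulVec_equiv, Function.comp_assoc, Equiv.self_comp_symm,
    Function.comp_id]

/-- The quadratic form in tensor coordinates. -/
noncomputable def coordQuad (Q : QuadraticForm F (ι → F)) (e : ι ≃ Fin a × Fin b) (P : GL ι F) :
    QuadraticForm F (Idx a b → F) :=
  Q.comp (AschbacherForms.coords e P).toLinearMap

theorem coordQuad_apply (Q : QuadraticForm F (ι → F)) (e : ι ≃ Fin a × Fin b) (P : GL ι F)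
    (x : Idx a b → F) : coordQuad Q e P x = Q (AschbacherForms.coords e P x) := rfl

theorem polar_coordQuad (Q : QuadraticForm F (ι → F)) (e : ι ≃ Fin a × Fin b) (P : GL ι F)
    (x y : Idx a b → F) : QuadraticMap.polar (⇑(coordQuad Q e P)) x y
      = QuadraticMap.polar (⇑Q) (AschbacherForms.coords e P x) (AschbacherForms.coords e P y) := by
  simp only [QuadraticMap.polar, coordQuad_apply, map_add]

theorem coordQuad_nondeg {Q : QuadraticForm F (ι → F)} (hQ : (QuadraticMap.polarBilin Q).Nondegenerate)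
    (e : ι ≃ Fin a × Fin b) (P : GL ι F) :
    (QuadraticMap.polarBilin (coordQuad Q e P)).Nondegenerate := by
  have key : ∀ x, (∀ y, QuadraticMap.polar (⇑(coordQuad Q e P)) x y = 0) → x = 0 := by
    intro x hx
    refine (map_eq_zero_iff _ (AschbacherForms.coords e P).injective).1 (hQ.1 _ fun y => ?_)
    obtain ⟨z, rfl⟩ := (AschbacherForms.coords e P).surjective y
    show QuadraticMap.polar (⇑Q) _ _ = 0
    rw [← polar_coordQuad]
    exact hx z
  exact ⟨fun x hx => key x hx, fun y hy => key y fun z => by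
    rw [QuadraticMap.polar_comm]; exact hy z⟩

theorem map_isometryGroup (Q : QuadraticForm F (ι → F)) (e : ι ≃ Fin a × Fin b) (P : GL ι F) :
    (Cfsg.isometryGroup F ⇑(coordQuad Q e P)).map (coordIso e P).toMonoidHom
      = Cfsg.isometryGroup F ⇑Q := by
  ext g
  constructor
  · rintro ⟨h, hh, rfl⟩
    refine mem_isometryGroup.2 fun v => ?_
    obtain ⟨x, rfl⟩ := (AschbacherForms.coords e P).surjective v
    show Q ((coordIso e P h : Matrix ι ι F) *ᵥ _) = _
    rw [coordIso_mulVec]
    exact mem_isometryGroup.1 hh x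
  · intro hg
    refine ⟨(coordIso e P).symm g, mem_isometryGroup.2 fun x => ?_, (coordIso e P).apply_symm_apply g⟩
    rw [coordQuad_apply, coordQuad_apply, ← coordIso_mulVec, (coordIso e P).apply_symm_apply]
    exact mem_isometryGroup.1 hg _

/-- Maximality in tensor coordinates gives maximality. -/
theorem isMaximalIn_of_coord (Q : QuadraticForm F (ι → F)) (e : ι ≃ Fin a × Fin b) (P : GL ι F)
    (h : IsMaximalIn (omegaGL ⇑(coordQuad Q e P))
      (kroneckerSubgroup a b F ⊓ omegaGL ⇑(coordQuad Q e P))) :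
    IsMaximalIn (omegaGL ⇑Q) (tensorProductSubgroup a b e P ⊓ omegaGL ⇑Q) := by
  have hO : (omegaGL ⇑(coordQuad Q e P)).map (coordIso e P).toMonoidHom = omegaGL ⇑Q := by
    rw [omegaGL_eq, omegaGL_eq, Subgroup.map_commutator, map_isometryGroup]
  have hK : (kroneckerSubgroup a b F).map (coordIso e P).toMonoidHom = tensorProductSubgroup a b e P := by
    rw [tensorProductSubgroup, Subgroup.map_map]
    rfl
  have h' := CfsgLib.TensorMax.isMaximalIn_map (coordIso e P) h
  rwa [Subgroup.map_inf _ _ _ (coordIso e P).injective, hO, hK] at h'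

end CfsgLib.TensorOrth
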