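import Cfsg.Agent.TensorMax.Reduce

/-!
# Fusion of transvections of a factor in an overgroup
-/

set_option autoImplicit false
set_option linter.unusedSectionVars false

namespace CfsgLib.TensorOrth

open Matrix Cfsg.Geo CfsgLib.MaxSub CfsgLib.TensorMax
open scoped Kronecker

variable {F : Type*} [Field F] {a b : ℕ}

/-- An element outside a subgroup of the stabiliser fuses a transvection, or moves no pure tensor out: in both
cases some outside element maps a slice to a slice. -/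
theorem exists_slice_map [Finite F] [NeZero a] (ha : 2 ≤ a) (hab : a < b)
    {L M : Subgroup (GL (Idx a b) F)} (hLM : L ≤ M) (hLK : L ≤ kroneckerSubgroup a b F)
    (hmove : ∀ x x' : Fin a → F, ∀ y y' : Fin b → F, x ≠ 0 → x' ≠ 0 → y ≠ 0 → y' ≠ 0 → ∃ e ∈ L, ∃ k : F,
      k ≠ 0 ∧ (e : Matrix (Idx a b) (Idx a b) F) *ᵥ ten x y = k • ten x' y')
    (hroot : ∀ v : Idx a b → F, ∃ c ψ : Fin b → F, c ≠ 0 ∧ ψ ≠ 0 ∧ ψ ⬝ᵥ c = 0 ∧ root (a := a) c ψ ∈ L ∧
      (root (a := a) c ψ : Matrix (Idx a b) (Idx a b) F) *ᵥ v = v)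
    {g : GL (Idx a b) F} (hgM : g ∈ M) (hgL : g ∉ L) :
    ∃ y ∈ M, y ∉ L ∧ ∃ c c' : Fin b → F, c ≠ 0 ∧ c' ≠ 0 ∧
      ∀ x, ∃ x', (y : Matrix (Idx a b) (Idx a b) F) *ᵥ ten x c = ten x' c' := by
  classical
  have : NeZero b := ⟨by omega⟩
  set p := ringChar F
  have : Fact p.Prime := ⟨CharP.char_is_prime F p⟩
  -- a conjugate of a root element inside the tensor stabiliser gives such an element
  have fusion : ∀ y ∈ M, y ∉ L → ∀ c ψ : Fin b → F, c ≠ 0 → ψ ≠ 0 → ψ ⬝ᵥ c = 0 →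
      y * root c ψ * y⁻¹ ∈ kroneckerSubgroup a b F →
      (∃ k, (y * root c ψ * y⁻¹) ^ p ^ k = 1) →
      ∃ y ∈ M, y ∉ L ∧ ∃ c c' : Fin b → F, c ≠ 0 ∧ c' ≠ 0 ∧
        ∀ x, ∃ x', (y : Matrix (Idx a b) (Idx a b) F) *ᵥ ten x c = ten x' c' := by
    intro y hyM hyL c ψ hc hψ hcψ hmem ⟨k, hk⟩
    obtain ⟨c', ψ', hc', hψ', hcψ', he⟩ := eq_root_of_rank hab (p := p) hmem hk
      (by rw [rank_conj_sub_one, rank_root_sub_one hc hψ hcψ])
    refine ⟨y, hyM, hyL, c, c', hc, hc', fun x => ?_⟩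
    obtain ⟨w, hw⟩ : ten x c ∈ LinearMap.range
        (((root (a := a) c ψ : Matrix (Idx a b) (Idx a b) F) - 1).mulVecLin) := by
      rw [range_root_sub_one hψ hcψ]; exact ⟨x, rfl⟩
    have hmem' : (y : Matrix (Idx a b) (Idx a b) F) *ᵥ ten x c ∈ LinearMap.range
        (((root (a := a) c' ψ' : Matrix (Idx a b) (Idx a b) F) - 1).mulVecLin) := by
      refine ⟨(y : Matrix (Idx a b) (Idx a b) F) *ᵥ w, ?_⟩
      rw [← hw, ← he, mulVecLin_apply, mulVecLin_apply, mulVec_mulVec, mulVec_mulVec]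
      congr 1
      rw [sub_mul, mul_sub, Units.val_mul, Units.val_mul, one_mul, mul_one, mul_assoc, Units.inv_mul,
        mul_one]
    rw [range_root_sub_one hψ' hcψ'] at hmem'
    obtain ⟨x', hx'⟩ := hmem'
    exact ⟨x', hx'.symm⟩
  have hrootp : ∀ c ψ : Fin b → F, ψ ⬝ᵥ c = 0 → root (a := a) c ψ ^ p = 1 := by
    intro c ψ h
    apply Units.ext
    have hsq : ((1 : Matrix (Fin a) (Fin a) F) ⊗ₖ vecMulVec c ψ) ^ p = 0 :=
      pow_eq_zero_of_le (Fact.out (p := p.Prime)).two_le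
        (by rw [pow_two, ← mul_kronecker_mul, vecMulVec_sq h, kronecker_zero])
    rw [Units.val_pow_eq_pow_val, root_val h, add_pow_char_of_commute _ (Commute.one_left _), hsq,
      add_zero, one_pow, Units.val_one]
  -- a maximal `p`-subgroup of the tensor stabiliser containing a root element
  obtain ⟨c₀, ψ₀, hc₀, hψ₀, hcψ₀, hr₀, -⟩ := hroot 0
  let x₀ : L := ⟨root c₀ ψ₀, hr₀⟩
  have hx₀ : IsPGroup p (Subgroup.zpowers x₀) := by
    rintro ⟨_, n, rfl⟩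
    refine ⟨1, Subtype.ext (Subtype.ext ?_)⟩
    show ((root c₀ ψ₀) ^ n) ^ (p ^ 1) = 1
    rw [pow_one, ← zpow_natCast ((root c₀ ψ₀) ^ n), ← _root_.zpow_mul, mul_comm, _root_.zpow_mul,
      zpow_natCast, hrootp c₀ ψ₀ hcψ₀, _root_.one_zpow]
  obtain ⟨P, hP⟩ := hx₀.exists_le_sylow
  set P' : Subgroup (GL (Idx a b) F) := (P : Subgroup L).map L.subtype with hP'
  have hP'p : IsPGroup p P' := P.2.map _
  have hP'L : P' ≤ L := Subgroup.map_subtype_le _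
  have hx₀P : root c₀ ψ₀ ∈ P' := ⟨x₀, hP (Subgroup.mem_zpowers x₀), rfl⟩
  have hP'max : ∀ R : Subgroup (GL (Idx a b) F), IsPGroup p R → P' ≤ R → R ≤ L → R = P' := by
    intro R hR hPR hRL
    have h1 : IsPGroup p (R.subgroupOf L) := hR.comap_subtype
    have h2 : (P : Subgroup L) ≤ R.subgroupOf L := fun z hz => hPR ⟨z, hz, rfl⟩
    have h3 : R.subgroupOf L = (P : Subgroup L) := P.3 h1 h2
    rw [hP', ← h3, Subgroup.map_subgroupOf_eq_of_le hRL]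
  by_cases hQ : ∃ Q : Subgroup (GL (Idx a b) F), Q ≤ M ∧ IsPGroup p Q ∧ P' < Q
  · -- fusion inside a larger `p`-subgroup
    obtain ⟨Q, hQM, hQp, hPQ⟩ := hQ
    have : Finite Q := Subtype.finite
    have hnil := hQp.isNilpotent
    have hlt : P'.subgroupOf Q < Subgroup.normalizer ((P'.subgroupOf Q : Subgroup Q) : Set Q) := by
      refine Group.normalizerCondition_of_isNilpotent (P'.subgroupOf Q) (lt_top_iff_ne_top.mpr fun h => ?_)
      exact hPQ.not_ge (Subgroup.subgroupOf_eq_top.mp h)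
    obtain ⟨⟨y, hyQ⟩, hyN, hyP⟩ := SetLike.exists_of_lt hlt
    have hnorm : ∀ z ∈ P', y * z * y⁻¹ ∈ P' := fun z hz =>
      (Subgroup.mem_normalizer_iff.mp hyN ⟨z, hPQ.le hz⟩).mp hz
    have hyL : y ∉ L := by
      intro hyL
      have hle : Subgroup.closure (insert y (P' : Set (GL (Idx a b) F))) ≤ Q ⊓ L :=
        (Subgroup.closure_le _).mpr (Set.insert_subset_iff.mpr
          ⟨⟨hyQ, hyL⟩, fun z hz => ⟨hPQ.le hz, hP'L hz⟩⟩)
      have hR := hP'max _ (hQp.to_le (hle.trans inf_le_left))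
        (fun z hz => Subgroup.subset_closure (Set.mem_insert_of_mem _ hz)) (hle.trans inf_le_right)
      exact hyP (hR ▸ Subgroup.subset_closure (Set.mem_insert _ _) : y ∈ P')
    have hconj := hnorm _ hx₀P
    obtain ⟨k, hk⟩ := hP'p ⟨_, hconj⟩
    exact fusion y (hQM hyQ) hyL c₀ ψ₀ hc₀ hψ₀ hcψ₀ (hLK (hP'L hconj)) ⟨k, congrArg Subtype.val hk⟩
  push Not at hQ
  -- now `P'` is a Sylow subgroup of `M`; use a moved pure tensor
  obtain ⟨x₁, y₁, hx₁, hy₁, hfix⟩ := exists_fixed_pure hP'p (fun z hz => hLK (hP'L hz))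
  by_cases hpres : ∀ x y, IsPure ((g : Matrix (Idx a b) (Idx a b) F) *ᵥ ten x y)
  · obtain ⟨c, c', hc, hc', h⟩ := exists_block_of_preserves ha hab g hpres
    exact ⟨g, hgM, hgL, c, c', hc, hc', h⟩
  push Not at hpres
  obtain ⟨x₂, y₂, hnp⟩ := hpres
  have hx₂ : x₂ ≠ 0 := fun h => hnp ⟨0, 0, by
    rw [h, ten_eq_zero.mpr (Or.inl rfl), mulVec_zero, ten_eq_zero.mpr (Or.inl rfl)]⟩
  have hy₂ : y₂ ≠ 0 := fun h => hnp ⟨0, 0, by
    rw [h, ten_eq_zero.mpr (Or.inr rfl), mulVec_zero, ten_eq_zero.mpr (Or.inl rfl)]⟩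
  obtain ⟨e, heL, k, hk, hev⟩ := hmove x₁ x₂ y₁ y₂ hx₁ hx₂ hy₁ hy₂
  -- `h` moves the fixed pure tensor to a non-pure vector
  set h := g * e with hh
  have hhM : h ∈ M := M.mul_mem hgM (hLM heL)
  set v := (h : Matrix (Idx a b) (Idx a b) F) *ᵥ ten x₁ y₁ with hv
  have hvnp : ¬ IsPure v := by
    rintro ⟨x, y, he⟩
    refine hnp ⟨k⁻¹ • x, y, ?_⟩
    rw [hv, hh, Units.val_mul, ← mulVec_mulVec, hev, mulVec_smul] at he
    rw [ten_smul_left, ← he, smul_smul, inv_mul_cancel₀ hk, one_smul]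
  -- a root element fixing it
  obtain ⟨c, ψ, hc, hψ, hcψ, hrL, hrv⟩ := hroot v
  -- the stabiliser of `ten x₁ y₁` in `M`
  let Mw : Subgroup (GL (Idx a b) F) :=
    { carrier := {z | z ∈ M ∧ (z : Matrix (Idx a b) (Idx a b) F) *ᵥ ten x₁ y₁ = ten x₁ y₁}
      one_mem' := ⟨M.one_mem, by rw [Units.val_one, one_mulVec]⟩
      mul_mem' := fun {z w} hz hw =>
        ⟨M.mul_mem hz.1 hw.1, by rw [Units.val_mul, ← mulVec_mulVec, hw.2, hz.2]⟩
      inv_mem' := fun {z} hz => ⟨M.inv_mem hz.1, by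
        conv_lhs => rw [← hz.2]
        rw [mulVec_mulVec, Units.inv_mul, one_mulVec]⟩ }
  have hzmem : h⁻¹ * root c ψ * h ∈ Mw := by
    refine ⟨M.mul_mem (M.mul_mem (M.inv_mem hhM) (hLM hrL)) hhM, ?_⟩
    rw [Units.val_mul, Units.val_mul, ← mulVec_mulVec, ← mulVec_mulVec, ← hv, hrv, hv, mulVec_mulVec,
      Units.inv_mul, one_mulVec]
  have hP'Mw : P' ≤ Mw := fun z hz => ⟨hLM (hP'L hz), hfix z hz⟩
  let S₁ : Sylow p Mw := ⟨P'.subgroupOf Mw, hP'p.comap_subtype, by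
    intro R hR hle
    have h1 : IsPGroup p (R.map Mw.subtype) := hR.map _
    have h2 : P' ≤ R.map Mw.subtype := by
      rw [← Subgroup.map_subgroupOf_eq_of_le hP'Mw]; exact Subgroup.map_mono hle
    have h3 : ¬ P' < R.map Mw.subtype :=
      hQ _ ((Subgroup.map_subtype_le _).trans (fun z hz => hz.1)) h1
    have h4 : R.map Mw.subtype = P' := (eq_of_le_of_not_lt h2 h3).symm
    show R = P'.subgroupOf Mw
    rw [← h4, Subgroup.subgroupOf, Subgroup.comap_map_eq_self_of_injective Mw.subtype_injective]⟩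
  let z : Mw := ⟨_, hzmem⟩
  have hzp : IsPGroup p (Subgroup.zpowers z) := by
    have hz1 : z ^ p = 1 := Subtype.ext (by
      show (h⁻¹ * root c ψ * h) ^ p = 1
      have := conj_pow (i := p) (a := h⁻¹) (b := root (a := a) c ψ)
      rw [inv_inv] at this
      rw [this, hrootp c ψ hcψ, mul_one, inv_mul_cancel])
    rintro ⟨_, n, rfl⟩
    refine ⟨1, Subtype.ext ?_⟩
    show (z ^ n) ^ (p ^ 1) = 1
    rw [pow_one, ← zpow_natCast (z ^ n), ← _root_.zpow_mul, mul_comm, _root_.zpow_mul, zpow_natCast, hz1,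
      _root_.one_zpow]
  obtain ⟨S₂, hS₂⟩ := hzp.exists_le_sylow
  obtain ⟨k, hk⟩ := MulAction.exists_smul_eq Mw S₂ S₁
  have hkz : k * z * k⁻¹ ∈ (S₁ : Subgroup Mw) := by
    rw [← hk, Sylow.coe_subgroup_smul]
    exact ⟨z, hS₂ (Subgroup.mem_zpowers z), rfl⟩
  have hconj : ((k : GL (Idx a b) F) * h⁻¹) * root c ψ * ((k : GL (Idx a b) F) * h⁻¹)⁻¹ ∈ P' := by
    have h' : ((k * z * k⁻¹ : Mw) : GL (Idx a b) F) ∈ P' := hkz
    convert h' using 1
    simp only [Subgroup.coe_mul, Subgroup.coe_inv, z]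
    group
  obtain ⟨i, hi⟩ := hP'p ⟨_, hconj⟩
  refine fusion _ (M.mul_mem k.2.1 (M.inv_mem hhM)) (fun hyL => hvnp ?_) c ψ hc hψ hcψ (hLK (hP'L hconj))
    ⟨i, congrArg Subtype.val hi⟩
  obtain ⟨S', T', he⟩ := (hLK (L.inv_mem hyL))
  have hk1 : ((k⁻¹ : Mw) : GL (Idx a b) F).val *ᵥ ten x₁ y₁ = ten x₁ y₁ := (k⁻¹).2.2
  have hhk : h = ((k : GL (Idx a b) F) * h⁻¹)⁻¹ * (k : GL (Idx a b) F) := by group
  refine ⟨(S' : Matrix (Fin a) (Fin a) F) *ᵥ x₁, (T' : Matrix (Fin b) (Fin b) F) *ᵥ y₁, ?_⟩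
  rw [hv, hhk, Units.val_mul, ← mulVec_mulVec, k.2.2, he, kron_mulVec_ten]

end CfsgLib.TensorOrth
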