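import Cfsg.Agent.TensorOrth.EndGame
import Cfsg.Agent.TensorOrth.Fusion
import Cfsg.Agent.TensorOrth.Proper
import Cfsg.Agent.TensorOrth.Transport

/-!
# Stabilisers of symplectic ⊗ symplectic decompositions are maximal in `Ω`
-/

set_option autoImplicit false
set_option linter.unusedSectionVars false

namespace CfsgLib.TensorOrth

open Matrix Module CfsgLib.Spinor CfsgLib.OrthMax
open CfsgLib.TensorMax (Idx ten krG root ten_smul_left ten_smul_right kron_mulVec_ten krG_val root_val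
  one_kron_vecMulVec_mulVec ten_eq_zero ten_inj_left ten_add_right)
open scoped Kronecker

variable {F : Type*} [Field F] [Fintype F] {a b : ℕ} {Q : QuadraticForm F (Idx a b → F)}
  {B₁ : LinearMap.BilinForm F (Fin a → F)} {B₂ : LinearMap.BilinForm F (Fin b → F)} {ε : F}

/-- An overgroup in `Ω` of the stabiliser of a symplectic ⊗ symplectic decomposition. -/
theorem TSet.omega_le_of_alt (hS : TSet Q B₁ B₂ ε) (ha₁ : ∀ x, B₁ x x = 0) (ha : 2 ≤ a) (hb : 5 ≤ b)
    (hab : a < b) (hex : Nat.card F ≠ 2 ∨ 3 ≤ a) {M : Subgroup (Isom Q)}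
    (hM : ∀ g ∈ Cfsg.Omega F ⇑Q, g ∈ Kr Q → g ∈ M) {g : Isom Q} (hgM : g ∈ M)
    (hgΩ : g ∈ Cfsg.Omega F ⇑Q) (hgK : g ∉ Kr Q) : Cfsg.Omega F ⇑Q ≤ M := by
  have h₁ := hS.f₁
  have h₂ := hS.f₂
  have : NeZero a := ⟨by omega⟩
  have ha₂ := hS.alt_right ha₁ (by omega)
  have hn : 5 ≤ a * b := le_trans hb (Nat.le_mul_of_pos_left b (by omega))
  have hX : Ctx Q B₁ B₂ ε M := ⟨hS, ha, (by omega), Or.inl ⟨ha₁, hex⟩, Or.inl ha₁, hM⟩
  set L₀ : Subgroup (Isom Q) := Cfsg.Omega F ⇑Q ⊓ Kr Q with hL₀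
  have hL := hS.lifts (M := L₀) hn fun g h h' => ⟨h, h'⟩
  let sub := (Cfsg.isometryGroup F ⇑Q).subtype
  have hsub : Function.Injective sub := Subgroup.subtype_injective _
  obtain ⟨y, hy, hyL, c, c', hc, hc', hyc⟩ := exists_slice_map (a := a) ha hab
    (L := L₀.map sub) (M := (M ⊓ Cfsg.Omega F ⇑Q).map sub)
    (Subgroup.map_mono fun k hk => ⟨hM k hk.1 hk.2, hk.1⟩)
    (by rintro _ ⟨k, hk, rfl⟩; exact hk.2)
    (by
      intro x x' u u' hx hx' hu hu'
      obtain ⟨S, hSm, s, hs, hSx⟩ := h₁.exists_move (Or.inr ha₁) hx hx' (ha₁ _) (ha₁ _)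
      obtain ⟨T, hTm, t, ht, hTu⟩ := h₂.exists_move (Or.inr ha₂) hu hu' (ha₂ _) (ha₂ _)
      obtain ⟨e, he, hev⟩ := hL.left S hSm
      obtain ⟨f, hf, hfv⟩ := hL.right T hTm
      refine ⟨sub (e * f), Subgroup.mem_map_of_mem _ (L₀.mul_mem he hf), s * t, mul_ne_zero hs ht, ?_⟩
      show mat Q (e * f) *ᵥ ten x u = _
      rw [mat_mul, ← mulVec_mulVec, ← tenB_apply, hfv, hev, tenB_apply, hSx, hTu, ten_smul_left,
        ten_smul_right, smul_smul])
    (by
      intro v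
      obtain ⟨c, hc0, hcv⟩ : ∃ c : Fin b → F, c ≠ 0 ∧ ∀ i, B₂ (fun k => v (i, k)) c = 0 := by
        let f : (Fin b → F) →ₗ[F] (Fin a → F) := LinearMap.pi fun i => B₂ fun k => v (i, k)
        have hker : LinearMap.ker f ≠ ⊥ := LinearMap.ker_ne_bot_of_finrank_lt (by
          rw [Module.finrank_fin_fun, Module.finrank_fin_fun]; exact hab)
        obtain ⟨c, hc, hc0⟩ := Submodule.exists_mem_ne_zero_of_ne_bot hker
        exact ⟨c, hc0, fun i => congrFun hc i⟩
      set ψ : Fin b → F := fun i => B₂ (Pi.single i 1) c with hψ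
      have hψy : ∀ y, ψ ⬝ᵥ y = B₂ y c := fun y => by
        conv_rhs => rw [← Finset.univ_sum_single y]
        rw [map_sum, LinearMap.sum_apply, dotProduct]
        refine Finset.sum_congr rfl fun i _ => ?_
        rw [hψ, show (Pi.single i (y i) : Fin b → F) = y i • Pi.single i 1 by
          rw [← Pi.single_smul', smul_eq_mul, mul_one], map_smul, LinearMap.smul_apply, smul_eq_mul, mul_comm]
      have hψc : ψ ⬝ᵥ c = 0 := by rw [hψy, ha₂]
      have hψ0 : ψ ≠ 0 := fun h0 => hc0 (h₂.sep' fun y => by rw [← hψy, h0, zero_dotProduct])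
      have he : ε = -1 := by
        rcases h₂.kind with ⟨he, h2⟩ | h
        · refine absurd ?_ h2
          obtain ⟨z, hz⟩ := h₂.exists_one hc0
          have h3 := ha₂ (c + z)
          simp only [map_add, LinearMap.add_apply, ha₂, hz, h₂.symm c z, he] at h3
          linear_combination h3
        · exact h.1
      have hk : (1 : F) * (1 + ε) + B₂ 0 0 = 0 := by simp [he]
      obtain ⟨f, hf, hfv⟩ := hL.right _ (h₂.eGL_mem (ha₂ c) (show B₂ 0 c = 0 by simp) hk)
      refine ⟨c, ψ, hc0, hψ0, hψc, ⟨f, hf, Units.ext (TensorUnitary.mat_ext_ten fun x y => ?_)⟩, ?_⟩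
      · show mat Q f *ᵥ ten x y = _
        simp only [tenB_apply] at hfv
        rw [hfv, h₂.eGL_mulVec, esie_apply, root_val hψc, add_mulVec, one_mulVec,
          one_kron_vecMulVec_mulVec]
        rw [show (fun i => ψ ⬝ᵥ fun k => ten x y (i, k)) = (ψ ⬝ᵥ y) • x from funext fun i => by
          rw [show (fun k => ten x y (i, k)) = x i • y from rfl, dotProduct_smul, Pi.smul_apply, smul_eq_mul,
            smul_eq_mul, mul_comm], hψy]
        simp [ten_add_right, ten_smul_left, ten_smul_right]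
      · rw [root_val hψc, add_mulVec, one_mulVec, one_kron_vecMulVec_mulVec, add_eq_left, ten_eq_zero]
        exact Or.inl (funext fun i => by rw [hψy]; exact hcv i))
    (g := sub g) (Subgroup.mem_map_of_mem _ ⟨hgM, hgΩ⟩)
    (fun h => hgK (by obtain ⟨k, hk, hke⟩ := h; rw [← hsub hke]; exact hk.2))
  obtain ⟨k, ⟨hkM, hkΩ⟩, rfl⟩ := hy
  exact hX.omega_le_of_slice hb (Or.inr (Or.inl ha₁)) hkM (fun hK => hyL ⟨k, ⟨hkΩ, hK⟩, rfl⟩) hc (ha₂ _) hc'
    (ha₂ _) hyc

end CfsgLib.TensorOrth
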