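import Cfsg.Agent.TensorOrth.CentralTools

/-!
# An element fixing the shape of a singular slice gives a seed: central elements and the first step
-/

set_option autoImplicit false
set_option linter.unusedSectionVars false

namespace CfsgLib.TensorOrth

open Matrix Module CfsgLib.Spinor CfsgLib.OrthMax CfsgLib.Forms
open CfsgLib.TensorMax (Idx ten krG ten_add_left ten_add_right ten_smul_left
  ten_smul_right ten_eq_zero ten_inj_left ten_inj_right)
open CfsgLib.TensorUnitary (ten_induction rowDot rowDot_ten)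

variable {F : Type*} [Field F] [Fintype F] {a b : ℕ} {Q : QuadraticForm F (Idx a b → F)}
  {B₁ : LinearMap.BilinForm F (Fin a → F)} {B₂ : LinearMap.BilinForm F (Fin b → F)} {ε : F}

/-- The hypotheses of the central step. -/
structure Ctx (Q : QuadraticForm F (Idx a b → F)) (B₁ : LinearMap.BilinForm F (Fin a → F))
    (B₂ : LinearMap.BilinForm F (Fin b → F)) (ε : F) (M : Subgroup (Isom Q)) : Prop where
  tset : TSet Q B₁ B₂ ε
  a_two : 2 ≤ a
  b_three : 3 ≤ b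
  shapeOK : ShapeOK B₁
  moveOK : (∀ x, B₁ x x = 0) ∨ Nat.card F ≠ 3 ∨ 5 ≤ a ∨ (4 ≤ a ∧ NoPlane B₁)
  mem : ∀ g ∈ Cfsg.Omega F ⇑Q, g ∈ Kr Q → g ∈ M

namespace Ctx

variable {M : Subgroup (Isom Q)} (hX : Ctx Q B₁ B₂ ε M)
include hX

theorem card_ok : 5 ≤ a * b := le_trans (by omega : 5 ≤ 2 * 3) (Nat.mul_le_mul hX.a_two hX.b_three)

theorem left {E : GL (Fin a) F} (hE : E ∈ fgrp B₁ ε) :
    ∃ e ∈ M, ∀ x y, mat Q e *ᵥ ten x y = ten ((E : Matrix (Fin a) (Fin a) F) *ᵥ x) y :=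
  hX.tset.exists_left hX.card_ok hX.mem hE

theorem right {T : GL (Fin b) F} (hT : T ∈ fgrp B₂ ε) :
    ∃ e ∈ M, ∀ x y, mat Q e *ᵥ ten x y = ten x ((T : Matrix (Fin b) (Fin b) F) *ᵥ y) :=
  (hX.tset.lifts hX.card_ok hX.mem).right T hT

theorem first_ok : 3 ≤ a ∨ ∀ x, B₁ x x = 0 := by
  rcases hX.shapeOK with ⟨h, -⟩ | ⟨h, -⟩
  · exact Or.inr h
  · exact Or.inl h

theorem exists_iso_left : ∃ γ, γ ≠ 0 ∧ B₁ γ γ = 0 := by
  rcases hX.first_ok with h | h
  · obtain ⟨x, -, hx0, hx⟩ := hX.tset.f₁.exists_iso ⊤ (by rw [finrank_top, Module.finrank_fin_fun]; omega)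
    exact ⟨x, hx0, hx⟩
  · exact ⟨Pi.single ⟨0, by have := hX.a_two; omega⟩ 1, by simp, h _⟩

/-- A vector of `c⊥` in terms of the shape data. -/
theorem scalar_of_fixMod {A : (Fin a → F) →ₗ[F] (Fin a → F)}
    (hA : ∀ γ, B₁ γ γ = 0 → γ ≠ 0 → FixMod B₁ ε γ A) : ∃ l : F, ∀ x, A x = l • x := by
  have h₁ := hX.tset.f₁
  obtain ⟨γ, hγ0, hγ⟩ := hX.exists_iso_left
  obtain ⟨δ, hδ, hδγ⟩ := h₁.exists_partner hγ0 hγ
  have key : ∀ γ δ, B₁ γ γ = 0 → B₁ δ δ = 0 → B₁ δ γ = 1 →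
      ∃ l : F, A γ = l • γ ∧ ∀ x, B₁ (A x) γ = l * B₁ x γ := by
    intro γ δ hγ hδ hδγ
    have hγ0 : γ ≠ 0 := fun h => by simp [h] at hδγ
    obtain ⟨l, v, σ, hvγ, -, hA'⟩ := h₁.shape hX.shapeOK hγ hδ hδγ (hA γ hγ hγ0)
    exact ⟨l, by rw [hA']; simp [hγ, h₁.orth_comm hvγ], fun x => by rw [hA']; simp [hγ, hvγ]⟩
  obtain ⟨l, -, hl⟩ := key γ δ hγ hδ hδγ
  refine ⟨l, fun x => ?_⟩
  suffices h : LinearMap.ker (A - l • LinearMap.id) = ⊤ by
    have := (h ▸ Submodule.mem_top : x ∈ LinearMap.ker (A - l • LinearMap.id))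
    simpa [sub_eq_zero] using this
  refine h₁.span_nonorth hX.first_ok hγ0 hγ fun d hd hdγ => ?_
  set d' := (B₁ d γ)⁻¹ • d with hd'
  have hd'd : B₁ d' d' = 0 := by simp [hd', hd]
  have hγd : B₁ (ε • γ) d' = 1 := by
    simp only [hd', map_smul, LinearMap.smul_apply, smul_eq_mul, h₁.symm γ d]
    field_simp
    linear_combination h₁.eps_sq
  obtain ⟨l', hl', -⟩ := key d' (ε • γ) hd'd (by simp [hγ]) hγd
  have hpair := hl d'
  rw [hl', map_smul, LinearMap.smul_apply, smul_eq_mul] at hpair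
  have hne : B₁ d' γ ≠ 0 := by simp [hd', hdγ]
  rw [mul_right_cancel₀ hne hpair] at hl'
  simp only [LinearMap.mem_ker, LinearMap.sub_apply, LinearMap.smul_apply, LinearMap.id_apply, sub_eq_zero]
  rw [hd', map_smul, smul_comm, (smul_right_injective _ (inv_ne_zero hdγ)).eq_iff] at hl'
  exact hl'

/-- If the radical elements lie in `Kr`, the translation part is fixed modulo scalars. -/
theorem fixMod_of_shape {c : Fin b → F} (hno : ∀ r ∈ M, r ∈ Rad Q B₂ c → r ∈ Kr Q) {g : Isom Q}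
    (hgM : g ∈ M) (hc0 : c ≠ 0)
    {S : (Fin a → F) ≃ₗ[F] (Fin a → F)} (hgc : ∀ x, mat Q g *ᵥ ten x c = ten (S x) c)
    {μ : F} (hμ : μ ≠ 0) (hsim : ∀ x x', B₁ (S x) (S x') = μ * B₁ x x') {y₀ y₁ : Fin b → F}
    (C : (Fin a → F) →ₗ[F] (Fin a → F))
    (hg : ∀ x, mat Q g *ᵥ ten x y₀ = ten (S x) y₁ + ten (S (C x)) c)
    (hz : ∀ (E : GL (Fin a) F) (e e' : Isom Q),
        (∀ x y, mat Q e *ᵥ ten x y = ten ((E : Matrix (Fin a) (Fin a) F) *ᵥ x) y) →
        (∀ x y, mat Q e' *ᵥ ten x y = ten (S ((E : Matrix (Fin a) (Fin a) F) *ᵥ S.symm x)) y) →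
        (∀ x, mat Q (g * e * g⁻¹ * e'⁻¹) *ᵥ ten x c = ten x c) →
        g * e * g⁻¹ * e'⁻¹ ∈ Rad Q B₂ c)
    (γ : Fin a → F) (hγ : B₁ γ γ = 0) : FixMod B₁ ε γ C := by
  intro zz k hz' hk
  have h₁ := hX.tset.f₁
  set E := h₁.eGL hγ hz' k with hE
  have hEm : E ∈ fgrp B₁ ε := h₁.eGL_mem hγ hz' hk
  obtain ⟨e, he, hev⟩ := hX.left hEm
  -- the conjugate by `S` is again a Siegel element
  have hSγ : B₁ (S γ) (S γ) = 0 := by rw [hsim, hγ, mul_zero]
  have hSz : B₁ (μ⁻¹ • S zz) (S γ) = 0 := by simp [hsim, hz']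
  have hk' : k / μ * (1 + ε) + B₁ (μ⁻¹ • S zz) (μ⁻¹ • S zz) = 0 := by
    simp only [map_smul, LinearMap.smul_apply, smul_eq_mul, hsim]
    field_simp
    linear_combination hk
  obtain ⟨e', he', he'v⟩ := hX.left (h₁.eGL_mem hSγ hSz hk')
  have hconj : ∀ x, esie B₁ ε (S γ) (μ⁻¹ • S zz) (k / μ) x = S (esie B₁ ε γ zz k (S.symm x)) := by
    intro x
    obtain ⟨y, rfl⟩ := S.surjective x
    simp only [esie_apply, map_add, map_sub, map_smul, hsim, LinearEquiv.symm_apply_apply, smul_eq_mul]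
    match_scalars <;> field_simp
  have he'v' : ∀ x y, mat Q e' *ᵥ ten x y = ten (S ((E : Matrix (Fin a) (Fin a) F) *ᵥ S.symm x)) y :=
    fun x y => by rw [he'v, h₁.eGL_mulVec, hconj, hE, h₁.eGL_mulVec]
  set z := g * e * g⁻¹ * e'⁻¹ with hzdef
  have hzc : ∀ x, mat Q z *ᵥ ten x c = ten x c := by
    intro x
    obtain ⟨y, rfl⟩ : ∃ y, S ((E : Matrix (Fin a) (Fin a) F) *ᵥ y) = x :=
      ⟨((E⁻¹ : GL (Fin a) F) : Matrix (Fin a) (Fin a) F) *ᵥ S.symm x, by
        rw [mulVec_mulVec, Units.mul_inv, one_mulVec, LinearEquiv.apply_symm_apply]⟩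
    have h1 : mat Q e' *ᵥ (mat Q g *ᵥ ten y c) = mat Q g *ᵥ (mat Q e *ᵥ ten y c) := by
      rw [hgc, he'v', LinearEquiv.symm_apply_apply, hev, hgc]
    conv_lhs => rw [← hgc, ← hev, ← h1]
    rw [hzdef]
    simp only [mat_mul, ← mulVec_mulVec, mulVec_cancel]
    rw [hev, hgc]
  have hzR := hz E e e' hev he'v' hzc
  obtain ⟨T, -, -, hT⟩ := hX.tset.rad_kr (by have := hX.a_two; omega) hc0 hzR
    (hno z (M.mul_mem (M.mul_mem (M.mul_mem hgM he) (M.inv_mem hgM)) (M.inv_mem he')) hzR)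
  have key : ∀ x, ten (S ((E : Matrix (Fin a) (Fin a) F) *ᵥ x)) (T y₁ - y₁)
      = ten (S (C ((E : Matrix (Fin a) (Fin a) F) *ᵥ x)) - S ((E : Matrix (Fin a) (Fin a) F) *ᵥ C x)) c := by
    intro x
    have h1 : mat Q z *ᵥ (mat Q e' *ᵥ (mat Q g *ᵥ ten x y₀)) = mat Q g *ᵥ (mat Q e *ᵥ ten x y₀) := by
      rw [hzdef]
      simp only [mat_mul, ← mulVec_mulVec, mulVec_cancel]
    rw [hev, hg, hg, mulVec_add, he'v', he'v', mulVec_add, hzc, hT] at h1
    simp only [LinearEquiv.symm_apply_apply] at h1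
    have d1 : ∀ (x : Fin a → F) (y y' : Fin b → F), ten x (y - y') = ten x y - ten x y' := fun x y y' =>
      map_sub (tenB x) y y'
    have d2 : ∀ (x x' : Fin a → F) (y : Fin b → F), ten (x - x') y = ten x y - ten x' y := fun x x' y =>
      LinearMap.map_sub₂ tenB x x' y
    rw [d1, d2]
    linear_combination (norm := module) h1
  obtain ⟨i, -⟩ : ∃ i : Fin a, True := ⟨⟨0, by have := hX.a_two; omega⟩, trivial⟩
  obtain ⟨s, -, hs⟩ := split_ten (by have := hX.a_two; omega)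
    (A := fun x => S ((E : Matrix (Fin a) (Fin a) F) *ᵥ x))
    ⟨Pi.single i 1, fun h => by
      rw [map_eq_zero_iff _ S.injective] at h
      exact (show (Pi.single i 1 : Fin a → F) ≠ 0 by simp)
        (Matrix.mulVec_injective_iff_isUnit.2 E.isUnit (h.trans (mulVec_zero _).symm))⟩ hc0 key
  refine ⟨-s, fun x => S.injective ?_⟩
  have := hs x
  simp only [hE, h₁.eGL_mulVec] at this
  rw [map_sub, map_smul, neg_smul]
  linear_combination (norm := module) -this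

/-- If the radical elements lie in `Kr`, an element fixing the shape of `F^a ⊗ c` keeps the shape of the
pure tensors orthogonal to it. -/
theorem perp_pure {c : Fin b → F} (hc0 : c ≠ 0) (hc : B₂ c c = 0)
    (hno : ∀ r ∈ M, r ∈ Rad Q B₂ c → r ∈ Kr Q) {g : Isom Q} (hgM : g ∈ M)
    {S : (Fin a → F) ≃ₗ[F] (Fin a → F)} (hgc : ∀ x, mat Q g *ᵥ ten x c = ten (S x) c) :
    (∃ μ : F, μ ≠ 0 ∧ ∀ x x', B₁ (S x) (S x') = μ * B₁ x x') ∧
      ∀ u, B₂ u c = 0 → ∃ u', B₂ u' c = 0 ∧ ∀ x, mat Q g *ᵥ ten x u = ten (S x) u' := by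
  have hS := hX.tset
  have h₁ := hS.f₁
  have h₂ := hS.f₂
  have ha : 0 < a := by have := hX.a_two; omega
  obtain ⟨d, hd, hdc⟩ := h₂.exists_partner hc0 hc
  have hgc' : ∀ x, ∃ x', mat Q g *ᵥ ten x' c = ten x c := fun x =>
    ⟨S.symm x, by rw [hgc, LinearEquiv.apply_symm_apply]⟩
  have hgi : ∀ x, mat Q g⁻¹ *ᵥ ten x c = ten (S.symm x) c := fun x => mulVec_injective g (by
    show mat Q g *ᵥ _ = mat Q g *ᵥ _
    rw [mulVec_cancel', hgc, LinearEquiv.apply_symm_apply])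
  have hgi' : ∀ x, ∃ x', mat Q g⁻¹ *ᵥ ten x' c = ten x c := fun x =>
    ⟨S x, by rw [hgi, LinearEquiv.symm_apply_apply]⟩
  let e₀ : Fin a → F := Pi.single ⟨0, ha⟩ 1
  have he₀ : e₀ ≠ 0 := by simp [e₀]
  obtain ⟨l, hl'⟩ := CfsgLib.MaxSub.exists_dot_eq_one
    (show S e₀ ≠ 0 from fun h => he₀ ((map_eq_zero_iff _ S.injective).1 h))
  set T : (Fin b → F) →ₗ[F] (Fin b → F) :=
    (rowDot l).comp ((Matrix.mulVecLin (mat Q g)).comp (tenB e₀)) with hTdef
  have hTB : ∀ u w, B₂ (T u) w = l ⬝ᵥ evB B₂ w (mat Q g *ᵥ ten e₀ u) := by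
    intro u w
    rw [hTdef, LinearMap.comp_apply, LinearMap.comp_apply, mulVecLin_apply, tenB_apply]
    show B₂ (∑ i, l i • TensorUnitary.row (mat Q g *ᵥ ten e₀ u) i) w = _
    simp [dotProduct, evB_apply]
    rfl
  have hquot : ∀ u, B₂ u c = 0 → ∀ w, B₂ w c = 0 → ∀ x,
      evB B₂ w (mat Q g *ᵥ ten x u) = B₂ (T u) w • S x := by
    intro u hu w hw
    obtain ⟨k, hk⟩ := h₂.exists_param w
    obtain ⟨q, hq, hqv⟩ := hX.right (h₂.eGL_mem hc hw hk)
    have hqv' : ∀ v, mat Q q *ᵥ v = v + ten (evB B₂ c v) w - ε • ten (evB B₂ w v) c + k • ten (evB B₂ c v) c := by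
      intro v
      induction v using ten_induction with
      | hadd v v' hv hv' =>
        rw [mulVec_add, hv, hv', map_add, map_add, ten_add_left, ten_add_left, ten_add_left, smul_add, smul_add]
        abel
      | h0 => simp
      | h x y =>
        rw [hqv, h₂.eGL_mulVec, esie_apply, evB_ten, evB_ten, sub_eq_add_neg, ten_add_right, ten_add_right,
          ten_add_right, ← neg_smul, ten_smul_right, ten_smul_right, ten_smul_right, ten_smul_left,
          ten_smul_left, ten_smul_left, smul_smul, smul_smul, neg_smul]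
        abel
    set z := g⁻¹ * q * g with hzdef
    have hzv : ∀ v, evB B₂ c v = 0 →
        mat Q z *ᵥ v = v + ten (-ε • S.symm (evB B₂ w (mat Q g *ᵥ v))) c := by
      intro v hv
      rw [hzdef, mat_mul, mat_mul, ← mulVec_mulVec, ← mulVec_mulVec, hqv', hS.evB_mulVec_eq_zero hgc' hv,
        ten_zero_left, ten_zero_left, smul_zero, add_zero, add_zero, mulVec_sub, mulVec_cancel, mulVec_smul,
        hgi, ten_smul_left, neg_smul, sub_eq_add_neg]
    have hzR : z ∈ Rad Q B₂ c := ⟨fun x => by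
      rw [hzv _ (by simp [hc]), hgc]
      simp [h₂.orth_comm hw, ten_eq_zero], fun v hv => ⟨_, hzv v hv⟩⟩
    obtain ⟨Tz, -, -, hTz⟩ := hS.rad_kr ha hc0 hzR (hno z (M.mul_mem (M.mul_mem (M.inv_mem hgM) hq) hgM) hzR)
    obtain ⟨φ, -, hφ⟩ := split_ten ha (A := fun x : Fin a → F => x) ⟨e₀, he₀⟩ hc0 (y := Tz u - u)
      (D := fun x => -ε • S.symm (evB B₂ w (mat Q g *ᵥ ten x u))) fun x => by
        have h1 := hzv (ten x u) (by simp [hu])
        rw [hTz] at h1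
        rw [show ten x (Tz u - u) = ten x (Tz u) - ten x u from map_sub (tenB x) _ _, h1, add_sub_cancel_left]
    have hev : ∀ x, evB B₂ w (mat Q g *ᵥ ten x u) = (-ε * φ) • S x := by
      intro x
      have h1 := congrArg S (hφ x)
      rw [map_smul, LinearEquiv.apply_symm_apply, map_smul] at h1
      rw [← smul_smul, ← h1, smul_smul]
      simp [h₂.eps_sq]
    intro x
    rw [hev x, hTB, hev e₀, dotProduct_smul, hl', smul_eq_mul, mul_one]
  have hTc : ∀ u, B₂ u c = 0 → B₂ (T u) c = 0 := fun u hu => by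
    rw [hTB, hS.evB_mulVec_eq_zero hgc' (by simp [hu]), dotProduct_zero]
  set C : (Fin b → F) → (Fin a → F) →ₗ[F] (Fin a → F) := fun u =>
    S.symm.toLinearMap.comp (ε • (evB B₂ d).comp
      ((Matrix.mulVecLin (mat Q g)).comp (tenB.flip u) - (tenB.flip (T u)).comp S.toLinearMap)) with hC
  have hgu : ∀ u, B₂ u c = 0 → ∀ x, mat Q g *ᵥ ten x u = ten (S x) (T u) + ten (S (C u x)) c := by
    intro u hu x
    have h := hS.eq_ten_of_evB hdc (z := mat Q g *ᵥ ten x u - ten (S x) (T u)) fun w hw => by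
      rw [map_sub, hquot u hu w hw, evB_ten, sub_self]
    rw [← sub_eq_iff_eq_add', h]
    congr 1
    simp [hC]
  obtain ⟨u₀, hu₀, u₁, hu₁, hu01⟩ : ∃ u₀, B₂ u₀ c = 0 ∧ ∃ u₁, B₂ u₁ c = 0 ∧ B₂ u₁ u₀ = 1 := by
    obtain ⟨g₀, hg₀, hg0⟩ := (Submodule.ne_bot_iff (cperp B₂ c ⊓ cperp B₂ d)).1 (fun h => by
      have h1 := h₂.finrank_cperp hc0
      have h2 := h₂.finrank_le_inf (cperp B₂ c) d
      rw [h, finrank_bot] at h2
      have := hX.b_three
      omega)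
    obtain ⟨y, hy⟩ := h₂.exists_one hg0
    have hy' := h₂.sub_mem_pair hc hd hdc y
    exact ⟨g₀, hg₀.1, _, hy'.1, by
      simp [hy, h₂.orth_comm (show B₂ g₀ c = 0 from hg₀.1), h₂.orth_comm (show B₂ g₀ d = 0 from hg₀.2)]⟩
  have hforms : ∀ x x', B₁ (S x) (S x') * B₂ (T u₁) (T u₀) = B₁ x x' := by
    intro x x'
    have h := polar_mulVec Q g (ten x u₁) (ten x' u₀)
    rw [hgu u₁ hu₁, hgu u₀ hu₀, QuadraticMap.polar_add_left, QuadraticMap.polar_add_right,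
      QuadraticMap.polar_add_right, hS.polar, hS.polar, hS.polar, hS.polar, hS.polar, hTc u₁ hu₁,
      h₂.orth_comm (hTc u₀ hu₀), hc, hu01] at h
    simpa using h
  set τ := B₂ (T u₁) (T u₀) with hτ
  obtain ⟨x₁, hx₁⟩ := h₁.exists_one he₀
  have hτ0 : τ ≠ 0 := fun h => by
    have := hforms x₁ e₀
    rw [h, mul_zero, hx₁] at this
    exact zero_ne_one this
  have hsim : ∀ x x', B₁ (S x) (S x') = τ⁻¹ * B₁ x x' := fun x x' => by
    rw [eq_comm, inv_mul_eq_iff_eq_mul₀ hτ0, ← hforms x x', mul_comm]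
  refine ⟨⟨τ⁻¹, inv_ne_zero hτ0, hsim⟩, fun u hu => ?_⟩
  have hfix : ∀ γ, B₁ γ γ = 0 → γ ≠ 0 → FixMod B₁ ε γ (C u) := by
    intro γ hγ _
    refine hX.fixMod_of_shape hno hgM hc0 hgc (inv_ne_zero hτ0) hsim (C u) (hgu u hu) ?_ γ hγ
    intro E e e' hev he'v hzc
    refine ⟨hzc, fun v hv => ?_⟩
    have he'c : ∀ x, ∃ x', mat Q e'⁻¹ *ᵥ ten x' c = ten x c := fun x =>
      ⟨_, by conv_rhs => rw [← mulVec_cancel e' (ten x c), he'v]⟩
    set w := mat Q g⁻¹ *ᵥ (mat Q e'⁻¹ *ᵥ v) with hw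
    have hwk : evB B₂ c w = 0 := hS.evB_mulVec_eq_zero hgi' (hS.evB_mulVec_eq_zero he'c hv)
    have hvw : v = mat Q e' *ᵥ (mat Q g *ᵥ w) := by rw [hw, mulVec_cancel', mulVec_cancel']
    have hind : ∀ s : Finset (Fin a), ∃ r, mat Q g *ᵥ (mat Q e *ᵥ ∑ i ∈ s, ten (Pi.single i 1) (TensorUnitary.row w i))
        = mat Q e' *ᵥ (mat Q g *ᵥ ∑ i ∈ s, ten (Pi.single i 1) (TensorUnitary.row w i)) + ten r c := by
      classical
      intro s
      induction s using Finset.induction with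
      | empty => exact ⟨0, by simp⟩
      | insert i s hi ih =>
        obtain ⟨r, hr⟩ := ih
        set u := TensorUnitary.row w i with hu'
        have huc : B₂ u c = 0 := congrFun hwk i
        set x : Fin a → F := Pi.single i 1
        refine ⟨r + (S (C u ((E : Matrix (Fin a) (Fin a) F) *ᵥ x)) - S ((E : Matrix (Fin a) (Fin a) F) *ᵥ C u x)), ?_⟩
        rw [Finset.sum_insert hi, mulVec_add, mulVec_add, mulVec_add, mulVec_add, hr, hev, hgu u huc,
          hgu u huc, mulVec_add, he'v, he'v, LinearEquiv.symm_apply_apply, LinearEquiv.symm_apply_apply,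
          ten_add_left]
        rw [show ∀ p q : Fin a → F, ten (p - q) c = ten p c - ten q c from fun p q =>
          LinearMap.map_sub₂ tenB p q c]
        abel
    obtain ⟨r, hr⟩ := hind Finset.univ
    rw [TensorUnitary.sum_ten_row] at hr
    refine ⟨r, ?_⟩
    rw [mat_mul, mat_mul, mat_mul, ← mulVec_mulVec, ← mulVec_mulVec, ← mulVec_mulVec, ← hw, hr, ← hvw]
  obtain ⟨κ, hκ⟩ := hX.scalar_of_fixMod hfix
  refine ⟨T u + κ • c, by simp [hTc u hu, hc], fun x => ?_⟩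
  rw [hgu u hu, hκ, map_smul, ten_smul_left, ten_add_right, ten_smul_right]

/-- An element outside `Kr` with a fixed singular slice gives a radical element outside `Kr`. -/
theorem exists_rad_outside {g : Isom Q} (hgM : g ∈ M) (hgK : g ∉ Kr Q) {c : Fin b → F} (hc0 : c ≠ 0)
    (hc : B₂ c c = 0) {S : (Fin a → F) ≃ₗ[F] (Fin a → F)} (hgc : ∀ x, mat Q g *ᵥ ten x c = ten (S x) c) :
    ∃ r ∈ M, r ∈ Rad Q B₂ c ∧ r ∉ Kr Q := by
  by_contra! hno
  have hS := hX.tset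
  have h₁ := hS.f₁
  have h₂ := hS.f₂
  have ha : 0 < a := by have := hX.a_two; omega
  obtain ⟨d, hd, hdc⟩ := h₂.exists_partner hc0 hc
  have hgi : ∀ x, mat Q g⁻¹ *ᵥ ten x c = ten (S.symm x) c := fun x => mulVec_injective g (by
    show mat Q g *ᵥ _ = mat Q g *ᵥ _
    rw [mulVec_cancel', hgc, LinearEquiv.apply_symm_apply])
  obtain ⟨⟨μ, hμ, hsim⟩, hpu⟩ := hX.perp_pure hc0 hc hno hgM hgc
  obtain ⟨-, hpi⟩ := hX.perp_pure hc0 hc hno (M.inv_mem hgM) hgi
  let e₀ : Fin a → F := Pi.single ⟨0, ha⟩ 1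
  have he₀ : e₀ ≠ 0 := by simp [e₀]
  obtain ⟨l, hl'⟩ := CfsgLib.MaxSub.exists_dot_eq_one
    (show S e₀ ≠ 0 from fun h => he₀ ((map_eq_zero_iff _ S.injective).1 h))
  set T : (Fin b → F) →ₗ[F] (Fin b → F) :=
    (rowDot l).comp ((Matrix.mulVecLin (mat Q g)).comp (tenB e₀)) with hTdef
  have hquot : ∀ w, B₂ w c = 0 → ∀ x, evB B₂ w (mat Q g *ᵥ ten x d) = B₂ (T d) w • S x := by
    intro w hw
    obtain ⟨w', -, hw'⟩ := hpi w hw
    have hev : ∀ x, evB B₂ w (mat Q g *ᵥ ten x d) = (μ⁻¹ * B₂ d w') • S x := by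
      intro x
      refine sub_eq_zero.1 (h₁.sep fun z => ?_)
      obtain ⟨x', rfl⟩ := S.surjective z
      rw [map_sub, LinearMap.sub_apply, ← hS.polar_ten, map_smul, LinearMap.smul_apply, hsim, smul_eq_mul]
      conv_lhs => arg 1; arg 3; rw [← mulVec_cancel' g (ten (S x') w), hw', LinearEquiv.symm_apply_apply]
      rw [polar_mulVec, hS.polar]
      field_simp
      ring
    intro x
    have hB : B₂ (T d) w = l ⬝ᵥ evB B₂ w (mat Q g *ᵥ ten e₀ d) := by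
      rw [hTdef, LinearMap.comp_apply, LinearMap.comp_apply, mulVecLin_apply, tenB_apply]
      show B₂ (∑ i, l i • TensorUnitary.row (mat Q g *ᵥ ten e₀ d) i) w = _
      simp [dotProduct, evB_apply]
      rfl
    rw [hev, hB, hev e₀, dotProduct_smul, hl', smul_eq_mul, mul_one]
  set C : (Fin a → F) →ₗ[F] (Fin a → F) :=
    S.symm.toLinearMap.comp (ε • (evB B₂ d).comp
      ((Matrix.mulVecLin (mat Q g)).comp (tenB.flip d) - (tenB.flip (T d)).comp S.toLinearMap)) with hC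
  have hgd : ∀ x, mat Q g *ᵥ ten x d = ten (S x) (T d) + ten (S (C x)) c := by
    intro x
    have h := hS.eq_ten_of_evB hdc (z := mat Q g *ᵥ ten x d - ten (S x) (T d)) fun w hw => by
      rw [map_sub, hquot w hw, evB_ten, sub_self]
    rw [← sub_eq_iff_eq_add', h]
    congr 1
    simp [hC]
  have hfix : ∀ γ, B₁ γ γ = 0 → γ ≠ 0 → FixMod B₁ ε γ C := by
    intro γ hγ _
    refine hX.fixMod_of_shape hno hgM hc0 hgc hμ hsim C hgd ?_ γ hγ
    intro E e e' hev he'v hzc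
    refine cen_le_rad hc fun v hv => ?_
    suffices h : ∀ x u, B₂ u c = 0 → mat Q (g * e * g⁻¹ * e'⁻¹) *ᵥ ten x u = ten x u by
      rw [← TensorUnitary.sum_ten_row v, mulVec_sum]
      exact Finset.sum_congr rfl fun i _ => h _ _ (congrFun hv i)
    intro x u hu
    obtain ⟨u', -, hu''⟩ := hpi u hu
    obtain ⟨z, rfl⟩ : ∃ z, S ((E : Matrix (Fin a) (Fin a) F) *ᵥ z) = x :=
      ⟨((E⁻¹ : GL (Fin a) F) : Matrix (Fin a) (Fin a) F) *ᵥ S.symm x, by
        rw [mulVec_mulVec, Units.mul_inv, one_mulVec, LinearEquiv.apply_symm_apply]⟩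
    have hback : ∀ X, mat Q g *ᵥ ten (S.symm X) u' = ten X u := fun X => by
      rw [← hu'', mulVec_cancel']
    have h1 : mat Q e' *ᵥ (mat Q g *ᵥ ten z u') = mat Q g *ᵥ (mat Q e *ᵥ ten z u') := by
      have hz' := hback (S z)
      rw [LinearEquiv.symm_apply_apply] at hz'
      have hz'' := hback (S ((E : Matrix (Fin a) (Fin a) F) *ᵥ z))
      rw [LinearEquiv.symm_apply_apply] at hz''
      rw [hz', he'v, LinearEquiv.symm_apply_apply, hev, hz'']
    have h2 := hback (S ((E : Matrix (Fin a) (Fin a) F) *ᵥ z))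
    rw [LinearEquiv.symm_apply_apply] at h2
    conv_lhs => rw [← h2, ← hev, ← h1]
    simp only [mat_mul, ← mulVec_mulVec, mulVec_cancel]
    rw [hev, h2]
  obtain ⟨κ, hκ⟩ := hX.scalar_of_fixMod hfix
  -- `g` is then a pair of factors
  let U : (Fin b → F) →ₗ[F] (Fin b → F) := (rowDot l).comp ((Matrix.mulVecLin (mat Q g)).comp (tenB e₀))
  refine hgK (hS.mem_Kr_of_ten ha (by have := hX.b_three; omega) S.toLinearMap U fun x y => ?_)
  obtain ⟨w, hw⟩ : ∃ w, ∀ x, mat Q g *ᵥ ten x y = ten (S x) w := by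
    obtain ⟨u', -, hu'⟩ := hpu (y - B₂ y c • d) (by simp [hdc])
    refine ⟨u' + B₂ y c • (T d + κ • c), fun x => ?_⟩
    have e1 : ten x y = ten x (y - B₂ y c • d) + B₂ y c • ten x d := by
      rw [← ten_smul_right, ← ten_add_right, sub_add_cancel]
    rw [e1, mulVec_add, mulVec_smul, hu', hgd, hκ, map_smul, ten_smul_left, ten_add_right, ten_smul_right,
      ten_add_right, ten_smul_right]
  rw [hw x]
  congr 1
  show w = rowDot l (mat Q g *ᵥ ten e₀ y)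
  rw [hw e₀, rowDot_ten, hl', one_smul]

end Ctx

end CfsgLib.TensorOrth
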