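import Cfsg.Agent.TensorOrth.Radical

/-!
# Tools for the central step
-/

set_option autoImplicit false
set_option linter.unusedSectionVars false

namespace CfsgLib.TensorOrth

open Matrix Module CfsgLib.Spinor CfsgLib.OrthMax
open CfsgLib.TensorMax (Idx ten krG ten_add_left ten_add_right ten_smul_left
  ten_smul_right kron_mulVec_ten krG_val ten_eq_zero ten_inj_left ten_inj_right)
open CfsgLib.TensorUnitary (ten_induction)

variable {F : Type*} [Field F] {a b : ℕ} {Q : QuadraticForm F (Idx a b → F)}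
  {B₁ : LinearMap.BilinForm F (Fin a → F)} {B₂ : LinearMap.BilinForm F (Fin b → F)} {ε : F}

@[simp] theorem ten_zero_left (y : Fin b → F) : ten (0 : Fin a → F) y = (0 : Idx a b → F) :=
  ten_eq_zero.2 (Or.inl rfl)

/-- An equation `A x ⊗ y = D x ⊗ c` makes `y` a multiple of `c`. -/
theorem split_ten (ha : 0 < a) {A D : (Fin a → F) → (Fin a → F)} (hA : ∃ x, A x ≠ 0) {c y : Fin b → F}
    (hc : c ≠ 0) (h : ∀ x, ten (A x) y = ten (D x) c) : ∃ μ : F, y = μ • c ∧ ∀ x, D x = μ • A x := by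
  obtain ⟨x₀, hx₀⟩ := hA
  obtain ⟨i, hi⟩ := Function.ne_iff.1 hx₀
  refine ⟨D x₀ i / A x₀ i, ?_, fun x => ?_⟩
  · funext k
    have := congrFun (h x₀) (i, k)
    simp only [ten] at this
    rw [Pi.smul_apply, smul_eq_mul, div_mul_eq_mul_div, eq_div_iff hi, ← this, mul_comm]
  · obtain ⟨k, hk⟩ := Function.ne_iff.1 hc
    refine ten_inj_left hc (?_ : ten (D x) c = ten ((D x₀ i / A x₀ i) • A x) c)
    rw [← h x, ten_smul_left, ← ten_smul_right]
    congr 1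
    funext k
    have := congrFun (h x₀) (i, k)
    simp only [ten] at this
    rw [Pi.smul_apply, smul_eq_mul, div_mul_eq_mul_div, eq_div_iff hi, ← this, mul_comm]

/-- Linear functionals are given by the form. -/
theorem Fac.exists_rep {n : ℕ} {B : LinearMap.BilinForm F (Fin n → F)} (hB : Fac B ε)
    (φ : (Fin n → F) →ₗ[F] F) : ∃ z, ∀ u, B u z = φ u := by
  let L : (Fin n → F) →ₗ[F] ((Fin n → F) →ₗ[F] F) :=
    { toFun := fun z => B.flip z
      map_add' := fun z z' => map_add _ _ _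
      map_smul' := fun k z => map_smul _ _ _ }
  have hinj : Function.Injective L := by
    refine (injective_iff_map_eq_zero L).2 fun z hz => hB.sep' fun y => ?_
    exact LinearMap.congr_fun hz y
  have hfr : finrank F (Fin n → F) = finrank F ((Fin n → F) →ₗ[F] F) := (Subspace.dual_finrank_eq).symm
  obtain ⟨z, hz⟩ := (LinearMap.injective_iff_surjective_of_finrank_eq_finrank hfr).1 hinj φ
  exact ⟨z, fun u => LinearMap.congr_fun hz u⟩

/-- `g` acts on pure tensors as `E ⊗ E'` with the factors in given subgroups. -/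
def pairGrp (M : Subgroup (Isom Q)) (G₁ : Subgroup (GL (Fin a) F)) (G₂ : Subgroup (GL (Fin b) F)) :
    Subgroup (Isom Q) where
  carrier := {g | g ∈ M ∧ ∃ E ∈ G₁, ∃ E' ∈ G₂, ∀ x y, mat Q g *ᵥ ten x y
    = ten ((E : Matrix (Fin a) (Fin a) F) *ᵥ x) ((E' : Matrix (Fin b) (Fin b) F) *ᵥ y)}
  one_mem' := ⟨M.one_mem, 1, G₁.one_mem, 1, G₂.one_mem, fun x y => by simp [mat_one]⟩
  mul_mem' := by
    rintro g h ⟨hg, E, hE, E', hE', hgv⟩ ⟨hh, D, hD, D', hD', hhv⟩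
    refine ⟨M.mul_mem hg hh, E * D, G₁.mul_mem hE hD, E' * D', G₂.mul_mem hE' hD', fun x y => ?_⟩
    rw [mat_mul, ← mulVec_mulVec, hhv, hgv, mulVec_mulVec, mulVec_mulVec, Units.val_mul, Units.val_mul]
  inv_mem' := by
    rintro g ⟨hg, E, hE, E', hE', hgv⟩
    refine ⟨M.inv_mem hg, E⁻¹, G₁.inv_mem hE, E'⁻¹, G₂.inv_mem hE', fun x y => mulVec_injective g ?_⟩
    show mat Q g *ᵥ _ = mat Q g *ᵥ _
    rw [mulVec_cancel', hgv, mulVec_mulVec, mulVec_mulVec, Units.mul_inv, Units.mul_inv, one_mulVec,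
      one_mulVec]

theorem pairGrp_isPGroup {M : Subgroup (Isom Q)} {G₁ : Subgroup (GL (Fin a) F)}
    {G₂ : Subgroup (GL (Fin b) F)} {p : ℕ} (h₁ : IsPGroup p G₁) (h₂ : IsPGroup p G₂) :
    IsPGroup p (pairGrp M G₁ G₂) := by
  rintro ⟨g, hg, E, hE, E', hE', hgv⟩
  obtain ⟨k₁, hk₁⟩ := h₁ ⟨E, hE⟩
  obtain ⟨k₂, hk₂⟩ := h₂ ⟨E', hE'⟩
  have hk₁' : E ^ p ^ k₁ = 1 := congrArg Subtype.val hk₁
  have hk₂' : E' ^ p ^ k₂ = 1 := congrArg Subtype.val hk₂
  have hpow : ∀ (m : ℕ) x y, mat Q (g ^ m) *ᵥ ten x y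
      = ten (((E ^ m : GL (Fin a) F) : Matrix (Fin a) (Fin a) F) *ᵥ x)
        (((E' ^ m : GL (Fin b) F) : Matrix (Fin b) (Fin b) F) *ᵥ y) := by
    intro m
    induction m with
    | zero => intro x y; simp [mat_one]
    | succ m ih =>
      intro x y
      rw [pow_succ, pow_succ, pow_succ, mat_mul, ← mulVec_mulVec, hgv, ih, Units.val_mul, Units.val_mul,
        mulVec_mulVec, mulVec_mulVec]
  refine ⟨k₁ + k₂, Subtype.ext (mat_ext Q ?_)⟩
  show mat Q (g ^ p ^ (k₁ + k₂)) = mat Q 1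
  refine TensorUnitary.mat_ext_ten fun x y => ?_
  have e1 : E ^ p ^ (k₁ + k₂) = 1 := by rw [pow_add, pow_mul, hk₁', one_pow]
  have e2 : E' ^ p ^ (k₁ + k₂) = 1 := by rw [pow_add, mul_comm, pow_mul, hk₂', one_pow]
  rw [hpow, e1, e2]
  simp [mat_one]

namespace TSet

variable [Fintype F] (hS : TSet Q B₁ B₂ ε)
include hS

/-- A left factor element in `M ⊓ Kr`. -/
theorem exists_left (hn : 5 ≤ a * b) {M : Subgroup (Isom Q)}
    (hM : ∀ g ∈ Cfsg.Omega F ⇑Q, g ∈ Kr Q → g ∈ M) {E : GL (Fin a) F} (hE : E ∈ fgrp B₁ ε) :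
    ∃ e ∈ M, ∀ x y, mat Q e *ᵥ ten x y = ten ((E : Matrix (Fin a) (Fin a) F) *ᵥ x) y :=
  (hS.lifts hn hM).left E hE

/-- An element of `M ∩ Rad` commuting with `g` up to `Kr`, for every `g` in a `p`-group. -/
theorem exists_fixed (ha : 0 < a) (hb : 0 < b) {c d : Fin b → F} (hc0 : c ≠ 0) (hc : B₂ c c = 0)
    (hdc : B₂ d c = 1) {p : ℕ} [Fact p.Prime] [CharP F p] {R U : Subgroup (Isom Q)}
    (hR : R ≤ Rad Q B₂ c) (hU : IsPGroup p U) (hinv : ∀ g ∈ U, ∀ r ∈ R, g * r * g⁻¹ ∈ R)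
    (hne : ¬ R ≤ Kr Q) :
    ∃ m ∈ R, m ∉ Kr Q ∧ ∀ g ∈ U, ∃ (T : (Fin b → F) →ₗ[F] (Fin b → F)) (ν : Isom Q), T c = c ∧
      (∀ u u', B₂ (T u) (T u') = B₂ u u') ∧ (∀ x y, mat Q ν *ᵥ ten x y = ten x (T y)) ∧
      ∀ v, mat Q g *ᵥ (mat Q m *ᵥ v) = mat Q ν *ᵥ (mat Q m *ᵥ (mat Q g *ᵥ v)) := by
  have : Finite (Isom Q) := inferInstance
  have hRp : IsPGroup p R := (hS.rad_isPGroup ha hb hc hdc).to_le hR
  have hUN : U ≤ Subgroup.normalizer (R : Set (Isom Q)) := by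
    intro g hg
    refine Subgroup.mem_normalizer_iff.2 fun r => ⟨hinv g hg r, fun h => ?_⟩
    have := hinv g⁻¹ (U.inv_mem hg) _ h
    simpa [mul_assoc] using this
  have hJp : IsPGroup p (R ⊔ U : Subgroup (Isom Q)) := by
    rw [sup_comm]
    exact hU.to_sup_of_normal_right' hRp hUN
  have hJn : (R ⊔ U : Subgroup (Isom Q)) ≤ Subgroup.normalizer (R : Set (Isom Q)) :=
    sup_le Subgroup.le_normalizer hUN
  obtain ⟨m, hm, hmK, hfix⟩ := exists_fixed_mod hJp le_sup_left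
    (fun g hg r hr => (Subgroup.mem_normalizer_iff.1 (hJn hg) r).1 hr) (Kr Q) hne
  refine ⟨m, hm, hmK, fun g hg => ?_⟩
  obtain ⟨T, hTc, hTi, hTv⟩ := hS.rad_kr ha hc0
    ((Rad Q B₂ c).mul_mem (hR (hinv g hg m hm)) ((Rad Q B₂ c).inv_mem (hR hm)))
    (hfix g (Subgroup.mem_sup_right hg))
  refine ⟨T, _, hTc, hTi, hTv, fun v => ?_⟩
  rw [mulVec_mulVec, mulVec_mulVec, mulVec_mulVec, ← mat_mul, ← mat_mul, ← mat_mul]
  congr 1
  congr 1
  simp [mul_assoc]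

end TSet

end CfsgLib.TensorOrth
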