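import Cfsg.Agent.OrthMax.Basic

/-!
# Symmetric and alternating factor forms: Siegel elements and the group they generate
-/

set_option autoImplicit false
set_option linter.unusedSectionVars false

namespace CfsgLib.TensorOrth

open Matrix Module

variable {F : Type*} [Field F] {n : ℕ}

/-- A non-degenerate bilinear form which is symmetric in odd characteristic (`ε = 1`) or alternating
(`ε = -1`). -/
structure Fac (B : LinearMap.BilinForm F (Fin n → F)) (ε : F) : Prop where
  nondeg : B.Nondegenerate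
  symm : ∀ x y, B x y = ε * B y x
  kind : (ε = 1 ∧ (2 : F) ≠ 0) ∨ (ε = -1 ∧ ∀ x, B x x = 0)

variable {B : LinearMap.BilinForm F (Fin n → F)} {ε : F}

/-- The orthogonal of a vector. -/
abbrev cperp (B : LinearMap.BilinForm F (Fin n → F)) (c : Fin n → F) : Submodule F (Fin n → F) :=
  LinearMap.ker (B.flip c)

theorem mem_cperp {c x : Fin n → F} : x ∈ cperp B c ↔ B x c = 0 := Iff.rfl

/-- The linear map `x ↦ x + B(x,c) z - ε B(x,z) c + k B(x,c) c`. -/
def esie (B : LinearMap.BilinForm F (Fin n → F)) (ε : F) (c z : Fin n → F) (k : F) :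
    (Fin n → F) →ₗ[F] (Fin n → F) :=
  LinearMap.id + (B.flip c).smulRight z - ε • (B.flip z).smulRight c + k • (B.flip c).smulRight c

theorem esie_apply (c z : Fin n → F) (k : F) (x : Fin n → F) :
    esie B ε c z k x = x + B x c • z - (ε * B x z) • c + (k * B x c) • c := by
  simp [esie, smul_smul]

theorem esie_zero (c : Fin n → F) : esie B ε c 0 0 = LinearMap.id :=
  LinearMap.ext fun x => by simp [esie_apply]

namespace Fac

variable (hB : Fac B ε)
include hB

theorem eps_sq : ε * ε = 1 := by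
  rcases hB.kind with ⟨h, -⟩ | ⟨h, -⟩ <;> rw [h] <;> ring

theorem eps_ne : ε ≠ 0 := left_ne_zero_of_mul_eq_one hB.eps_sq

theorem orth_comm {x y : Fin n → F} (h : B x y = 0) : B y x = 0 := by rw [hB.symm, h, mul_zero]

theorem isRefl : B.IsRefl := fun _ _ => hB.orth_comm

theorem self_eq {x : Fin n → F} : B x x = ε * B x x := hB.symm x x

theorem sep {x : Fin n → F} (h : ∀ y, B x y = 0) : x = 0 := hB.nondeg.1 x h

theorem sep' {x : Fin n → F} (h : ∀ y, B y x = 0) : x = 0 :=
  hB.sep fun y => hB.orth_comm (h y)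

theorem exists_one {x : Fin n → F} (hx : x ≠ 0) : ∃ y, B y x = 1 := by
  obtain ⟨y, hy⟩ : ∃ y, B y x ≠ 0 := by
    by_contra! h
    exact hx (hB.sep' h)
  exact ⟨(B y x)⁻¹ • y, by simp [hy]⟩

theorem finrank_orth (W : Submodule F (Fin n → F)) : finrank F (B.orthogonal W) = n - finrank F W := by
  rw [LinearMap.BilinForm.finrank_orthogonal hB.nondeg W, Module.finrank_fin_fun]

theorem finrank_cperp {c : Fin n → F} (hc : c ≠ 0) : finrank F (cperp B c) + 1 = n := by
  have h := LinearMap.finrank_range_add_finrank_ker (B.flip c)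
  have hr : LinearMap.range (B.flip c) = ⊤ := by
    obtain ⟨y, hy⟩ := hB.exists_one hc
    refine eq_top_iff.2 fun s _ => ⟨s • y, ?_⟩
    simp [hy]
  rw [hr, finrank_top, Module.finrank_self, Module.finrank_fin_fun] at h
  rw [cperp]; omega

theorem finrank_le_inf (K : Submodule F (Fin n → F)) (c : Fin n → F) :
    finrank F K ≤ finrank F (K ⊓ cperp B c : Submodule F (Fin n → F)) + 1 := by
  have h := LinearMap.finrank_range_add_finrank_ker ((B.flip c).domRestrict K)
  have h1 : finrank F (LinearMap.range ((B.flip c).domRestrict K)) ≤ 1 :=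
    (Submodule.finrank_le _).trans_eq (Module.finrank_self F)
  have h2 : finrank F (LinearMap.ker ((B.flip c).domRestrict K)) ≤
      finrank F (K ⊓ cperp B c : Submodule F (Fin n → F)) := by
    let f : LinearMap.ker ((B.flip c).domRestrict K) →ₗ[F] (K ⊓ cperp B c : Submodule F (Fin n → F)) :=
      { toFun := fun v => ⟨v.1.1, v.1.2, v.2⟩
        map_add' := fun _ _ => rfl
        map_smul' := fun _ _ => rfl }
    exact LinearMap.finrank_le_finrank_of_injective (f := f) fun v w h =>
      Subtype.ext (Subtype.ext (by have := congrArg Subtype.val h; exact this))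
  omega

/-- A vector orthogonal to `c` but not to `z`. -/
theorem exists_orth_not_orth {c z : Fin n → F} (hz : ∀ s : F, s • c ≠ z) :
    ∃ x, B x c = 0 ∧ B x z = 1 := by
  obtain ⟨x, hx, hxz⟩ : ∃ x, B x c = 0 ∧ B x z ≠ 0 := by
    by_contra! h
    rcases eq_or_ne c 0 with rfl | hc
    · exact hz 0 (by rw [zero_smul]; exact (hB.sep' fun y => h y (by simp)).symm)
    · obtain ⟨d, hd⟩ := hB.exists_one hc
      refine hz (B d z) (sub_eq_zero.1 (hB.sep' fun y => ?_))
      have := h (y - B y c • d) (by simp [hd])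
      simp only [map_sub, map_smul, LinearMap.sub_apply, LinearMap.smul_apply, smul_eq_mul] at this ⊢
      linear_combination -this
  exact ⟨(B x z)⁻¹ • x, by simp [hx], by simp [hxz]⟩

/-- Isotropic completion of a vector pairing with an isotropic one. -/
theorem exists_iso_shift {c x : Fin n → F} (hc : B c c = 0) (hx : B x c = 1) :
    ∃ s : F, B (x - s • c) (x - s • c) = 0 := by
  have hcx : B c x = ε := by rw [hB.symm, hx, mul_one]
  rcases hB.kind with ⟨he, h2⟩ | ⟨-, ha⟩
  · refine ⟨B x x / 2, ?_⟩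
    simp only [map_sub, map_smul, LinearMap.sub_apply, LinearMap.smul_apply, smul_eq_mul, hc, hx, hcx,
      he]
    field_simp
    ring
  · exact ⟨0, ha _⟩

/-- A hyperbolic partner in a subspace. -/
theorem exists_partner_in {K : Submodule F (Fin n → F)} {c x : Fin n → F} (hcK : c ∈ K) (hxK : x ∈ K)
    (hc : B c c = 0) (hx : B x c ≠ 0) : ∃ d ∈ K, B d d = 0 ∧ B d c = 1 := by
  obtain ⟨s, hs⟩ := hB.exists_iso_shift (x := (B x c)⁻¹ • x) hc (by simp [hx])
  exact ⟨_, K.sub_mem (K.smul_mem _ hxK) (K.smul_mem _ hcK), hs, by simp [hx, hc]⟩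

/-- A hyperbolic partner. -/
theorem exists_partner {c : Fin n → F} (hc0 : c ≠ 0) (hc : B c c = 0) :
    ∃ d, B d d = 0 ∧ B d c = 1 := by
  obtain ⟨x, hx⟩ := hB.exists_one hc0
  obtain ⟨d, -, h⟩ := hB.exists_partner_in (K := ⊤) Submodule.mem_top Submodule.mem_top hc
    (x := x) (by rw [hx]; exact one_ne_zero)
  exact ⟨d, h⟩

/-- The part orthogonal to a hyperbolic pair. -/
theorem sub_mem_pair {c d : Fin n → F} (hc : B c c = 0) (hd : B d d = 0) (hdc : B d c = 1)
    (x : Fin n → F) : x - B x c • d - (ε * B x d) • c ∈ cperp B c ⊓ cperp B d := by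
  have hcd : B c d = ε := by rw [hB.symm, hdc, mul_one]
  refine ⟨?_, ?_⟩ <;> rw [SetLike.mem_coe, mem_cperp]
  · simp [hc, hdc]
  · simp only [map_sub, map_smul, LinearMap.sub_apply, LinearMap.smul_apply, smul_eq_mul, hd, hcd]
    linear_combination -B x d * hB.eps_sq

/-- In the symmetric case a non-zero orthogonal of a hyperbolic pair has a non-singular vector. -/
theorem exists_nonsingular_pair (h2 : (2 : F) ≠ 0) (he : ε = 1) {c d : Fin n → F} (hc : B c c = 0)
    (hd : B d d = 0) (hdc : B d c = 1) (hn : 3 ≤ n) :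
    ∃ h, B h c = 0 ∧ B h d = 0 ∧ B h h ≠ 0 := by
  by_contra! h
  have hzero : ∀ x ∈ cperp B c ⊓ cperp B d, x = 0 := by
    intro x hx
    refine hB.sep fun y => ?_
    have hy := hB.sub_mem_pair hc hd hdc y
    set y' := y - B y c • d - (ε * B y d) • c with hy'
    have h1 := h x hx.1 hx.2
    have h3 := h y' hy.1 hy.2
    have hs := h (x + y') ((cperp B c).add_mem hx.1 hy.1) ((cperp B d).add_mem hx.2 hy.2)
    have h4 : B x y' = 0 := by
      have e := hB.symm y' x
      rw [he, one_mul] at e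
      simp only [map_add, LinearMap.add_apply, h1, h3, e, zero_add, add_zero] at hs
      exact (mul_eq_zero.1 ((two_mul _).trans hs)).resolve_left h2
    have e : y = y' + B y c • d + (ε * B y d) • c := by rw [hy']; abel
    rw [e]
    simp [h4, show B x d = 0 from hx.2, show B x c = 0 from hx.1]
  have h1 := hB.finrank_cperp (c := c) (fun h => by simp [h] at hdc)
  have h3 := hB.finrank_le_inf (cperp B c) d
  rw [(Submodule.eq_bot_iff _).2 hzero, finrank_bot] at h3
  omega

/-- An isotropic vector pairing with two given ones. -/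
theorem exists_common (hn : 3 ≤ n ∨ ∀ x, B x x = 0) {c c' : Fin n → F} (hc0 : c ≠ 0)
    (hc'0 : c' ≠ 0) (hc : B c c = 0) (hc' : B c' c' = 0) :
    ∃ d, B d d = 0 ∧ B d c ≠ 0 ∧ B d c' ≠ 0 := by
  obtain ⟨d, hd, hdc⟩ := hB.exists_partner hc0 hc
  obtain ⟨d', hd', hdc'⟩ := hB.exists_partner hc'0 hc'
  by_cases hcc : B c c' = 0
  · by_cases h1 : B d c' = 0
    swap
    · exact ⟨d, hd, by rw [hdc]; exact one_ne_zero, h1⟩
    by_cases h2 : B d' c = 0
    swap
    · exact ⟨d', hd', h2, by rw [hdc']; exact one_ne_zero⟩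
    refine ⟨d + d' - B d d' • c, ?_, ?_, ?_⟩
    · simp only [map_sub, map_add, map_smul, LinearMap.sub_apply, LinearMap.add_apply,
        LinearMap.smul_apply, smul_eq_mul, hd, hd', hc, hdc, h2, hB.symm d' d, hB.symm c d,
        hB.symm c d']
      ring
    · simp [hdc, h2, hc]
    · simp [hdc', h1, hcc]
  · rcases hB.kind with ⟨he, h2⟩ | ⟨-, ha⟩
    · rcases hn with hn | hn
      swap
      · exact absurd (by
          have h3 := hn (c + c')
          simp only [map_add, LinearMap.add_apply, hc, hc', hB.symm c' c, he, one_mul] at h3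
          exact (mul_eq_zero.1 (show 2 * B c c' = 0 by linear_combination h3)).resolve_left h2) hcc
      have hpair : B ((B c' c)⁻¹ • c') c = 1 := by
        have : B c' c ≠ 0 := fun h => hcc (hB.orth_comm h)
        simp [this]
      obtain ⟨w, hwc, hwd, hw⟩ := hB.exists_nonsingular_pair h2 he hc (d := (B c' c)⁻¹ • c')
        (by simp [hc']) hpair hn
      have hwc' : B w c' = 0 := by
        rcases eq_or_ne (B c' c) 0 with h | h
        · exact absurd (hB.orth_comm h) hcc
        · simpa [h] using hwd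
      set t := -B w w / (2 * B c c') with ht
      have ht0 : t ≠ 0 := div_ne_zero (neg_ne_zero.2 hw) (mul_ne_zero h2 hcc)
      refine ⟨c + t • c' + w, ?_, ?_, ?_⟩
      · simp only [map_add, map_smul, LinearMap.add_apply, LinearMap.smul_apply, smul_eq_mul, hc, hc',
          hB.symm c' c, hwc, hwc', hB.orth_comm hwc, hB.orth_comm hwc', he, one_mul, mul_zero,
          add_zero, zero_add]
        rw [ht]
        field_simp
        ring
      · have : B c' c = B c c' := by rw [hB.symm, he, one_mul]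
        simp [hc, hwc, this, ht0, hcc]
      · simp [hc', hwc', hcc]
    · refine ⟨c + c', ha _, ?_, ?_⟩
      · simpa [hc] using fun h => hcc (hB.orth_comm h)
      · simpa [hc'] using hcc

/-- The isotropic vectors not orthogonal to `c` span. -/
theorem span_nonorth (hn : 3 ≤ n ∨ ∀ x, B x x = 0) {c : Fin n → F} (hc0 : c ≠ 0) (hc : B c c = 0)
    {W : Submodule F (Fin n → F)} (hW : ∀ d, B d d = 0 → B d c ≠ 0 → d ∈ W) : W = ⊤ := by
  obtain ⟨d, hd, hdc⟩ := hB.exists_partner hc0 hc
  have hdW : d ∈ W := hW d hd (by rw [hdc]; exact one_ne_zero)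
  have hcd : B c d = ε := by rw [hB.symm, hdc, mul_one]
  have hshift : ∀ h ∈ cperp B c ⊓ cperp B d, ∀ t : F, t * (1 + ε) + B h h = 0 → h + t • c ∈ W := by
    intro h hh t ht
    have h1 : B (d + h + t • c) (d + h + t • c) = 0 := by
      simp only [map_add, map_smul, LinearMap.add_apply, LinearMap.smul_apply, smul_eq_mul, hd, hc, hdc,
        hcd, show B h d = 0 from hh.2, show B h c = 0 from hh.1,
        hB.orth_comm (show B h d = 0 from hh.2), hB.orth_comm (show B h c = 0 from hh.1)]
      linear_combination ht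
    have h2 := W.sub_mem (hW _ h1 (by simp [hdc, show B h c = 0 from hh.1, hc])) hdW
    simpa [add_assoc] using h2
  have hcW : c ∈ W := by
    rcases hB.kind with ⟨he, h2⟩ | ⟨-, ha⟩
    · rcases hn with hn | hn
      swap
      · have h3 := hn (c + d)
        simp only [map_add, LinearMap.add_apply, hc, hd, hcd, hdc, he] at h3
        exact absurd (show (2 : F) = 0 by linear_combination h3) h2
      obtain ⟨h, hhc, hhd, hh⟩ := hB.exists_nonsingular_pair h2 he hc hd hdc hn
      set t := -B h h / 2 with ht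
      have e1 := hshift h ⟨hhc, hhd⟩ t (by rw [he, ht]; field_simp; ring)
      have e2 := hshift (-h) (neg_mem (show h ∈ cperp B c ⊓ cperp B d from ⟨hhc, hhd⟩)) t
        (by simp only [map_neg, LinearMap.neg_apply, neg_neg, he, ht]; field_simp; ring)
      have e3 := W.smul_mem (2 * t)⁻¹ (W.add_mem e1 e2)
      have ht0 : t ≠ 0 := div_ne_zero (neg_ne_zero.2 hh) h2
      rwa [show h + t • c + (-h + t • c) = (2 * t) • c by module, smul_smul,
        inv_mul_cancel₀ (mul_ne_zero h2 ht0), one_smul] at e3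
    · have := W.sub_mem (hW (d + c) (ha _) (by simp [hdc, hc])) hdW
      simpa using this
  refine eq_top_iff.2 fun x _ => ?_
  have hx := hB.sub_mem_pair hc hd hdc x
  set h := x - B x c • d - (ε * B x d) • c with hh
  obtain ⟨t, ht⟩ : ∃ t : F, t * (1 + ε) + B h h = 0 := by
    rcases hB.kind with ⟨he, h2⟩ | ⟨-, ha⟩
    · exact ⟨-B h h / 2, by rw [he]; field_simp; ring⟩
    · exact ⟨0, by rw [ha]; ring⟩
  have := W.add_mem (W.add_mem (W.sub_mem (hshift h hx t ht) (W.smul_mem t hcW)) (W.smul_mem (B x c) hdW))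
    (W.smul_mem (ε * B x d) hcW)
  convert this using 1
  rw [hh]; abel

/-- An isotropic vector in a subspace of dimension at least three. -/
theorem exists_iso [Finite F] (K : Submodule F (Fin n → F)) (hK : 3 ≤ finrank F K) :
    ∃ x ∈ K, x ≠ 0 ∧ B x x = 0 := by
  rcases hB.kind with ⟨he, h2⟩ | ⟨-, ha⟩
  · have := Fintype.ofFinite F
    have hQ : (QuadraticMap.polarBilin B.toQuadraticMap).Nondegenerate := by
      have hp : ∀ x y, QuadraticMap.polarBilin B.toQuadraticMap x y = 2 * B x y := fun x y => by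
        show QuadraticMap.polar _ x y = _
        simp only [LinearMap.BilinMap.polar_toQuadraticMap]
        rw [hB.symm y x, he]; ring
      refine ⟨fun x hx => hB.sep fun y => ?_, fun x hx => hB.sep' fun y => ?_⟩
      · exact (mul_eq_zero.1 ((hp x y).symm.trans (hx y))).resolve_left h2
      · exact (mul_eq_zero.1 ((hp y x).symm.trans (hx y))).resolve_left h2
    obtain ⟨z, hz, hz0, hq⟩ := OrthMax.exists_singular hQ K hK
    exact ⟨z, hz, hz0, hq⟩
  · obtain ⟨x, hx, hx0⟩ := (Submodule.ne_bot_iff K).1 (fun h => by rw [h, finrank_bot] at hK; omega)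
    exact ⟨x, hx, hx0, ha x⟩

/-- A scalar completing a Siegel element. -/
theorem exists_param (z : Fin n → F) : ∃ k : F, k * (1 + ε) + B z z = 0 := by
  rcases hB.kind with ⟨he, h2⟩ | ⟨-, ha⟩
  · exact ⟨-B z z / 2, by rw [he]; field_simp; ring⟩
  · exact ⟨0, by rw [ha]; ring⟩

theorem esie_comp {c z z' : Fin n → F} (hc : B c c = 0) (hz : B z c = 0) (hz' : B z' c = 0) (k k' : F)
    (x : Fin n → F) :
    esie B ε c z' k' (esie B ε c z k x) = esie B ε c (z + z') (k + k' - ε * B z z') x := by
  simp only [esie_apply, map_add, map_sub, map_smul, LinearMap.add_apply, LinearMap.sub_apply,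
    LinearMap.smul_apply, smul_eq_mul, hc, hz, hB.orth_comm hz']
  match_scalars <;> ring

theorem esie_isom {c z : Fin n → F} (hc : B c c = 0) (hz : B z c = 0) {k : F}
    (hk : k * (1 + ε) + B z z = 0) (x y : Fin n → F) :
    B (esie B ε c z k x) (esie B ε c z k y) = B x y := by
  simp only [esie_apply, map_add, map_sub, map_smul, LinearMap.add_apply, LinearMap.sub_apply,
    LinearMap.smul_apply, smul_eq_mul, hc, hz, hB.orth_comm hz, hB.symm z y, hB.symm c y]
  linear_combination (B x c * B y c) * hk + (-(B x z * B y c) - B x c * B y z * 0) * hB.eps_sq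

end Fac

/-! ### The group -/

/-- The isometry group of `B`. -/
def isoG (B : LinearMap.BilinForm F (Fin n → F)) : Subgroup (GL (Fin n) F) where
  carrier := {S | ∀ x y, B ((S : Matrix (Fin n) (Fin n) F) *ᵥ x) ((S : Matrix (Fin n) (Fin n) F) *ᵥ y) = B x y}
  one_mem' x y := by simp
  mul_mem' {S T} hS hT x y := by rw [Units.val_mul, ← mulVec_mulVec, ← mulVec_mulVec, hS, hT]
  inv_mem' {S} hS x y := by
    rw [← hS, mulVec_mulVec, mulVec_mulVec, Units.mul_inv, one_mulVec, one_mulVec]

/-- The Siegel elements. -/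
def rootSet (B : LinearMap.BilinForm F (Fin n → F)) (ε : F) : Set (GL (Fin n) F) :=
  {S | ∃ c z k, B c c = 0 ∧ B z c = 0 ∧ k * (1 + ε) + B z z = 0 ∧
    ∀ x, (S : Matrix (Fin n) (Fin n) F) *ᵥ x = esie B ε c z k x}

/-- The subgroup generated by the Siegel elements and the commutators of isometries. -/
def fgrp (B : LinearMap.BilinForm F (Fin n → F)) (ε : F) : Subgroup (GL (Fin n) F) :=
  Subgroup.closure (rootSet B ε ∪ {S | ∃ g ∈ isoG B, ∃ h ∈ isoG B, S = g * h * g⁻¹ * h⁻¹})

namespace Fac

variable (hB : Fac B ε)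
include hB

/-- The Siegel element. -/
noncomputable def eGL {c z : Fin n → F} (hc : B c c = 0) (hz : B z c = 0) (k : F) : GL (Fin n) F where
  val := LinearMap.toMatrix' (esie B ε c z k)
  inv := LinearMap.toMatrix' (esie B ε c (-z) (-k - ε * B z z))
  val_inv := Matrix.ext_iff_mulVec.2 fun x => by
    rw [← mulVec_mulVec, LinearMap.toMatrix'_mulVec, LinearMap.toMatrix'_mulVec,
      hB.esie_comp hc (by simp [hz]) hz, one_mulVec, neg_add_cancel,
      show -k - ε * B z z + k - ε * B (-z) z = 0 by simp; ring, esie_zero, LinearMap.id_apply]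
  inv_val := Matrix.ext_iff_mulVec.2 fun x => by
    rw [← mulVec_mulVec, LinearMap.toMatrix'_mulVec, LinearMap.toMatrix'_mulVec,
      hB.esie_comp hc hz (by simp [hz]), one_mulVec, add_neg_cancel,
      show k + (-k - ε * B z z) - ε * B z (-z) = 0 by simp; ring, esie_zero, LinearMap.id_apply]

theorem eGL_mulVec {c z : Fin n → F} (hc : B c c = 0) (hz : B z c = 0) (k : F) (x : Fin n → F) :
    (hB.eGL hc hz k : Matrix (Fin n) (Fin n) F) *ᵥ x = esie B ε c z k x :=
  LinearMap.toMatrix'_mulVec _ _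

theorem eGL_mem_rootSet {c z : Fin n → F} (hc : B c c = 0) (hz : B z c = 0) {k : F}
    (hk : k * (1 + ε) + B z z = 0) : hB.eGL hc hz k ∈ rootSet B ε :=
  ⟨c, z, k, hc, hz, hk, hB.eGL_mulVec hc hz k⟩

theorem eGL_mem {c z : Fin n → F} (hc : B c c = 0) (hz : B z c = 0) {k : F}
    (hk : k * (1 + ε) + B z z = 0) : hB.eGL hc hz k ∈ fgrp B ε :=
  Subgroup.subset_closure (Or.inl (hB.eGL_mem_rootSet hc hz hk))

theorem rootSet_isom : rootSet B ε ⊆ (isoG B : Set (GL (Fin n) F)) := by
  rintro S ⟨c, z, k, hc, hz, hk, hS⟩ x y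
  rw [hS, hS, hB.esie_isom hc hz hk]

theorem fgrp_le : fgrp B ε ≤ isoG B := by
  refine (Subgroup.closure_le _).2 (Set.union_subset hB.rootSet_isom ?_)
  rintro S ⟨g, hg, h, hh, rfl⟩
  exact mul_mem (mul_mem (mul_mem hg hh) (inv_mem hg)) (inv_mem hh)

/-- `fgrp` moves any non-zero isotropic vector to a multiple of any other. -/
theorem exists_move (hn : 3 ≤ n ∨ ∀ x, B x x = 0) {c c' : Fin n → F} (hc0 : c ≠ 0) (hc'0 : c' ≠ 0)
    (hc : B c c = 0) (hc' : B c' c' = 0) :
    ∃ S ∈ fgrp B ε, ∃ s : F, s ≠ 0 ∧ (S : Matrix (Fin n) (Fin n) F) *ᵥ c = s • c' := by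
  obtain ⟨d, hd, hdc, hdc'⟩ := hB.exists_common hn hc0 hc'0 hc hc'
  have hcd : B c d ≠ 0 := fun h => hdc (hB.orth_comm h)
  have hcd' : B c' d ≠ 0 := fun h => hdc' (hB.orth_comm h)
  set s := B c d / B c' d with hs
  have he : s * B c' d = B c d := div_mul_cancel₀ _ hcd'
  set t := (B c d)⁻¹ with ht
  set z := t • (s • c' - c) with hz
  have hzd : B z d = 0 := by simp [hz, he]
  set k := ε * (s * B c c') * t * t with hk
  have hzz : k * (1 + ε) + B z z = 0 := by
    simp only [hz, map_sub, map_smul, LinearMap.sub_apply, LinearMap.smul_apply, smul_eq_mul, hc, hc',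
      hk, hB.symm c' c]
    linear_combination (s * B c c' * t * t) * hB.eps_sq
  refine ⟨_, hB.eGL_mem hd hzd hzz, s, div_ne_zero hcd hcd', ?_⟩
  rw [hB.eGL_mulVec, esie_apply]
  have h1 : B c d • z = s • c' - c := by rw [hz, smul_smul, ht, mul_inv_cancel₀ hcd, one_smul]
  have h2 : ε * B c z = k * B c d := by
    simp only [hz, map_sub, map_smul, smul_eq_mul, hc, hk, sub_zero]
    linear_combination (-ε * (s * B c c') * t) * mul_inv_cancel₀ hcd
  rw [h1, h2]
  abel

/-- The map fixing the orthogonal of a hyperbolic pair and sending it to another pair in its span. -/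
noncomputable def pairMap (c d p q : Fin n → F) : (Fin n → F) →ₗ[F] (Fin n → F) :=
  LinearMap.id + (B.flip c).smulRight (p - d) + (ε • B.flip d).smulRight (q - c)

omit hB in
theorem pairMap_apply (c d p q x : Fin n → F) :
    pairMap (B := B) (ε := ε) c d p q x = x + B x c • (p - d) + (ε * B x d) • (q - c) := by
  simp [pairMap]

theorem exists_pair_iso {c d p q p' q' : Fin n → F} (hc : B c c = 0) (hd : B d d = 0) (hdc : B d c = 1)
    (h1 : pairMap (B := B) (ε := ε) c d p' q' p = d) (h2 : pairMap (B := B) (ε := ε) c d p' q' q = c)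
    (h3 : pairMap (B := B) (ε := ε) c d p q p' = d) (h4 : pairMap (B := B) (ε := ε) c d p q q' = c)
    (hiso : ∀ x y, B (pairMap (B := B) (ε := ε) c d p q x) (pairMap (B := B) (ε := ε) c d p q y) = B x y) :
    ∃ g : GL (Fin n) F, g ∈ isoG B ∧
      (∀ x, (g : Matrix (Fin n) (Fin n) F) *ᵥ x = pairMap (B := B) (ε := ε) c d p q x) ∧
      ∀ x, ((g⁻¹ : GL (Fin n) F) : Matrix (Fin n) (Fin n) F) *ᵥ x =
        pairMap (B := B) (ε := ε) c d p' q' x := by
  have hcd : B c d = ε := by rw [hB.symm, hdc, mul_one]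
  have key : ∀ p q p' q' : Fin n → F, pairMap (B := B) (ε := ε) c d p q p' = d →
      pairMap (B := B) (ε := ε) c d p q q' = c → ∀ x,
      pairMap (B := B) (ε := ε) c d p q (pairMap (B := B) (ε := ε) c d p' q' x) = x := by
    intro p q p' q' hp hq x
    rw [pairMap_apply c d p' q' x]
    simp only [map_add, map_smul, map_sub, hp, hq]
    have hd' : pairMap (B := B) (ε := ε) c d p q d = p := by
      rw [pairMap_apply, hdc, hd]; simp
    have hc' : pairMap (B := B) (ε := ε) c d p q c = q := by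
      rw [pairMap_apply, hc, hcd, hB.eps_sq]; simp
    rw [pairMap_apply c d p q x, hd', hc']
    module
  refine ⟨⟨LinearMap.toMatrix' (pairMap (B := B) (ε := ε) c d p q),
    LinearMap.toMatrix' (pairMap (B := B) (ε := ε) c d p' q'),
    Matrix.ext_iff_mulVec.2 fun x => ?_, Matrix.ext_iff_mulVec.2 fun x => ?_⟩,
    fun x y => by simpa using hiso x y, fun x => by simp, fun x => by simp⟩
  · rw [← mulVec_mulVec, LinearMap.toMatrix'_mulVec, LinearMap.toMatrix'_mulVec, one_mulVec, key _ _ _ _ h3 h4]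
  · rw [← mulVec_mulVec, LinearMap.toMatrix'_mulVec, LinearMap.toMatrix'_mulVec, one_mulVec, key _ _ _ _ h1 h2]

/-- Squares scale an isotropic vector, fixing the orthogonal of a hyperbolic pair through it. -/
theorem exists_scale {c d : Fin n → F} (hc : B c c = 0) (hd : B d d = 0) (hdc : B d c = 1) {μ : F}
    (hμ : μ ≠ 0) :
    ∃ S ∈ fgrp B ε, (S : Matrix (Fin n) (Fin n) F) *ᵥ c = (μ * μ) • c ∧
      ∀ x, B x c = 0 → B x d = 0 → (S : Matrix (Fin n) (Fin n) F) *ᵥ x = x := by
  have hcd : B c d = ε := by rw [hB.symm, hdc, mul_one]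
  obtain ⟨g, hg, hgv, hgi⟩ := hB.exists_pair_iso (p := μ⁻¹ • d) (q := μ • c) (p' := μ • d) (q' := μ⁻¹ • c)
    hc hd hdc (by simp [pairMap_apply, hdc, hd]; match_scalars <;> field_simp <;> ring)
    (by simp [pairMap_apply, hc, hcd, hB.eps_sq]; match_scalars <;> field_simp <;> ring)
    (by simp [pairMap_apply, hdc, hd]; match_scalars <;> field_simp <;> ring)
    (by simp [pairMap_apply, hc, hcd, hB.eps_sq]; match_scalars <;> field_simp <;> ring)
    (fun x y => by
      simp only [pairMap_apply, map_add, map_smul, map_sub, LinearMap.add_apply, LinearMap.smul_apply,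
        LinearMap.sub_apply, smul_eq_mul, hc, hd, hdc, hcd, hB.symm c y, hB.symm d y]
      field_simp
      rcases hB.kind with ⟨rfl, -⟩ | ⟨rfl, -⟩ <;> ring)
  obtain ⟨σ, hσ, hσv, hσi⟩ := hB.exists_pair_iso (p := ε • c) (q := d) (p' := c) (q' := ε • d)
    hc hd hdc (by simp [pairMap_apply, hc, hcd, smul_smul, hB.eps_sq])
    (by simp [pairMap_apply, hdc, hd])
    (by simp [pairMap_apply, hc, hcd, hB.eps_sq])
    (by simp [pairMap_apply, hdc, hd, smul_smul, hB.eps_sq])
    (fun x y => by
      simp only [pairMap_apply, map_add, map_smul, map_sub, LinearMap.add_apply, LinearMap.smul_apply,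
        LinearMap.sub_apply, smul_eq_mul, hc, hd, hdc, hcd, hB.symm c y, hB.symm d y]
      rcases hB.kind with ⟨rfl, -⟩ | ⟨rfl, -⟩ <;> ring)
  refine ⟨g * σ * g⁻¹ * σ⁻¹, Subgroup.subset_closure (Or.inr ⟨g, hg, σ, hσ, rfl⟩), ?_, fun x hx1 hx2 => ?_⟩
  · simp only [Units.val_mul, ← mulVec_mulVec, hσi, hgi, hσv, hgv]
    simp [pairMap_apply, hc, hd, hdc, hcd]
    rcases hB.kind with ⟨rfl, -⟩ | ⟨rfl, -⟩ <;> match_scalars <;> field_simp <;> ring
  · simp only [Units.val_mul, ← mulVec_mulVec, hσi, hgi, hσv, hgv, pairMap_apply, hx1, hx2, mul_zero,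
      zero_smul, add_zero]

end Fac

end CfsgLib.TensorOrth
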