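import Cfsg.Agent.TensorOrth.Factor

/-!
# Elements of the factor group fixing an isotropic vector
-/

set_option autoImplicit false
set_option linter.unusedSectionVars false

namespace CfsgLib.TensorOrth

open Matrix Module

variable {F : Type*} [Field F] {n : ℕ}

/-- No totally isotropic plane. -/
def NoPlane (B : LinearMap.BilinForm F (Fin n → F)) : Prop :=
  ∀ x y, x ≠ 0 → B x x = 0 → B y y = 0 → B x y = 0 → ∃ s : F, s • x = y

/-- The cases in which the stabiliser of an isotropic vector moves isotropic vectors. -/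
def Wide (B : LinearMap.BilinForm F (Fin n → F)) : Prop :=
  5 ≤ n ∨ (∀ x, B x x = 0) ∨ NoPlane B

variable {B : LinearMap.BilinForm F (Fin n → F)} {ε : F}

namespace Fac

variable (hB : Fac B ε)
include hB

theorem noPlane_of_three (hn : n ≤ 3) : NoPlane B := by
  intro x y hx hxx hyy hxy
  by_contra! hs
  set W := Submodule.span F ({x, y} : Set (Fin n → F)) with hW
  have hle : W ≤ B.orthogonal W := by
    intro u hu
    rw [LinearMap.BilinForm.mem_orthogonal_iff]
    intro w hw
    obtain ⟨a, b, rfl⟩ := Submodule.mem_span_pair.1 hu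
    obtain ⟨a', b', rfl⟩ := Submodule.mem_span_pair.1 hw
    simp [LinearMap.BilinForm.IsOrtho, hxx, hyy, hxy, hB.orth_comm hxy]
  have h2 : 2 ≤ finrank F W := by
    by_contra h
    have hyW : y ∈ Submodule.span F {x} := by
      have h1 : Submodule.span F {x} ≤ W := Submodule.span_mono (by simp)
      rw [Submodule.eq_of_le_of_finrank_le h1 (by rw [finrank_span_singleton hx]; omega)]
      exact Submodule.subset_span (by simp)
    obtain ⟨s, hs'⟩ := Submodule.mem_span_singleton.1 hyW
    exact hs s hs'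
  have h3 := Submodule.finrank_mono hle
  rw [hB.finrank_orth] at h3
  omega

theorem noPlane_wide (hn : n ≤ 3) : Wide B := Or.inr (Or.inr (hB.noPlane_of_three hn))

/-- The stabiliser of `c` carries `v ⊥ c` to a vector not orthogonal to it. -/
theorem exists_pairing (hW : Wide B) {c v : Fin n → F} (hc0 : c ≠ 0) (hc : B c c = 0)
    (hv : B v c = 0) (hvc : ∀ s : F, s • c ≠ v) :
    ∃ S ∈ fgrp B ε, (S : Matrix (Fin n) (Fin n) F) *ᵥ c = c ∧
      B ((S : Matrix (Fin n) (Fin n) F) *ᵥ v) v ≠ 0 := by
  by_cases hvv : B v v = 0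
  swap
  · exact ⟨1, one_mem _, by simp, by simpa using hvv⟩
  obtain ⟨w, hwc, hwv⟩ := hB.exists_orth_not_orth hvc
  rcases hB.kind with ⟨he, h2⟩ | ⟨he, ha⟩
  · obtain ⟨e, hec, hee, hev⟩ := hB.exists_partner_in (K := cperp B c) (x := w) hv hwc hvv
      (by rw [hwv]; exact one_ne_zero)
    have hv0 : v ≠ 0 := fun h => hvc 0 (by rw [h, zero_smul])
    rcases hW with hn | hn | hn
    · set K := cperp B c ⊓ cperp B v ⊓ cperp B e with hK
      obtain ⟨z, hzK, hz⟩ : ∃ z ∈ K, B z z ≠ 0 := by
        by_contra! h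
        have hd : 2 ≤ finrank F K := by
          have h1 := hB.finrank_cperp hc0
          have h2 := hB.finrank_le_inf (cperp B c) v
          have h3 := hB.finrank_le_inf (cperp B c ⊓ cperp B v) e
          rw [← hK] at h3
          omega
        obtain ⟨z, hzK, hzc⟩ : ∃ z ∈ K, z ∉ Submodule.span F {c} := by
          by_contra! h4
          have h5 := Submodule.finrank_mono (R := F) (show K ≤ Submodule.span F {c} from h4)
          have h6 := finrank_span_le_card (R := F) ({c} : Set (Fin n → F))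
          simp at h6
          omega
        refine hzc ?_
        have hzero : ∀ y, B y c = 0 → B z y = 0 := by
          intro y hy
          have hy1 := hB.sub_mem_pair hvv hee hev y
          set y' := y - B y v • e - (ε * B y e) • v with hy'
          have hy'K : y' ∈ K := ⟨⟨by
            rw [SetLike.mem_coe, mem_cperp, hy']
            simp [hy, show B e c = 0 from hec, hv], hy1.1⟩, hy1.2⟩
          have h7 := h z hzK
          have h8 := h y' hy'K
          have h9 := h (z + y') (K.add_mem hzK hy'K)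
          have h10 : B z y' = 0 := by
            simp only [map_add, LinearMap.add_apply, h7, h8, hB.symm y' z, he, one_mul, zero_add,
              add_zero] at h9
            exact (mul_eq_zero.1 ((two_mul _).trans h9)).resolve_left h2
          have e1 : y = y' + B y v • e + (ε * B y e) • v := by rw [hy']; abel
          rw [e1]
          simp [h10, show B z v = 0 from hzK.1.2, show B z e = 0 from hzK.2]
        by_contra hs
        obtain ⟨y, hy1, hy2⟩ := hB.exists_orth_not_orth (c := c) (z := z) fun s hs' =>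
          hs (Submodule.mem_span_singleton.2 ⟨s, hs'⟩)
        exact one_ne_zero (hy2.symm.trans (hB.orth_comm (hzero y hy1)))
      have hk : -B z z / 2 * (1 + ε) + B z z = 0 := by rw [he]; field_simp; ring
      refine ⟨_, hB.eGL_mem hee (show B z e = 0 from hzK.2) hk, ?_, ?_⟩
      · rw [hB.eGL_mulVec, esie_apply]
        simp [hB.orth_comm (show B e c = 0 from hec), hB.orth_comm (show B z c = 0 from hzK.1.1)]
      · rw [hB.eGL_mulVec, esie_apply]
        have hve : B v e = 1 := by rw [hB.symm, hev, he, one_mul]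
        simp [hvv, hB.orth_comm (show B z v = 0 from hzK.1.2), hve, hev, hz, h2, show B z v = 0 from hzK.1.2]
    · exact absurd (show (2 : F) = 0 by
        have h3 := hn (e + v)
        simp only [map_add, LinearMap.add_apply, hee, hvv, hev, hB.symm v e, he] at h3
        linear_combination h3) h2
    · obtain ⟨s, hs⟩ := hn c v hc0 hc hvv (hB.orth_comm hv)
      exact absurd hs (hvc s)
  · refine ⟨_, hB.eGL_mem (c := w) (z := 0) (ha w) (by simp) (k := 1) (by simp [he]), ?_, ?_⟩
    · rw [hB.eGL_mulVec, esie_apply]; simp [hB.orth_comm hwc]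
    · rw [hB.eGL_mulVec, esie_apply]
      simp only [map_zero, smul_zero, mul_zero, zero_smul, add_zero, sub_zero, one_mul, map_add, map_smul,
        LinearMap.add_apply, LinearMap.smul_apply, smul_eq_mul, hvv, zero_add, hwv, mul_one]
      exact fun h => one_ne_zero (hwv.symm.trans (hB.orth_comm h))

/-- A diagonal element on an isotropic pair spanning a totally isotropic plane. -/
theorem exists_torus {c h : Fin n → F} (hc : B c c = 0) (hh : B h h = 0) (hch : B c h = 0)
    (hhc : ∀ s : F, s • c ≠ h) (hc0 : c ≠ 0) {μ : F} (hμ : μ ≠ 0) :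
    ∃ S ∈ fgrp B ε, (S : Matrix (Fin n) (Fin n) F) *ᵥ c = μ • c ∧
      (S : Matrix (Fin n) (Fin n) F) *ᵥ h = μ⁻¹ • h := by
  have elem : ∀ {c h : Fin n → F}, B c c = 0 → B h h = 0 → B c h = 0 → (∀ s : F, s • c ≠ h) → ∀ t : F,
      ∃ S ∈ fgrp B ε, (S : Matrix (Fin n) (Fin n) F) *ᵥ c = c ∧
        (S : Matrix (Fin n) (Fin n) F) *ᵥ h = h + t • c := by
    intro c h hc hh hch hhc t
    obtain ⟨x, hxc, hxh⟩ := hB.exists_orth_not_orth hhc
    have hzc : B (-t • x) c = 0 := by simp [hxc]
    obtain ⟨k, hk⟩ := hB.exists_param (-t • x)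
    have hhx : B h x = ε := by rw [hB.symm, hxh, mul_one]
    refine ⟨_, hB.eGL_mem hc hzc hk, ?_, ?_⟩
    · rw [hB.eGL_mulVec, esie_apply]; simp [hc, hB.orth_comm hxc]
    · rw [hB.eGL_mulVec, esie_apply]
      simp [hB.orth_comm hch, hhx]
      match_scalars <;> linear_combination t * hB.eps_sq
  have hch' : ∀ s : F, s • h ≠ c := fun s hs => by
    rcases eq_or_ne s 0 with rfl | hs0
    · exact hc0 (by simpa using hs.symm)
    · exact hhc s⁻¹ (by rw [← hs, smul_smul, inv_mul_cancel₀ hs0, one_smul])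
  have hhc' := hB.orth_comm hch
  -- `w(t) = U(t) L(-t⁻¹) U(t)` on the pair
  have weyl : ∀ t : F, t ≠ 0 → ∃ S ∈ fgrp B ε, (S : Matrix (Fin n) (Fin n) F) *ᵥ c = -t⁻¹ • h ∧
      (S : Matrix (Fin n) (Fin n) F) *ᵥ h = t • c := by
    intro t ht
    obtain ⟨U, hU, hUc, hUh⟩ := elem hc hh hch hhc t
    obtain ⟨L, hL, hLh, hLc⟩ := elem hh hc hhc' hch' (-t⁻¹)
    refine ⟨U * L * U, mul_mem (mul_mem hU hL) hU, ?_, ?_⟩
    · simp only [Units.val_mul, ← mulVec_mulVec, hUc, hLc, mulVec_add, mulVec_smul, hUh]
      match_scalars <;> field_simp <;> ring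
    · simp only [Units.val_mul, ← mulVec_mulVec, hUh, hLc, hLh, mulVec_add, mulVec_smul, hUc]
      match_scalars <;> field_simp <;> ring
  obtain ⟨S₁, hS₁, h1c, h1h⟩ := weyl (-1) (by simp)
  obtain ⟨S₂, hS₂, h2c, h2h⟩ := weyl μ hμ
  refine ⟨S₂ * S₁, mul_mem hS₂ hS₁, ?_, ?_⟩
  · simp only [Units.val_mul, ← mulVec_mulVec, h1c, mulVec_smul, h2h]
    match_scalars; ring
  · simp only [Units.val_mul, ← mulVec_mulVec, h1h, mulVec_smul, h2c]
    match_scalars; ring

/-- The reflection in a non-singular vector, as an isometry. -/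
theorem exists_refl (he : ε = 1) {u : Fin n → F} (hu : B u u ≠ 0) :
    ∃ g ∈ isoG B, ∀ x, (g : Matrix (Fin n) (Fin n) F) *ᵥ x = x - (2 * B x u / B u u) • u := by
  let r : (Fin n → F) →ₗ[F] (Fin n → F) := LinearMap.id - (2 / B u u) • (B.flip u).smulRight u
  have hr : ∀ x, r x = x - (2 * B x u / B u u) • u := fun x => by
    simp only [r, LinearMap.sub_apply, LinearMap.id_apply, LinearMap.smul_apply,
      LinearMap.smulRight_apply, LinearMap.BilinForm.flip_apply]
    match_scalars <;> ring
  have hrr : LinearMap.toMatrix' r * LinearMap.toMatrix' r = 1 := Matrix.ext_iff_mulVec.2 fun x => by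
    rw [← mulVec_mulVec, LinearMap.toMatrix'_mulVec, LinearMap.toMatrix'_mulVec, one_mulVec, hr (r x), hr x]
    simp only [map_sub, map_smul, LinearMap.sub_apply, LinearMap.smul_apply, smul_eq_mul]
    match_scalars <;> field_simp <;> ring
  refine ⟨⟨_, _, hrr, hrr⟩, fun x y => ?_, fun x => ?_⟩
  · show B (LinearMap.toMatrix' r *ᵥ x) (LinearMap.toMatrix' r *ᵥ y) = B x y
    simp only [LinearMap.toMatrix'_mulVec, hr, map_sub, map_smul, LinearMap.sub_apply,
      LinearMap.smul_apply, smul_eq_mul, hB.symm u y, he, one_mul]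
    field_simp
    ring
  · show LinearMap.toMatrix' r *ᵥ x = _
    rw [LinearMap.toMatrix'_mulVec, hr]

/-- An orthogonal vector with the same value: dimension at least five, or four without singular planes
over the field with three elements. -/
theorem exists_equal_value [Finite F] (he : ε = 1) (h2 : (2 : F) ≠ 0)
    (hn : 5 ≤ n ∨ (4 ≤ n ∧ NoPlane B ∧ Nat.card F = 3)) {c d x : Fin n → F} (hc0 : c ≠ 0)
    (hc : B c c = 0) (hd : B d d = 0) (hdc : B d c = 1) (hxc : B x c = 0) (hxd : B x d = 0)
    (hx : B x x ≠ 0) :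
    ∃ x', B x' c = 0 ∧ B x' d = 0 ∧ B x' x = 0 ∧ B x' x' = B x x := by
  set K := cperp B c ⊓ cperp B d ⊓ cperp B x with hK
  have hK3 : n ≤ finrank F K + 3 := by
    have h1 := hB.finrank_cperp hc0
    have h3 := hB.finrank_le_inf (cperp B c) d
    have h4 := hB.finrank_le_inf (cperp B c ⊓ cperp B d) x
    rw [← hK] at h4
    omega
  have hsep : ∀ z : K, (∀ y : K, QuadraticMap.polar (⇑(B.toQuadraticMap.comp K.subtype)) z y = 0) → z = 0 := by
    intro z hz
    refine Subtype.ext (hB.sep fun y => ?_)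
    have hy := hB.sub_mem_pair hc hd hdc y
    set y1 := y - B y c • d - (ε * B y d) • c with hy1
    set y2 := y1 - (B y1 x / B x x) • x with hy2
    have hy2K : y2 ∈ K := by
      refine ⟨⟨?_, ?_⟩, ?_⟩ <;> rw [SetLike.mem_coe, mem_cperp, hy2]
      · simp [hxc, show B y1 c = 0 from hy.1]
      · simp [hxd, show B y1 d = 0 from hy.2]
      · simp [hx]
    have h := hz ⟨y2, hy2K⟩
    simp only [QuadraticMap.polar, QuadraticMap.comp_apply, Submodule.coe_subtype, Submodule.coe_add,
      LinearMap.BilinMap.toQuadraticMap_apply, map_add, LinearMap.add_apply] at h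
    have h' : B (z : Fin n → F) y2 = 0 := by
      have := hB.symm y2 z
      rw [he, one_mul] at this
      rw [this] at h
      exact (mul_eq_zero.1 (show 2 * B (z : Fin n → F) y2 = 0 by linear_combination h)).resolve_left h2
    have e : y = y2 + (B y1 x / B x x) • x + B y c • d + (ε * B y d) • c := by rw [hy2, hy1]; abel
    rw [e]
    simp [h', show B (z : Fin n → F) x = 0 from z.2.2, show B (z : Fin n → F) d = 0 from z.2.1.2,
      show B (z : Fin n → F) c = 0 from z.2.1.1]
  rcases hn with hn | ⟨hn, hP, hq⟩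
  · obtain ⟨z, hz⟩ := Forms.exists_quad_value h2 (B.toQuadraticMap.comp K.subtype) hsep (by omega) (B x x)
    exact ⟨z, z.2.1.1, z.2.1.2, z.2.2, hz⟩
  · obtain ⟨z, hz, hz0⟩ := (Submodule.ne_bot_iff K).1 (fun h => by rw [h, finrank_bot] at hK3; omega)
    refine ⟨z, hz.1.1, hz.1.2, hz.2, ?_⟩
    have haniso : ∀ w, B w c = 0 → B w d = 0 → B w w = 0 → w = 0 := by
      intro w hwc hwd hww
      obtain ⟨s, rfl⟩ := hP c w hc0 hc hww (hB.orth_comm hwc)
      have : s = 0 := by simpa [hB.symm c d, hdc, he] using hwd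
      rw [this, zero_smul]
    have hzz : B z z ≠ 0 := fun h => hz0 (haniso z hz.1.1 hz.1.2 h)
    by_contra hne
    have := Fintype.ofFinite F
    rw [Nat.card_eq_fintype_card] at hq
    have hsum : B z z + B x x = 0 := by
      by_contra hs
      classical
      have h4 : ({0, B z z, B x x, -B x x} : Finset F).card ≤ 3 := hq ▸ Finset.card_le_univ _
      have hm : B x x ≠ -B x x := fun h => hx ((mul_eq_zero.1 (show 2 * B x x = 0 by linear_combination h)).resolve_left h2)
      have hne2 : B z z ≠ -B x x := fun h => hs (by rw [h]; ring)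
      rw [Finset.card_insert_of_notMem (by simp [hzz, hx, Ne.symm hzz, Ne.symm hx]),
        Finset.card_insert_of_notMem (by simp [hne, hne2]),
        Finset.card_pair hm] at h4
      omega
    have hx0 : z + x = 0 := haniso _ (by simp [show B z c = 0 from hz.1.1, hxc])
      (by simp [show B z d = 0 from hz.1.2, hxd])
      (by simp [show B z x = 0 from hz.2, hB.orth_comm (show B z x = 0 from hz.2), hsum])
    have h5 := congrArg (fun w => B w x) hx0
    simp [show B z x = 0 from hz.2, hx] at h5

/-- An element fixing `c` that moves a given vector of `{c, d}⊥` off its coset of `F c`. -/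
theorem exists_fix_move [Finite F]
    (hn : (∀ x, B x x = 0) ∨ 5 ≤ n ∨ (4 ≤ n ∧ NoPlane B ∧ Nat.card F = 3)) {c d v : Fin n → F}
    (hc0 : c ≠ 0) (hc : B c c = 0) (hd : B d d = 0) (hdc : B d c = 1) (hvc : B v c = 0)
    (hvd : B v d = 0) (hv : v ≠ 0) :
    ∃ S ∈ fgrp B ε, (S : Matrix (Fin n) (Fin n) F) *ᵥ c = c ∧
      ∀ s : F, s • c ≠ (S : Matrix (Fin n) (Fin n) F) *ᵥ v - v := by
  obtain ⟨y, hy⟩ := hB.exists_one hv
  set w := y - B y c • d - (ε * B y d) • c with hw
  have hwm := hB.sub_mem_pair hc hd hdc y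
  have hwv : B w v = 1 := by simp [hw, hy, hB.orth_comm hvc, hB.orth_comm hvd]
  rcases hB.kind with ⟨he, h2⟩ | ⟨he, ha⟩
  · rcases hn with hn | hn
    · have h3 := hn (c + d)
      simp only [map_add, LinearMap.add_apply, hc, hd, hdc, hB.symm c d, he] at h3
      exact absurd (show (2 : F) = 0 by linear_combination h3) h2
    obtain ⟨x, hxc, hxd, hxx, hxv⟩ : ∃ x, B x c = 0 ∧ B x d = 0 ∧ B x x ≠ 0 ∧ B x v ≠ 0 := by
      by_cases hvv : B v v = 0
      swap
      · exact ⟨v, hvc, hvd, hvv, hvv⟩
      by_cases hww : B w w = 0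
      swap
      · exact ⟨w, hwm.1, hwm.2, hww, by rw [hwv]; exact one_ne_zero⟩
      refine ⟨w + v, (cperp B c).add_mem hwm.1 hvc, (cperp B d).add_mem hwm.2 hvd, ?_, by simp [hwv, hvv]⟩
      simpa [hww, hvv, hwv, hB.symm v w, he, one_add_one_eq_two] using h2
    obtain ⟨x', hx'c, hx'd, hx'x, hx'⟩ := hB.exists_equal_value he h2 hn hc0 hc hd hdc hxc hxd hxx
    have hxx' := hB.orth_comm hx'x
    have hu : B (x - x') (x - x') = 2 * B x x := by simp [hx'x, hxx', hx']; ring
    obtain ⟨r, hr, hrv⟩ := hB.exists_refl he hxx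
    obtain ⟨g, hg, hgv⟩ := hB.exists_refl he (u := x - x') (by rw [hu]; exact mul_ne_zero h2 hxx)
    have hgg : g⁻¹ = g := inv_eq_of_mul_eq_one_right (Units.ext (Matrix.ext_iff_mulVec.2 fun z => by
      rw [Units.val_mul, ← mulVec_mulVec, hgv, hgv, Units.val_one, one_mulVec, hu]
      simp [hx'x, hxx', hx']
      match_scalars <;> field_simp <;> ring))
    have hrr : r⁻¹ = r := inv_eq_of_mul_eq_one_right (Units.ext (Matrix.ext_iff_mulVec.2 fun z => by
      rw [Units.val_mul, ← mulVec_mulVec, hrv, hrv, Units.val_one, one_mulVec]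
      simp
      match_scalars <;> field_simp <;> ring))
    have hS : ∀ z, B z x' = 0 → ((r * g * r⁻¹ * g⁻¹ : GL (Fin n) F) : Matrix (Fin n) (Fin n) F) *ᵥ z
        = z - (2 * B z x / B x x) • x := by
      intro z hz
      rw [hrr, hgg]
      simp only [Units.val_mul, ← mulVec_mulVec, hgv, hrv]
      simp only [hu]
      simp only [map_sub, map_smul, LinearMap.sub_apply,
        LinearMap.smul_apply, smul_eq_mul, hx'x, hxx', hx', hz]
      match_scalars <;> field_simp <;> ring
    refine ⟨_, Subgroup.subset_closure (Or.inr ⟨r, hr, g, hg, rfl⟩), ?_, fun s hs => ?_⟩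
    · rw [hS c (hB.orth_comm hx'c), hB.orth_comm hxc, mul_zero, zero_div, zero_smul, sub_zero]
    · -- pair both sides with `x`
      have hgen : B (((r * g * r⁻¹ * g⁻¹ : GL (Fin n) F) : Matrix (Fin n) (Fin n) F) *ᵥ v - v) x
          = -2 * B v x := by
        rw [hrr, hgg]
        simp only [Units.val_mul, ← mulVec_mulVec, hgv, hrv]
        simp only [hu]
        simp only [map_sub, map_smul, LinearMap.sub_apply,
          LinearMap.smul_apply, smul_eq_mul, hx'x, hxx', hx']
        field_simp
        ring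
      rw [← hs, map_smul, LinearMap.smul_apply, hB.orth_comm hxc, smul_zero] at hgen
      refine hxv (hB.orth_comm ?_)
      exact (mul_eq_zero.1 hgen.symm).resolve_left (neg_ne_zero.2 h2)
  · refine ⟨_, hB.eGL_mem (c := w) (z := 0) (ha w) (by simp) (k := 1) (by simp [he]), ?_, fun s hs => ?_⟩
    · rw [hB.eGL_mulVec, esie_apply]; simp [hB.orth_comm (show B w c = 0 from hwm.1)]
    · rw [hB.eGL_mulVec, esie_apply] at hs
      have h3 := congrArg (fun z => B z v) hs
      simp [hB.orth_comm hvc, hwv] at h3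
      exact one_ne_zero (hwv.symm.trans (hB.orth_comm h3.symm))

end Fac

end CfsgLib.TensorOrth
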