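import Mathlib

/-!
# A fixed element modulo a subgroup in a `p`-group
-/

set_option autoImplicit false

namespace CfsgLib.TensorOrth

open Subgroup

/-- In a `p`-group `J` an invariant subgroup `R` not inside `N` has an element outside `N` which
every element of `J` fixes modulo `N`. -/
theorem exists_fixed_mod {G : Type*} [Group G] [Finite G] {p : ℕ} [Fact p.Prime] {R J : Subgroup G}
    (hJ : IsPGroup p J) (hRJ : R ≤ J) (hnorm : ∀ g ∈ J, ∀ r ∈ R, g * r * g⁻¹ ∈ R) (N : Subgroup G)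
    (hne : ¬ R ≤ N) : ∃ m ∈ R, m ∉ N ∧ ∀ g ∈ J, g * m * g⁻¹ * m⁻¹ ∈ N := by
  classical
  have : Finite J := Subtype.finite
  have hnil : Group.IsNilpotent J := hJ.isNilpotent
  obtain ⟨n, hn⟩ := (Subgroup.nilpotent_iff_lowerCentralSeries.1 hnil)
  have hex : ∃ i, ∀ x : J, (x : G) ∈ R → x ∈ (⊤ : Subgroup J).lowerCentralSeries i → (x : G) ∈ N :=
    ⟨n, fun x _ hx => by
      rw [hn, mem_bot] at hx
      rw [hx]; exact N.one_mem⟩
  have hpos : Nat.find hex ≠ 0 := fun h => by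
    have hs := Nat.find_spec hex
    rw [h] at hs
    exact hne fun r hr => hs ⟨r, hRJ hr⟩ hr (by rw [Subgroup.lowerCentralSeries_zero]; exact mem_top _)
  obtain ⟨i, hi⟩ := Nat.exists_eq_succ_of_ne_zero hpos
  have hs := Nat.find_spec hex
  rw [hi] at hs
  have hmin := Nat.find_min hex (m := i) (by omega)
  push Not at hmin
  obtain ⟨x, hxR, hxi, hxN⟩ := hmin
  refine ⟨x, hxR, hxN, fun g hg => ?_⟩
  have hconj : g * (x : G) * g⁻¹ * (x : G)⁻¹ ∈ R := R.mul_mem (hnorm g hg _ hxR) (R.inv_mem hxR)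
  refine hs (⟨g, hg⟩ * x * ⟨g, hg⟩⁻¹ * x⁻¹) hconj ?_
  rw [Subgroup.lowerCentralSeries_succ]
  have h := inv_mem (commutator_mem_commutator hxi (mem_top (⟨g, hg⟩ : J)))
  simpa [commutatorElement_def, mul_assoc] using h

end CfsgLib.TensorOrth
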