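import Cfsg.Agent.TensorOrth.FactorMoves

/-!
# A seed Eichler element and the two factor groups generate `Ω`
-/

set_option autoImplicit false
set_option linter.unusedSectionVars false

namespace CfsgLib.TensorOrth

open Matrix Module CfsgLib.Spinor CfsgLib.Forms CfsgLib.OrthMax

variable {F : Type*} [Field F] [Fintype F] {ι : Type} [Fintype ι] [DecidableEq ι] {Q : QuadraticForm F (ι → F)}
  {a b : ℕ}

/-- A bilinear map presenting `(F^ι, Q)` as the tensor product of the two factors. -/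
structure Tens (Q : QuadraticForm F (ι → F)) (B₁ : LinearMap.BilinForm F (Fin a → F))
    (B₂ : LinearMap.BilinForm F (Fin b → F))
    (t : (Fin a → F) →ₗ[F] (Fin b → F) →ₗ[F] (ι → F)) : Prop where
  polar : ∀ x x' y y', QuadraticMap.polar (⇑Q) (t x y) (t x' y') = B₁ x x' * B₂ y y'
  quad : ∀ x y, B₁ x x = 0 ∨ B₂ y y = 0 → Q (t x y) = 0
  span : ∀ P : Submodule F (ι → F), (∀ x y, t x y ∈ P) → P = ⊤

/-- The factor groups act through `M`. -/
structure Lifts (M : Subgroup (Isom Q)) (t : (Fin a → F) →ₗ[F] (Fin b → F) →ₗ[F] (ι → F))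
    (B₁ : LinearMap.BilinForm F (Fin a → F)) (B₂ : LinearMap.BilinForm F (Fin b → F)) (ε : F) : Prop where
  left : ∀ S ∈ fgrp B₁ ε, ∃ g ∈ M, ∀ x y, mat Q g *ᵥ t x y = t ((S : Matrix (Fin a) (Fin a) F) *ᵥ x) y
  right : ∀ T ∈ fgrp B₂ ε, ∃ g ∈ M, ∀ x y, mat Q g *ᵥ t x y = t x ((T : Matrix (Fin b) (Fin b) F) *ᵥ y)

variable {B₁ : LinearMap.BilinForm F (Fin a → F)} {B₂ : LinearMap.BilinForm F (Fin b → F)}
  {t : (Fin a → F) →ₗ[F] (Fin b → F) →ₗ[F] (ι → F)} {M : Subgroup (Isom Q)} {ε : F}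

theorem Tens.swap (h : Tens Q B₁ B₂ t) : Tens Q B₂ B₁ t.flip where
  polar y y' x x' := by simp only [LinearMap.flip_apply, h.polar]; ring
  quad y x hxy := by simpa using h.quad x y hxy.symm
  span P hP := h.span P fun x y => hP y x

theorem Lifts.swap (h : Lifts M t B₁ B₂ ε) : Lifts M t.flip B₂ B₁ ε where
  left S hS := by
    obtain ⟨g, hg, hgv⟩ := h.right S hS
    exact ⟨g, hg, fun y x => hgv x y⟩
  right T hT := by
    obtain ⟨g, hg, hgv⟩ := h.left T hT
    exact ⟨g, hg, fun y x => hgv x y⟩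

/-- Scalar multiples of `w` all give elements of `M`. -/
def LineMem (M : Subgroup (Isom Q)) (u w : ι → F) : Prop := ∀ s : F, RootMem M u (s • w)

theorem LineMem.self {u w : ι → F} (h : LineMem M u w) : RootMem M u w := by simpa using h 1

theorem rootMem_self {u : ι → F} (hu : Q u = 0) (s : F) : RootMem M u (s • u) := fun g hg => by
  have h1 : g = 1 := mat_ext Q (by
    rw [hg, mat_one]
    refine Matrix.ext_iff_mulVec.2 fun x => ?_
    rw [eich_mulVec, one_mulVec, QuadraticMap.map_smul, hu, QuadraticMap.polar_smul_left]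
    simp [smul_smul, mul_comm])
  rw [h1]; exact one_mem M

/-- The vectors all whose multiples give elements of `M` at `u`. -/
def lineSub (M : Subgroup (Isom Q)) {u : ι → F} (hu : Q u = 0) : Submodule F (ι → F) where
  carrier := {w | QuadraticMap.polar (⇑Q) u w = 0 ∧ LineMem M u w}
  add_mem' {w w'} hw hw' := ⟨by rw [QuadraticMap.polar_add_right, hw.1, hw'.1, add_zero], fun s => by
    rw [smul_add]
    exact RootMem.add hu (by rw [QuadraticMap.polar_smul_right, hw.1, smul_zero])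
      (by rw [QuadraticMap.polar_smul_right, hw'.1, smul_zero]) (hw.2 s) (hw'.2 s)⟩
  zero_mem' := ⟨QuadraticMap.polar_zero_right Q _, fun s => by rw [smul_zero]; exact RootMem.zero⟩
  smul_mem' k w hw := ⟨by rw [QuadraticMap.polar_smul_right, hw.1, smul_zero],
    fun s => by rw [smul_smul]; exact hw.2 _⟩

theorem self_mem_lineSub {u : ι → F} (hu : Q u = 0) : u ∈ lineSub M hu :=
  ⟨by rw [QuadraticMap.polar_self, hu, smul_zero], fun s => rootMem_self hu s⟩

/-- An additive set closed under multiplication by squares and containing a line's generator is the line. -/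
theorem lineMem_of_squares {u w : ι → F} (hu : Q u = 0)
    (huw : QuadraticMap.polar (⇑Q) u w = 0)
    (h : ∀ μ : F, μ ≠ 0 → RootMem M u ((μ * μ) • w)) : LineMem M u w := by
  have h' : ∀ μ : F, RootMem M u ((μ * μ) • w) := fun μ => by
    rcases eq_or_ne μ 0 with rfl | hμ
    · rw [mul_zero, zero_smul]; exact RootMem.zero
    · exact h μ hμ
  intro s
  by_cases h2 : (2 : F) = 0
  · have : CharP F 2 := CharTwo.of_one_ne_zero_of_two_eq_zero one_ne_zero h2
    obtain ⟨r, hr⟩ := FiniteField.isSquare_of_char_two (ringChar.eq F 2) s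
    rw [hr]; exact h' r
  · have hp : ∀ k : F, QuadraticMap.polar (⇑Q) u (k • w) = 0 := fun k => by
      rw [QuadraticMap.polar_smul_right, huw, smul_zero]
    have := RootMem.add hu (hp _) (by rw [QuadraticMap.polar_neg_right, hp, neg_zero]) (h' ((s + 1) / 2))
      (RootMem.neg hu (hp _) (h' ((s - 1) / 2)))
    convert this using 1
    rw [← sub_eq_add_neg, ← sub_smul]
    congr 1
    field_simp
    ring

section

variable (hT : Tens Q B₁ B₂ t) (hL : Lifts M t B₁ B₂ ε)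
include hT

theorem Tens.quad_left {γ : Fin a → F} (hγ : B₁ γ γ = 0) (y : Fin b → F) : Q (t γ y) = 0 :=
  hT.quad _ _ (Or.inl hγ)

include hL

/-- Transport of an Eichler element by a pair from the factor groups. -/
theorem rootMem_conj {S : GL (Fin a) F} (hS : S ∈ fgrp B₁ ε) {T : GL (Fin b) F} (hTm : T ∈ fgrp B₂ ε)
    {x x' : Fin a → F} {y y' : Fin b → F} (h : RootMem M (t x y) (t x' y')) :
    RootMem M (t ((S : Matrix (Fin a) (Fin a) F) *ᵥ x) ((T : Matrix (Fin b) (Fin b) F) *ᵥ y))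
      (t ((S : Matrix (Fin a) (Fin a) F) *ᵥ x') ((T : Matrix (Fin b) (Fin b) F) *ᵥ y')) := by
  obtain ⟨g, hg, hgv⟩ := hL.left S hS
  obtain ⟨k, hk, hkv⟩ := hL.right T hTm
  have := h.conj (mul_mem hg hk)
  rwa [mat_mul, ← mulVec_mulVec, ← mulVec_mulVec, hkv, hkv, hgv, hgv] at this

end

/-- A left seed: `E(γ ⊗ c, γ ⊗ h) ∈ M`. -/
structure Seed (M : Subgroup (Isom Q)) (t : (Fin a → F) →ₗ[F] (Fin b → F) →ₗ[F] (ι → F))
    (B₁ : LinearMap.BilinForm F (Fin a → F)) (B₂ : LinearMap.BilinForm F (Fin b → F))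
    (γ : Fin a → F) (c h : Fin b → F) : Prop where
  γ_ne : γ ≠ 0
  γ_iso : B₁ γ γ = 0
  c_ne : c ≠ 0
  c_iso : B₂ c c = 0
  orth : B₂ h c = 0
  indep : ∀ s : F, s • c ≠ h
  mem : RootMem M (t γ c) (t γ h)

section Main

variable (hT : Tens Q B₁ B₂ t) (hL : Lifts M t B₁ B₂ ε) (h₁ : Fac B₁ ε) (h₂ : Fac B₂ ε)
include hT hL h₁ h₂

theorem Seed.line {γ : Fin a → F} {c h : Fin b → F} (hs : Seed M t B₁ B₂ γ c h) :
    LineMem M (t γ c) (t γ h) := by
  have hu := hT.quad_left hs.γ_iso c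
  have huw : ∀ y, QuadraticMap.polar (⇑Q) (t γ c) (t γ y) = 0 := fun y => by
    rw [hT.polar, hs.γ_iso, zero_mul]
  obtain ⟨d, hd, hdc⟩ := h₂.exists_partner hs.c_ne hs.c_iso
  set h' := h - (ε * B₂ h d) • c with hh'
  have hh'c : B₂ h' c = 0 := by simp [hh', hs.orth, hs.c_iso]
  have hh'd : B₂ h' d = 0 := by
    have e : B₂ c d = ε := by rw [h₂.symm, hdc, mul_one]
    simp only [hh', map_sub, map_smul, LinearMap.sub_apply, LinearMap.smul_apply, smul_eq_mul, e]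
    linear_combination -B₂ h d * h₂.eps_sq
  have e : t γ h = t γ h' + (ε * B₂ h d) • t γ c := by rw [← map_smul, ← map_add, hh', sub_add_cancel]
  have hm : RootMem M (t γ c) (t γ h') := by
    have := RootMem.add hu (huw h) (by rw [QuadraticMap.polar_smul_right, huw, smul_zero]) hs.mem
      (rootMem_self (M := M) hu (-(ε * B₂ h d)))
    convert this using 1
    rw [e, neg_smul]; abel
  have hline : LineMem M (t γ c) (t γ h') := by
    refine lineMem_of_squares hu (huw h') fun μ hμ => ?_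
    obtain ⟨T, hTm, hTc, hTx⟩ := h₂.exists_scale hs.c_iso hd hdc hμ
    have := rootMem_conj hT hL (one_mem _) hTm hm
    rw [Units.val_one, one_mulVec, hTc, hTx h' hh'c hh'd, map_smul, rootMem_smul_left] at this
    exact this
  intro s
  rw [e, smul_add, smul_smul]
  exact RootMem.add hu (by rw [QuadraticMap.polar_smul_right, huw, smul_zero])
    (by rw [QuadraticMap.polar_smul_right, huw, smul_zero]) (hline s) (rootMem_self hu _)

/-- A seed gives seeds at all singular pure tensors. -/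
theorem Seed.move (hn₁ : 3 ≤ a ∨ ∀ x, B₁ x x = 0) (hn₂ : 3 ≤ b ∨ ∀ x, B₂ x x = 0)
    {γ : Fin a → F} {c h : Fin b → F} (hs : Seed M t B₁ B₂ γ c h) {γ' : Fin a → F} (hγ' : γ' ≠ 0)
    (hγ'i : B₁ γ' γ' = 0) {c' : Fin b → F} (hc' : c' ≠ 0) (hc'i : B₂ c' c' = 0) :
    ∃ h', Seed M t B₁ B₂ γ' c' h' := by
  obtain ⟨S, hS, s, hs0, hSγ⟩ := h₁.exists_move hn₁ hs.γ_ne hγ' hs.γ_iso hγ'i
  obtain ⟨T, hTm, r, hr0, hTc⟩ := h₂.exists_move hn₂ hs.c_ne hc' hs.c_iso hc'i
  refine ⟨(T : Matrix (Fin b) (Fin b) F) *ᵥ h, hγ', hγ'i, hc', hc'i, ?_, fun k hk => ?_, ?_⟩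
  · have := h₂.fgrp_le hTm h c
    rw [hTc, hs.orth, map_smul, smul_eq_mul] at this
    exact (mul_eq_zero.1 this).resolve_left hr0
  · refine hs.indep (k / r) (Matrix.mulVec_injective_iff_isUnit.2 T.isUnit ?_)
    show (T : Matrix (Fin b) (Fin b) F) *ᵥ ((k / r) • c) = (T : Matrix (Fin b) (Fin b) F) *ᵥ h
    rw [mulVec_smul, hTc, smul_smul, div_mul_cancel₀ _ hr0, hk]
  · have := rootMem_conj hT hL hS hTm ((hs.line hT hL h₁ h₂) (s * (r * s))⁻¹ |> fun hm => by
      rw [← map_smul] at hm; exact hm)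
    rw [hSγ, hTc, mulVec_smul] at this
    simp only [map_smul, LinearMap.smul_apply, smul_smul, rootMem_smul_left] at this
    convert this using 1
    symm
    convert one_smul F _ using 2
    field_simp

/-- A seed gives `F^a ⊗ c`. -/
theorem Seed.block (hn₁ : 3 ≤ a ∨ ∀ x, B₁ x x = 0) (hW₂ : Wide B₂) {γ : Fin a → F}
    {c h : Fin b → F} (hs : Seed M t B₁ B₂ γ c h) (x : Fin a → F) :
    t x c ∈ lineSub M (hT.quad_left hs.γ_iso c) := by
  set u := t γ c with hueq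
  have hu := hT.quad_left hs.γ_iso c
  obtain ⟨R, hR, hRc, hRh⟩ := h₂.exists_pairing hW₂ hs.c_ne hs.c_iso hs.orth hs.indep
  set h' := (R : Matrix (Fin b) (Fin b) F) *ᵥ h with hh'
  have hh'c : B₂ h' c = 0 := by
    have := h₂.fgrp_le hR h c
    rwa [hRc, hs.orth] at this
  suffices hW : (lineSub M hu).comap (t.flip c) = ⊤ from
    (hW ▸ Submodule.mem_top : x ∈ (lineSub M hu).comap (t.flip c))
  refine h₁.span_nonorth hn₁ hs.γ_ne hs.γ_iso fun γ' hγ' hγ'γ => ?_
  have hγ'0 : γ' ≠ 0 := fun h => hγ'γ (by simp [h])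
  obtain ⟨S, hS, s₀, hs₀, hSγ⟩ := h₁.exists_move hn₁ hs.γ_ne hγ'0 hs.γ_iso hγ'
  have hk : ∀ s : F, RootMem M (t γ' c) (s • t γ' h') := by
    intro s
    have := rootMem_conj hT hL hS hR ((hs.line hT hL h₁ h₂) (s / (s₀ * s₀)) |> fun hm => by
      rw [← map_smul] at hm; exact hm)
    rw [hSγ, hRc, mulVec_smul, ← hh'] at this
    simp only [map_smul, LinearMap.smul_apply, smul_smul, rootMem_smul_left] at this
    convert this using 3
    field_simp
  refine ⟨by rw [LinearMap.flip_apply, hT.polar, hs.c_iso, mul_zero], fun r => ?_⟩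
  rw [LinearMap.flip_apply]
  set C := B₁ γ' γ * B₂ h' h with hC
  have hC0 : C ≠ 0 := mul_ne_zero hγ'γ hRh
  set s := -r / C with hsr
  have hu' : Q (t γ' c) = 0 := hT.quad_left hγ' c
  have hw' : QuadraticMap.polar (⇑Q) (t γ' c) (s • t γ' h') = 0 := by
    rw [QuadraticMap.polar_smul_right, hT.polar, hγ', zero_mul, smul_zero]
  have hku : eich Q (t γ' c) (s • t γ' h') *ᵥ u = u := by
    rw [eich_mulVec, hueq, hT.polar, hs.c_iso, mul_zero, QuadraticMap.polar_smul_left, hT.polar, hh'c,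
      mul_zero, smul_zero]
    simp
  have hkw : eich Q (t γ' c) (s • t γ' h') *ᵥ t γ h = t γ h + r • t γ' c := by
    rw [eich_mulVec, hT.polar, h₂.orth_comm hs.orth, mul_zero, QuadraticMap.polar_smul_left, hT.polar,
      smul_eq_mul, ← hC, show s * C = -r by rw [hsr, div_mul_cancel₀ _ hC0]]
    module
  have h0 : QuadraticMap.polar (⇑Q) u (t γ h) = 0 := by rw [hueq, hT.polar, hs.γ_iso, zero_mul]
  have h1 := hs.mem.conj ((hk s).iso hu' hw')
  rw [mat_eichIso, hku, hkw] at h1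
  have h2 : QuadraticMap.polar (⇑Q) u (r • t γ' c) = 0 := by
    rw [hueq, QuadraticMap.polar_smul_right, hT.polar, hs.c_iso, mul_zero, smul_zero]
  have := RootMem.add hu (by rw [QuadraticMap.polar_add_right, h0, h2, add_zero])
    (by rw [QuadraticMap.polar_neg_right, h0, neg_zero]) h1 (RootMem.neg hu h0 hs.mem)
  simpa using this

end Main

/-- From the two lines of blocks at `u = γ ⊗ c` all Eichler elements at `u`. -/
theorem full_of_perp (hT : Tens Q B₁ B₂ t) (h₁ : Fac B₁ ε) (h₂ : Fac B₂ ε) {γ : Fin a → F}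
    (hγ : B₁ γ γ = 0) (hγ0 : γ ≠ 0) {c : Fin b → F} (hc0 : c ≠ 0)
    (hl : ∀ x y, B₁ x γ = 0 → t x y ∈ lineSub M (hT.quad_left hγ c))
    (hr : ∀ x y, B₂ y c = 0 → t x y ∈ lineSub M (hT.quad_left hγ c)) : Full M (t γ c) := by
  set hu := hT.quad_left hγ c
  obtain ⟨x₀, hx₀⟩ := h₁.exists_one hγ0
  obtain ⟨d, hd⟩ := h₂.exists_one hc0
  have htop : lineSub M hu ⊔ Submodule.span F {t x₀ d} = ⊤ := by
    refine hT.span _ fun x y => ?_
    have e : t x y = t (x - B₁ x γ • x₀) y + t (B₁ x γ • x₀) (y - B₂ y c • d)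
        + (B₁ x γ * B₂ y c) • t x₀ d := by
      simp only [map_sub, map_smul, LinearMap.sub_apply, LinearMap.smul_apply]
      module
    rw [e]
    refine Submodule.add_mem _ (Submodule.add_mem _ (Submodule.mem_sup_left ?_)
      (Submodule.mem_sup_left ?_)) (Submodule.mem_sup_right (Submodule.smul_mem _ _ (Submodule.mem_span_singleton_self _)))
    · exact hl _ _ (by simp [hx₀])
    · exact hr _ _ (by simp [hd])
  intro w hw
  obtain ⟨p, hp, q, hq, rfl⟩ := Submodule.mem_sup.1 (htop ▸ Submodule.mem_top : w ∈ lineSub M hu ⊔ _)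
  obtain ⟨s, rfl⟩ := Submodule.mem_span_singleton.1 hq
  rw [QuadraticMap.polar_add_right, hp.1, zero_add, QuadraticMap.polar_smul_right, hT.polar,
    h₁.symm γ x₀, hx₀, h₂.symm c d, hd, mul_one, h₁.eps_sq, smul_eq_mul, mul_one] at hw
  rw [hw, zero_smul, add_zero]
  exact LineMem.self hp.2

/-- `F^a ⊗ c` at every singular pure tensor. -/
def Blocks (M : Subgroup (Isom Q)) (t : (Fin a → F) →ₗ[F] (Fin b → F) →ₗ[F] (ι → F))
    (B₁ : LinearMap.BilinForm F (Fin a → F)) (B₂ : LinearMap.BilinForm F (Fin b → F)) : Prop :=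
  ∀ γ c, γ ≠ 0 → B₁ γ γ = 0 → c ≠ 0 → B₂ c c = 0 → ∀ x, LineMem M (t γ c) (t x c)

section Main

variable (hT : Tens Q B₁ B₂ t) (hL : Lifts M t B₁ B₂ ε) (h₁ : Fac B₁ ε) (h₂ : Fac B₂ ε)
include hT hL h₁ h₂

theorem Seed.blocks (hn₁ : 3 ≤ a ∨ ∀ x, B₁ x x = 0) (hn₂ : 3 ≤ b ∨ ∀ x, B₂ x x = 0) (hW₂ : Wide B₂)
    {γ : Fin a → F} {c h : Fin b → F} (hs : Seed M t B₁ B₂ γ c h) : Blocks M t B₁ B₂ := by
  intro γ' c' hγ' hγ'i hc' hc'i x
  obtain ⟨h', hs'⟩ := hs.move hT hL h₁ h₂ hn₁ hn₂ hγ' hγ'i hc' hc'i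
  exact (hs'.block hT hL h₁ h₂ hn₁ hW₂ x).2

omit hL in
theorem Blocks.seed_swap (hbl : Blocks M t B₁ B₂) (ha : 3 ≤ a) {γ : Fin a → F} (hγ : γ ≠ 0)
    (hγi : B₁ γ γ = 0) {c : Fin b → F} (hc : c ≠ 0) (hci : B₂ c c = 0) :
    ∃ v, Seed M t.flip B₂ B₁ c γ v := by
  obtain ⟨v, hv, hv'⟩ : ∃ v ∈ cperp B₁ γ, v ∉ Submodule.span F {γ} := by
    by_contra! h
    have h3 := Submodule.finrank_mono (R := F) (show cperp B₁ γ ≤ Submodule.span F {γ} from h)
    rw [finrank_span_singleton hγ] at h3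
    have := h₁.finrank_cperp hγ
    omega
  exact ⟨v, hc, hci, hγ, hγi, hv, fun k hk => hv' (Submodule.mem_span_singleton.2 ⟨k, hk⟩),
    LineMem.self (hbl γ c hγ hγi hc hci v)⟩

omit hL in
/-- Blocks on both sides give `γ⊥ ⊗ F^b`. -/
theorem Blocks.perp (hbl : Blocks M t B₁ B₂) (hbr : Blocks M t.flip B₂ B₁)
    (hn₂ : 3 ≤ b ∨ ∀ x, B₂ x x = 0) {γ : Fin a → F} (hγ : γ ≠ 0) (hγi : B₁ γ γ = 0) {c : Fin b → F}
    (hc : c ≠ 0) (hci : B₂ c c = 0) {x : Fin a → F} (hx : B₁ x γ = 0) (y : Fin b → F) :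
    t x y ∈ lineSub M (hT.quad_left hγi c) := by
  have hu := hT.quad_left hγi c
  suffices hW : (lineSub M hu).comap (t x) = ⊤ from
    (hW ▸ Submodule.mem_top : y ∈ (lineSub M hu).comap (t x))
  refine h₂.span_nonorth hn₂ hc hci fun c' hc' hc'c => ?_
  have hc'0 : c' ≠ 0 := fun h => hc'c (by simp [h])
  refine ⟨by rw [hT.polar, h₁.orth_comm hx, zero_mul], fun s => ?_⟩
  obtain ⟨x₀, hx₀⟩ := h₁.exists_one hγ
  have hγx : B₁ γ x₀ = ε := by rw [h₁.symm, hx₀, mul_one]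
  set P := ε * B₂ c' c with hP
  have hP0 : P ≠ 0 := mul_ne_zero h₁.eps_ne hc'c
  have hu' := hT.quad_left hγi c'
  have hw' : QuadraticMap.polar (⇑Q) (t γ c') ((s / P) • t x c') = 0 := by
    rw [QuadraticMap.polar_smul_right, hT.polar, h₁.orth_comm hx, zero_mul, smul_zero]
  have hku : eich Q (t γ c') ((s / P) • t x c') *ᵥ t γ c = t γ c := by
    rw [eich_mulVec, hT.polar, hγi, zero_mul, QuadraticMap.polar_smul_left, hT.polar, hx, zero_mul,
      smul_zero]
    simp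
  have hkw : eich Q (t γ c') ((s / P) • t x c') *ᵥ t x₀ c
      = t x₀ c + (s • t x c' + (-(s / P * (B₁ x x₀ * B₂ c' c))) • t γ c') := by
    rw [eich_mulVec, hT.polar, QuadraticMap.polar_smul_left, hT.polar, hγx, ← hP, QuadraticMap.map_smul,
      hT.quad x c' (Or.inr hc'), smul_zero, zero_mul, zero_smul, smul_smul, smul_eq_mul,
      mul_div_cancel₀ s hP0]
    module
  have h0 : QuadraticMap.polar (⇑Q) (t γ c) (t x₀ c) = 0 := by rw [hT.polar, hci, mul_zero]
  have h1 := (LineMem.self (hbl γ c hγ hγi hc hci x₀)).conj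
    ((hbl γ c' hγ hγi hc'0 hc' x (s / P)).iso hu' hw')
  rw [mat_eichIso, hku, hkw] at h1
  have h2 : QuadraticMap.polar (⇑Q) (t γ c) ((-(s / P * (B₁ x x₀ * B₂ c' c))) • t γ c') = 0 := by
    rw [QuadraticMap.polar_smul_right, hT.polar, hγi, zero_mul, smul_zero]
  have h3 : QuadraticMap.polar (⇑Q) (t γ c) (s • t x c') = 0 := by
    rw [QuadraticMap.polar_smul_right, hT.polar, h₁.orth_comm hx, zero_mul, smul_zero]
  have h4 := RootMem.add hu (by rw [QuadraticMap.polar_add_right, QuadraticMap.polar_add_right, h0, h2, h3, add_zero, add_zero])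
    (by rw [QuadraticMap.polar_neg_right, h0, neg_zero]) h1
    (RootMem.neg hu h0 (LineMem.self (hbl γ c hγ hγi hc hci x₀)))
  have h5 := RootMem.add hu (by
    rw [QuadraticMap.polar_add_right, QuadraticMap.polar_add_right, QuadraticMap.polar_add_right,
      QuadraticMap.polar_neg_right, h0, h2, h3, neg_zero, add_zero, add_zero, add_zero])
    (by rw [QuadraticMap.polar_neg_right, h2, neg_zero]) h4
    (RootMem.neg hu h2 (hbr c γ hc hci hγ hγi c' _))
  convert h5 using 1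
  abel

/-- With alternating factors, a seed gives `F^a ⊗ c⊥` and `γ ⊗ F^b`. -/
theorem Seed.perp_alt (ha₁ : ∀ x, B₁ x x = 0) (ha₂ : ∀ x, B₂ x x = 0) (hb : 5 ≤ b) {γ₀ : Fin a → F}
    {c₀ h₀ : Fin b → F} (hs₀ : Seed M t B₁ B₂ γ₀ c₀ h₀) {γ : Fin a → F} (hγ : γ ≠ 0) {c : Fin b → F}
    (hc : c ≠ 0) :
    (∀ x y, B₂ y c = 0 → t x y ∈ lineSub M (hT.quad_left (ha₁ γ) c)) ∧
      ∀ y, t γ y ∈ lineSub M (hT.quad_left (ha₁ γ) c) := by
  -- the vectors `γ ⊗ y` with `y ⊥ c`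
  have hy : ∀ (γ : Fin a → F) (c : Fin b → F), γ ≠ 0 → c ≠ 0 → ∀ y, B₂ y c = 0 →
      t γ y ∈ lineSub M (hT.quad_left (ha₁ γ) c) := by
    intro γ c hγ hc
    obtain ⟨h, hs⟩ := hs₀.move hT hL h₁ h₂ (Or.inr ha₁) (Or.inr ha₂) hγ (ha₁ γ) hc (ha₂ c)
    have hk : 1 * (1 + ε) + B₂ (0 : Fin b → F) 0 = 0 := by
      rcases h₂.kind with ⟨-, h2⟩ | ⟨he, -⟩
      · obtain ⟨z, hz⟩ := h₂.exists_one hc
        have := ha₂ (z + c)
        simp only [map_add, LinearMap.add_apply, ha₂, h₂.symm c z, hz] at this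
        rcases h₂.kind with ⟨he, -⟩ | ⟨he, -⟩
        · exact absurd (show (2 : F) = 0 by rw [he] at this; linear_combination this) h2
        · simp [he]
      · simp [he]
    have horth : ∀ y, B₂ y c = 0 → B₂ h y ≠ 0 → t γ y ∈ lineSub M (hT.quad_left (ha₁ γ) c) := by
      intro w hw hhw
      have hT' := h₂.eGL_mem (c := w) (z := 0) (ha₂ w) (by simp) hk
      have hline : ∀ s : F, RootMem M (t γ c) (s • t γ (h + B₂ h w • w)) := by
        intro s
        have := rootMem_conj hT hL (one_mem (fgrp B₁ ε)) hT'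
          ((hs.line hT hL h₁ h₂) s |> fun hm => by rw [← map_smul] at hm; exact hm)
        simpa [h₂.eGL_mulVec, esie_apply, h₂.orth_comm hw, mulVec_smul] using this
      have h0 : ∀ y, QuadraticMap.polar (⇑Q) (t γ c) (t γ y) = 0 := fun y => by
        rw [hT.polar, ha₁, zero_mul]
      have h1 : t γ (h + B₂ h w • w) ∈ lineSub M (hT.quad_left (ha₁ γ) c) := ⟨h0 _, hline⟩
      have h2 : t γ h ∈ lineSub M (hT.quad_left (ha₁ γ) c) := ⟨h0 _, hs.line hT hL h₁ h₂⟩
      have h3 := Submodule.smul_mem _ (B₂ h w)⁻¹ (Submodule.sub_mem _ h1 h2)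
      simpa [map_add, smul_smul, inv_mul_cancel₀ hhw] using h3
    obtain ⟨w₁, hw₁c, hw₁⟩ := h₂.exists_orth_not_orth hs.indep
    have hhw₁ : B₂ h w₁ ≠ 0 := fun h' => one_ne_zero (hw₁.symm.trans (h₂.orth_comm h'))
    intro y hyc
    by_cases hhy : B₂ h y = 0
    · have h1 := horth (y + w₁) (by simp [hyc, hw₁c]) (by simpa [hhy] using hhw₁)
      have h2 := Submodule.sub_mem _ h1 (horth w₁ hw₁c hhw₁)
      simpa using h2
    · exact horth y hyc hhy
  set hu := hT.quad_left (ha₁ γ) c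
  -- `F^a ⊗ c⊥`
  have hl : ∀ x y, B₂ y c = 0 → t x y ∈ lineSub M hu := by
    intro x y' hy'
    suffices hW : (lineSub M hu).comap (t.flip y') = ⊤ from
      (hW ▸ Submodule.mem_top : x ∈ (lineSub M hu).comap (t.flip y'))
    refine h₁.span_nonorth (Or.inr ha₁) hγ (ha₁ γ) fun δ _ hδγ => ?_
    refine ⟨by rw [LinearMap.flip_apply, hT.polar, h₂.orth_comm hy', mul_zero], fun s => ?_⟩
    rw [LinearMap.flip_apply]
    obtain ⟨c', hc'K, y, hyK, hc'y⟩ :
        ∃ c' ∈ cperp B₂ c ⊓ cperp B₂ y', ∃ y ∈ cperp B₂ c ⊓ cperp B₂ y', B₂ c' y ≠ 0 := by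
      by_contra! h
      have h1 := Submodule.finrank_mono (show cperp B₂ c ⊓ cperp B₂ y' ≤
        B₂.orthogonal (cperp B₂ c ⊓ cperp B₂ y') from fun p hp => fun q hq => h q hq p hp)
      rw [h₂.finrank_orth] at h1
      have h2 := h₂.finrank_cperp hc
      have h3 := h₂.finrank_le_inf (cperp B₂ c) y'
      omega
    have hc'0 : c' ≠ 0 := fun h => hc'y (by simp [h])
    have hδ0 : δ ≠ 0 := fun h => hδγ (by simp [h])
    set P := B₁ δ γ * B₂ c' y with hP
    have hP0 : P ≠ 0 := mul_ne_zero hδγ hc'y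
    have hk := (hy δ c' hδ0 hc'0 y' (h₂.orth_comm hc'K.2)).2 (s / P)
    have hu' := hT.quad_left (ha₁ δ) c'
    have hw' : QuadraticMap.polar (⇑Q) (t δ c') ((s / P) • t δ y') = 0 := by
      rw [QuadraticMap.polar_smul_right, hT.polar, ha₁, zero_mul, smul_zero]
    have hku : eich Q (t δ c') ((s / P) • t δ y') *ᵥ t γ c = t γ c := by
      rw [eich_mulVec, hT.polar, show B₂ c' c = 0 from hc'K.1, mul_zero, QuadraticMap.polar_smul_left,
        hT.polar, hy', mul_zero, smul_zero]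
      simp
    have hkw : eich Q (t δ c') ((s / P) • t δ y') *ᵥ t γ y = t γ y + s • t δ y' := by
      rw [eich_mulVec, hT.polar, ← hP, QuadraticMap.polar_smul_left, hT.polar,
        h₂.orth_comm (show B₂ y y' = 0 from hyK.2), mul_zero, smul_zero, QuadraticMap.map_smul,
        hT.quad δ y' (Or.inl (ha₁ δ)), smul_zero, zero_mul, zero_smul, smul_smul, mul_div_cancel₀ s hP0]
      module
    have h0 := hy γ c hγ hc y hyK.1
    have h1 := (LineMem.self h0.2).conj (RootMem.iso hk hu' hw')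
    rw [mat_eichIso, hku, hkw] at h1
    have h2 : QuadraticMap.polar (⇑Q) (t γ c) (s • t δ y') = 0 := by
      rw [QuadraticMap.polar_smul_right, hT.polar, h₂.orth_comm hy', mul_zero, smul_zero]
    have := RootMem.add hu (by rw [QuadraticMap.polar_add_right, h0.1, h2, add_zero])
      (by rw [QuadraticMap.polar_neg_right, h0.1, neg_zero]) h1 (RootMem.neg hu h0.1 (LineMem.self h0.2))
    simpa using this
  refine ⟨hl, ?_⟩
  obtain ⟨d, hd, hdc⟩ := h₂.exists_partner hc (ha₂ c)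
  have hd0 : d ≠ 0 := fun h => by simp [h] at hdc
  obtain ⟨g, hgK, hg0⟩ := (Submodule.ne_bot_iff (cperp B₂ c ⊓ cperp B₂ d)).1 (fun h => by
    have h1 := h₂.finrank_cperp hc
    have h2 := h₂.finrank_le_inf (cperp B₂ c) d
    rw [h, finrank_bot] at h2
    omega)
  obtain ⟨y₁, hy₁⟩ := h₂.exists_one hg0
  have hh := h₂.sub_mem_pair (ha₂ c) hd hdc y₁
  set h := y₁ - B₂ y₁ c • d - (ε * B₂ y₁ d) • c with hhdef
  have hhg : B₂ h g = 1 := by
    simp [hhdef, hy₁, h₂.orth_comm (show B₂ g c = 0 from hgK.1),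
      h₂.orth_comm (show B₂ g d = 0 from hgK.2)]
  obtain ⟨δ, hδ⟩ := h₁.exists_one hγ
  have hdW : t γ d ∈ lineSub M hu := by
    refine ⟨by rw [hT.polar, ha₁, zero_mul], fun s => ?_⟩
    have hk := (hy γ d hγ hd0 h hh.2).2 (-s / ε)
    have hu' := hT.quad_left (ha₁ γ) d
    have hw' : QuadraticMap.polar (⇑Q) (t γ d) ((-s / ε) • t γ h) = 0 := by
      rw [QuadraticMap.polar_smul_right, hT.polar, ha₁, zero_mul, smul_zero]
    have hku : eich Q (t γ d) ((-s / ε) • t γ h) *ᵥ t γ c = t γ c := by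
      rw [eich_mulVec, hT.polar, ha₁, zero_mul, QuadraticMap.polar_smul_left, hT.polar, ha₁, zero_mul,
        smul_zero]
      simp
    have hkw : eich Q (t γ d) ((-s / ε) • t γ h) *ᵥ t δ g = t δ g + s • t γ d := by
      rw [eich_mulVec, hT.polar, h₂.orth_comm (show B₂ g d = 0 from hgK.2), mul_zero,
        QuadraticMap.polar_smul_left, hT.polar, h₁.symm γ δ, hδ, hhg]
      simp only [mul_one, smul_eq_mul, zero_smul, mul_zero, div_mul_cancel₀ _ h₁.eps_ne]
      module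
    have h0 := hl δ g hgK.1
    have h1 := (LineMem.self h0.2).conj (RootMem.iso hk hu' hw')
    rw [mat_eichIso, hku, hkw] at h1
    have h2 : QuadraticMap.polar (⇑Q) (t γ c) (s • t γ d) = 0 := by
      rw [QuadraticMap.polar_smul_right, hT.polar, ha₁, zero_mul, smul_zero]
    have := RootMem.add hu (by rw [QuadraticMap.polar_add_right, h0.1, h2, add_zero])
      (by rw [QuadraticMap.polar_neg_right, h0.1, neg_zero]) h1 (RootMem.neg hu h0.1 (LineMem.self h0.2))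
    simpa using this
  intro y
  have e : t γ y = t γ (y - B₂ y c • d) + B₂ y c • t γ d := by simp
  rw [e]
  exact Submodule.add_mem _ (hy γ c hγ hc _ (by simp [hdc])) (Submodule.smul_mem _ _ hdW)

/-- Generation of `Ω`. -/
theorem Seed.omega_le (hQ : (QuadraticMap.polarBilin Q).Nondegenerate) (hn : 5 ≤ Fintype.card ι)
    (hb : 5 ≤ b) (hcase : (3 ≤ a ∧ Wide B₁ ∧ Wide B₂) ∨ ((∀ x, B₁ x x = 0) ∧ ∀ x, B₂ x x = 0))
    {γ : Fin a → F} {c h : Fin b → F} (hs : Seed M t B₁ B₂ γ c h) : Cfsg.Omega F ⇑Q ≤ M := by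
  have hn₂ : 3 ≤ b ∨ ∀ x, B₂ x x = 0 := Or.inl (by omega)
  suffices hfull : ∀ γ' c', γ' ≠ 0 → B₁ γ' γ' = 0 → c' ≠ 0 → B₂ c' c' = 0 → Full M (t γ' c') by
    obtain ⟨δ, hδ, hδγ⟩ := h₁.exists_partner hs.γ_ne hs.γ_iso
    obtain ⟨d, hd, hdc⟩ := h₂.exists_partner hs.c_ne hs.c_iso
    refine omega_le_of_full_pair hQ hn (hT.quad_left hδ d) (hT.quad_left hs.γ_iso c) ?_
      (hfull δ d (fun h => by simp [h] at hδγ) hδ (fun h => by simp [h] at hdc) hd)
      (hfull γ c hs.γ_ne hs.γ_iso hs.c_ne hs.c_iso)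
    rw [hT.polar, hδγ, hdc, mul_one]; exact one_ne_zero
  intro γ' c' hγ' hγ'i hc' hc'i
  by_cases ha : 3 ≤ a
  · have hW : Wide B₁ ∧ Wide B₂ := by
      rcases hcase with h | ⟨h, h'⟩
      · exact h.2
      · exact ⟨Or.inr (Or.inl h), Or.inr (Or.inl h')⟩
    have hbl := hs.blocks hT hL h₁ h₂ (Or.inl ha) hn₂ hW.2
    obtain ⟨v, hv⟩ := hbl.seed_swap hT h₁ h₂ ha hs.γ_ne hs.γ_iso hs.c_ne hs.c_iso
    have hbr := hv.blocks hT.swap hL.swap h₂ h₁ hn₂ (Or.inl ha) hW.1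
    refine full_of_perp hT h₁ h₂ hγ'i hγ' hc' (fun x y hx => hbl.perp hT h₁ h₂ hbr hn₂ hγ' hγ'i hc' hc'i hx y)
      fun x y hy => ?_
    have hbl' : Blocks M t.flip.flip B₁ B₂ := hbl
    exact hbr.perp hT.swap h₂ h₁ hbl' (Or.inl ha) hc' hc'i hγ' hγ'i hy x
  · obtain ⟨ha₁, ha₂⟩ : (∀ x, B₁ x x = 0) ∧ ∀ x, B₂ x x = 0 := hcase.resolve_left fun h => ha h.1
    obtain ⟨hr, hl⟩ := hs.perp_alt hT hL h₁ h₂ ha₁ ha₂ hb hγ' hc'
    refine full_of_perp hT h₁ h₂ hγ'i hγ' hc' (fun x y hx => ?_) hr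
    obtain ⟨k, rfl⟩ : ∃ k : F, k • γ' = x := by
      have h1 := h₁.finrank_cperp hγ'
      have hle : Submodule.span F {γ'} ≤ cperp B₁ γ' :=
        (Submodule.span_singleton_le_iff_mem _ _).2 hγ'i
      have heq := Submodule.eq_of_le_of_finrank_le hle (by rw [finrank_span_singleton hγ']; omega)
      exact Submodule.mem_span_singleton.1 (heq.symm ▸ (hx : x ∈ cperp B₁ γ'))
    rw [map_smul, LinearMap.smul_apply]
    exact Submodule.smul_mem _ _ (hl y)

end Main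

end CfsgLib.TensorOrth
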