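import Cfsg.Agent.TensorOrth.RadLine

/-!
# A radical element gives a translation by a rank-one line
-/

set_option autoImplicit false
set_option linter.unusedSectionVars false

namespace CfsgLib.TensorOrth

open Matrix Module CfsgLib.Spinor CfsgLib.OrthMax
open CfsgLib.TensorMax (Idx ten ten_add_left ten_add_right ten_smul_left ten_smul_right ten_eq_zero
  ten_inj_left ten_inj_right)
open CfsgLib.TensorUnitary (ten_induction)

variable {F : Type*} [Field F] [Fintype F] {a b : ℕ} {Q : QuadraticForm F (Idx a b → F)}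
  {B₁ : LinearMap.BilinForm F (Fin a → F)} {B₂ : LinearMap.BilinForm F (Fin b → F)} {ε : F}
  {M : Subgroup (Isom Q)}

theorem ten_sub_right' (x : Fin a → F) (y y' : Fin b → F) : ten x (y - y') = ten x y - ten x y' :=
  map_sub (tenB x) y y'

theorem ten_sub_left' (x x' : Fin a → F) (y : Fin b → F) : ten (x - x') y = ten x y - ten x' y :=
  LinearMap.map_sub₂ tenB x x' y

theorem ten_neg_left' (x : Fin a → F) (y : Fin b → F) : ten (-x) y = -ten x y :=
  LinearMap.map_neg₂ tenB x y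

theorem ten_neg_right' (x : Fin a → F) (y : Fin b → F) : ten x (-y) = -ten x y :=
  map_neg (tenB x) y

/-- The map `x ↦ B(x, γ) γ` scaled by `σ`. -/
def lineOp (B : LinearMap.BilinForm F (Fin a → F)) (γ : Fin a → F) (σ : F) :
    (Fin a → F) →ₗ[F] (Fin a → F) :=
  (σ • B.flip γ).smulRight γ

@[simp] theorem lineOp_apply (B : LinearMap.BilinForm F (Fin a → F)) (γ : Fin a → F) (σ : F)
    (x : Fin a → F) : lineOp B γ σ x = (σ * B x γ) • γ := rfl

/-- The map `x ↦ B(x, γ) v - B(x, v) γ`. -/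
def altOp (B : LinearMap.BilinForm F (Fin a → F)) (γ v : Fin a → F) : (Fin a → F) →ₗ[F] (Fin a → F) :=
  (B.flip γ).smulRight v - (B.flip v).smulRight γ

@[simp] theorem altOp_apply (B : LinearMap.BilinForm F (Fin a → F)) (γ v x : Fin a → F) :
    altOp B γ v x = B x γ • v - B x v • γ := rfl

namespace Ctx

variable (hX : Ctx Q B₁ B₂ ε M)
include hX

/-- The right Siegel element at `c`, acting on `F^a ⊗ c⊥` as a scalar translation. -/
theorem exists_scalar_line {c : Fin b → F} (hc : B₂ c c = 0) {z : Fin b → F} (hz : B₂ z c = 0) :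
    ∃ q ∈ M, q ∈ Kr Q ∧ RadLine Q B₂ c z (-(ε • LinearMap.id)) q ∧
      ∃ k : F, ∀ x y, mat Q q *ᵥ ten x y = ten x (esie B₂ ε c z k y) := by
  obtain ⟨k, hk⟩ := hX.tset.f₂.exists_param z
  obtain ⟨q, hq, hqv⟩ := hX.right (hX.tset.f₂.eGL_mem hc hz hk)
  have hqv' : ∀ x y, mat Q q *ᵥ ten x y = ten x (esie B₂ ε c z k y) := fun x y => by
    rw [hqv, hX.tset.f₂.eGL_mulVec]
  refine ⟨q, hq, hX.tset.mem_Kr_of_ten (by have := hX.a_two; omega) (by have := hX.b_three; omega)
    LinearMap.id _ hqv', RadLine.mk' (fun x => ?_) (fun x u hu => ?_), k, hqv'⟩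
  · rw [hqv', esie_apply, hc, hX.tset.f₂.orth_comm hz]
    simp
  · rw [hqv', esie_apply, hu]
    simp [ten_add_right, ten_smul_right, ten_neg_right', sub_eq_add_neg, ten_neg_left', ten_smul_left,
      smul_smul, mul_comm]

end Ctx

/-- A radical translation by a rank-one line. -/
structure Line (Q : QuadraticForm F (Idx a b → F)) (B₁ : LinearMap.BilinForm F (Fin a → F))
    (B₂ : LinearMap.BilinForm F (Fin b → F)) (M : Subgroup (Isom Q)) (c d h : Fin b → F) (γ : Fin a → F)
    (σ : F) (g : Isom Q) : Prop where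
  γ_ne : γ ≠ 0
  γ_iso : B₁ γ γ = 0
  h_ne : h ≠ 0
  h_iso : B₂ h h = 0
  hc : B₂ h c = 0
  hd : B₂ h d = 0
  σ_ne : σ ≠ 0
  mem : g ∈ M
  line : RadLine Q B₂ c h (lineOp B₁ γ σ) g

end CfsgLib.TensorOrth
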