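import Cfsg.Agent.TensorOrth.LineStep

/-!
# A line translation gives an Eichler element, hence a seed
-/

set_option autoImplicit false
set_option linter.unusedSectionVars false

namespace CfsgLib.TensorOrth

open Matrix Module CfsgLib.Spinor CfsgLib.OrthMax CfsgLib.Forms
open CfsgLib.TensorMax (Idx ten ten_add_left ten_add_right ten_smul_left ten_smul_right ten_eq_zero
  ten_inj_left ten_inj_right)
open CfsgLib.TensorUnitary (ten_induction)

variable {F : Type*} [Field F] [Fintype F] {a b : ℕ} {Q : QuadraticForm F (Idx a b → F)}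
  {B₁ : LinearMap.BilinForm F (Fin a → F)} {B₂ : LinearMap.BilinForm F (Fin b → F)} {ε : F}
  {M : Subgroup (Isom Q)}

namespace Ctx

variable (hX : Ctx Q B₁ B₂ ε M)
include hX

/-- A translation by a rank-one line, corrected by a scalar, is an Eichler element. -/
theorem rootMem_of_radLine {c d h : Fin b → F} (hc0 : c ≠ 0) (hc : B₂ c c = 0) (hd : B₂ d d = 0)
    (hdc : B₂ d c = 1) (hhc : B₂ h c = 0) (hhd : B₂ h d = 0) (hcen : M ⊓ Cen Q B₂ c ≤ Kr Q) {γ δ : Fin a → F}
    (hγ : B₁ γ γ = 0) (hδ : B₁ δ δ = 0) (hδγ : B₁ δ γ = 1) {σ : F} {m : Isom Q} (hm : m ∈ M)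
    (hline : RadLine Q B₂ c h (lineOp B₁ γ σ) m) :
    ∃ v, B₁ v γ = 0 ∧ B₁ v δ = 0 ∧ RootMem M (ten γ c) (ten ((-σ) • γ) h + ten v c) := by
  have hS := hX.tset
  have h₁ := hS.f₁
  have h₂ := hS.f₂
  have ha : 0 < a := by have := hX.a_two; omega
  have hdh : B₂ d h = 0 := h₂.orth_comm hhd
  let W : (Fin a → F) → (Idx a b → F) := fun x => mat Q m *ᵥ ten x d - ten x d
  set C : (Fin a → F) →ₗ[F] (Fin a → F) := (xPart B₂ ε d m).comp (tenB.flip d) with hC
  have hmd : ∀ x, mat Q m *ᵥ ten x d = ten x d + (ten (-(lineOp B₁ γ σ x)) h + ten (C x) c) := by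
    intro x
    have e := hS.eq_ten_of_evB hdc (z := W x - ten (-(lineOp B₁ γ σ x)) h) fun u hu => by
      refine h₁.sep fun x' => ?_
      simp only [map_sub, LinearMap.sub_apply]
      rw [hS.evB_moved hdc hline hu, evB_ten, lineOp_apply, lineOp_apply]
      simp only [map_smul, map_neg, LinearMap.smul_apply, LinearMap.neg_apply, smul_eq_mul, smul_neg,
        h₂.symm h u, h₁.symm γ x']
      linear_combination (B₂ u h * σ * B₁ x γ * B₁ x' γ) * h₁.eps_sq
    have e2 : ε • evB B₂ d (W x - ten (-(lineOp B₁ γ σ x)) h) = C x := by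
      rw [map_sub, evB_ten, hhd, zero_smul, sub_zero]
      simp [W, hC, xPart]
    rw [e2] at e
    rw [← e]
    simp only [W]
    abel
  have hfm : FixMod B₁ ε γ C := by
    intro z k hz hk
    obtain ⟨e, he, hev⟩ := hX.left (h₁.eGL_mem hγ hz hk)
    set E := glEquiv (h₁.eGL hγ hz k) with hE
    have hev' : ∀ x y, mat Q e *ᵥ ten x y = ten (E x) (id y) := fun x y => by rw [hev]; rfl
    have hev0 : ∀ x y, mat Q e *ᵥ ten x y = ten (E x) y := fun x y => by rw [hev]; rfl
    have hEP : ∀ x, lineOp B₁ γ σ (E x) = E (lineOp B₁ γ σ x) := by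
      intro x
      have hEx : ∀ x, E x = esie B₁ ε γ z k x := fun x => by
        rw [hE, glEquiv_apply, h₁.eGL_mulVec]
      have hg : esie B₁ ε γ z k γ = γ := by simp [esie_apply, hγ, h₁.orth_comm hz]
      rw [hEx, hEx, lineOp_apply, lineOp_apply, map_smul, hg]
      congr 2
      conv_lhs => arg 2; rw [← hg]
      rw [h₁.esie_isom hγ hz hk]
    have hcj := (hline.conj hev' (fun _ => rfl) (fun _ => rfl) hEP).mul hline.inv
    rw [add_neg_cancel] at hcj
    simp only [id_eq] at hcj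
    set n := e * m * e⁻¹ * m⁻¹ with hn
    have hnC : n ∈ Cen Q B₂ c := hcj.mem_cen
    have hnK : n ∈ Kr Q :=
      hcen ⟨M.mul_mem (M.mul_mem (M.mul_mem he hm) (M.inv_mem he)) (M.inv_mem hm), hnC⟩
    obtain ⟨T, hTc, -, hT⟩ := hS.rad_kr ha hc0 (cen_le_rad hc hnC) hnK
    obtain ⟨μ, -, hμ⟩ := split_ten ha (A := fun x => esie B₁ ε γ z k x) (y := T d - d)
      (D := fun x => esie B₁ ε γ z k (C x) - C (esie B₁ ε γ z k x))
      ⟨δ, fun h0 => by
        have := h₁.esie_isom hγ hz hk δ γ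
        rw [h0, map_zero, LinearMap.zero_apply, hδγ] at this
        exact zero_ne_one this⟩ hc0 fun x => by
      have h1 : mat Q n *ᵥ (mat Q m *ᵥ (mat Q e *ᵥ ten x d)) = mat Q e *ᵥ (mat Q m *ᵥ ten x d) := by
        rw [hn]
        simp only [mat_mul, ← mulVec_mulVec, mulVec_cancel]
      have hnh : ∀ x, mat Q n *ᵥ ten x h = ten x h := fun x => hnC _ (by simp [hhc])
      rw [hev0, hmd, hmd, mulVec_add, mulVec_add, mulVec_add, mulVec_add, hnh, (cen_le_rad hc hnC).1, hT,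
        hev0, hev0, hev0, hEP, ← map_neg] at h1
      rw [ten_sub_right', ten_sub_left']
      simp only [id_eq, hE, glEquiv_apply, h₁.eGL_mulVec] at h1
      linear_combination (norm := module) h1
    exact ⟨μ, hμ⟩
  obtain ⟨l, v, ρ, hvγ, hvδ, hCv⟩ := h₁.shape hX.shapeOK hγ hδ hδγ hfm
  have hcd : B₂ c d = ε := by rw [h₂.symm, hdc, mul_one]
  have hγδ : B₁ γ δ = ε := by rw [h₁.symm, hδγ, mul_one]
  have hCx : ∀ x, B₁ (C x) x = 0 := by
    intro x
    have h := quad_mulVec Q m (ten x d)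
    rw [hmd, QuadraticMap.map_add (⇑Q), QuadraticMap.map_add (⇑Q), hS.quad x d (Or.inr hd),
      hS.quad _ _ (Or.inl (by simp [hγ])), hS.quad _ c (Or.inr hc), hS.polar, QuadraticMap.polar_add_right,
      hS.polar, hS.polar, hhc, hdh, hdc] at h
    simp only [mul_zero, mul_one, zero_add] at h
    exact h₁.orth_comm h
  have hρ : ρ = 0 := by
    have h := hCx δ
    rw [hCv] at h
    simp [hδ, hδγ, hγδ, hvδ, h₁.orth_comm hvδ] at h
    exact h.resolve_right h₁.eps_ne
  have hl0 : -l * (1 + ε) + B₂ 0 0 = 0 := by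
    rcases h₁.kind with ⟨he, h2⟩ | ⟨he, -⟩
    · have hn : 3 ≤ a := by
        rcases hX.first_ok with h | h
        · exact h
        · have h3 := h (γ + δ)
          simp only [map_add, LinearMap.add_apply, hγ, hδ, hδγ, hγδ, he] at h3
          exact absurd (show (2 : F) = 0 by linear_combination h3) h2
      obtain ⟨e, hec, hed, hee⟩ := h₁.exists_nonsingular_pair h2 he hγ hδ hδγ hn
      have h := hCx e
      rw [hCv] at h
      simp [hec, h₁.orth_comm hec] at h
      simp [h.resolve_right hee]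
    · simp [he]
  obtain ⟨q, hq, hqv⟩ := hX.right (h₂.eGL_mem hc (show B₂ 0 c = 0 by simp) hl0)
  refine ⟨v, hvγ, hvδ, fun g hg => ?_⟩
  have hgm : g = q * m := by
    refine mat_ext Q (hg.trans (TensorUnitary.mat_ext_ten fun x y => ?_))
    set y' := y - B₂ y c • d with hy'
    have hy'c : B₂ y' c = 0 := by simp [hy', hdc]
    have hy'h : B₂ y' h = B₂ y h := by simp [hy', hdh]
    have e1 : ten x y = ten x y' + B₂ y c • ten x d := by
      rw [← ten_smul_right, ← ten_add_right, hy', sub_add_cancel]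
    have hR : mat Q (q * m) *ᵥ ten x y = ten x y + (B₂ y h * (σ * B₁ x γ)) • ten γ c
        + (B₂ y c * (-(σ * B₁ x γ))) • ten γ h
        + (B₂ y c * B₁ x γ) • ten v c - (B₂ y c * B₁ x v) • ten γ c := by
      rw [mat_mul, ← mulVec_mulVec]
      conv_lhs => rw [e1]
      rw [mulVec_add, mulVec_smul, hline.ten_perp x hy'c, hmd, hy'h]
      simp only [mulVec_add, mulVec_smul]
      rw [hqv, hqv, hqv, hqv, hqv, h₂.eGL_mulVec, h₂.eGL_mulVec, h₂.eGL_mulVec,
        h₂.eGL_mulVec, esie_apply, esie_apply, esie_apply, esie_apply, hCv, hρ]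
      conv_rhs => rw [e1]
      simp [hdc, hc, hhc, hy'c, ten_add_left, ten_add_right, ten_smul_left, ten_smul_right, sub_eq_add_neg,
        neg_smul, mul_comm, smul_smul, ten_neg_left', ten_neg_right']
      module
    have huc : Q (ten γ c) = 0 := hS.quad _ _ (Or.inl hγ)
    have hQw : Q (ten ((-σ) • γ) h + ten v c) = 0 := by
      rw [QuadraticMap.map_add (⇑Q), hS.quad _ _ (Or.inl (by simp [hγ])), hS.quad _ c (Or.inr hc), hS.polar, hhc]
      simp
    rw [hR, eich_mulVec, hQw]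
    simp only [QuadraticMap.polar_add_left, QuadraticMap.polar_smul_left, hS.polar, map_smul, LinearMap.smul_apply, smul_eq_mul, zero_mul,
      zero_smul, sub_zero, h₁.symm γ x, h₁.symm v x, h₂.symm c y, h₂.symm h y, ten_smul_left]
    match_scalars <;> first
      | rfl
      | ring1
      | linear_combination (B₁ x γ * B₂ y c) * h₁.eps_sq
      | linear_combination (-(B₁ x γ * B₂ y c)) * h₁.eps_sq
      | linear_combination (σ * B₁ x γ * B₂ y c) * h₁.eps_sq
      | linear_combination (-(σ * B₁ x γ * B₂ y c)) * h₁.eps_sq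
      | linear_combination (σ * B₁ x γ * B₂ y h - B₁ x v * B₂ y c) * h₁.eps_sq
      | linear_combination (-(σ * B₁ x γ * B₂ y h - B₁ x v * B₂ y c)) * h₁.eps_sq
  rw [hgm]
  exact M.mul_mem hq hm

/-- A line translation, corrected by a scalar, is an Eichler element. -/
theorem rootMem_of_line {c d h : Fin b → F} (hc0 : c ≠ 0) (hc : B₂ c c = 0) (hd : B₂ d d = 0)
    (hdc : B₂ d c = 1) (hcen : M ⊓ Cen Q B₂ c ≤ Kr Q) {γ δ : Fin a → F} (hδ : B₁ δ δ = 0)
    (hδγ : B₁ δ γ = 1) {σ : F} {m : Isom Q} (hl : Line Q B₁ B₂ M c d h γ σ m) :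
    ∃ v, B₁ v γ = 0 ∧ B₁ v δ = 0 ∧ RootMem M (ten γ c) (ten ((-σ) • γ) h + ten v c) :=
  hX.rootMem_of_radLine hc0 hc hd hdc hl.hc hl.hd hcen hl.γ_iso hδ hδγ hl.mem hl.line

/-- A line translation gives a seed on one side or the other. -/
theorem seed_of_line {c d h : Fin b → F} (hc0 : c ≠ 0) (hc : B₂ c c = 0) (hd : B₂ d d = 0)
    (hdc : B₂ d c = 1) (hcen : M ⊓ Cen Q B₂ c ≤ Kr Q) {γ : Fin a → F} {σ : F} {m : Isom Q}
    (hl : Line Q B₁ B₂ M c d h γ σ m) :
    (∃ h', Seed M tenB B₁ B₂ γ c h') ∨ ∃ v, Seed M tenB.flip B₂ B₁ c γ v := by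
  have hS := hX.tset
  have h₁ := hS.f₁
  have h₂ := hS.f₂
  obtain ⟨δ, hδ, hδγ⟩ := h₁.exists_partner hl.γ_ne hl.γ_iso
  obtain ⟨v, hvγ, hvδ, hroot⟩ := hX.rootMem_of_line hc0 hc hd hdc hcen hδ hδγ hl
  have hu : Q (ten γ c) = 0 := hS.quad _ _ (Or.inl hl.γ_iso)
  have hcd : B₂ c d = ε := by rw [h₂.symm, hdc, mul_one]
  have hne : ∀ s : F, s • c ≠ h := fun s hs => by
    have h1 := congrArg (fun w => B₂ w d) hs
    simp [hcd, hl.hd, h₂.eps_ne] at h1
    exact hl.h_ne (by rw [← hs, h1, zero_smul])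
  by_cases hv : v = 0
  · refine Or.inl ⟨(-σ) • h, hl.γ_ne, hl.γ_iso, hc0, hc, by simp [hl.hc], fun s hs => ?_, ?_⟩
    · refine hne ((-σ)⁻¹ * s) ?_
      rw [← smul_smul, hs, smul_smul, inv_mul_cancel₀ (neg_ne_zero.2 hl.σ_ne), one_smul]
    · simpa [hv, ten_smul_left, ten_smul_right, ten_neg_left', ten_neg_right'] using hroot
  refine Or.inr ?_
  have hw : ∀ (p : Fin a → F), B₁ p γ = 0 →
      QuadraticMap.polar (⇑Q) (ten γ c) (ten ((-σ) • γ) h + ten p c) = 0 := fun p hp => by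
    simp [QuadraticMap.polar_add_right, hS.polar, hl.γ_iso, hc]
  suffices hdiff : ∃ p, B₁ p γ = 0 ∧ RootMem M (ten γ c) (ten ((-σ) • γ) h + ten p c) ∧
      ∀ s : F, s • γ ≠ p - v by
    obtain ⟨p, hp, hpR, hps⟩ := hdiff
    refine ⟨p - v, hc0, hc, hl.γ_ne, hl.γ_iso, by simp [hp, hvγ], hps, ?_⟩
    have := RootMem.add hu (hw p hp) (by rw [QuadraticMap.polar_neg_right, hw v hvγ, neg_zero]) hpR
      (RootMem.neg hu (hw v hvγ) hroot)
    convert this using 1
    · rfl
    · simp only [LinearMap.flip_apply, tenB_apply, ten_sub_left']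
      abel
  have move : ((∀ x, B₁ x x = 0) ∨ 5 ≤ a ∨ (4 ≤ a ∧ NoPlane B₁ ∧ Nat.card F = 3)) →
      ∃ p, B₁ p γ = 0 ∧ RootMem M (ten γ c) (ten ((-σ) • γ) h + ten p c) ∧ ∀ s : F, s • γ ≠ p - v := by
    intro hn
    obtain ⟨S, hSm, hSγ, hSv⟩ := h₁.exists_fix_move hn hl.γ_ne hl.γ_iso hδ hδγ hvγ hvδ hv
    obtain ⟨e, he, hev⟩ := hX.left hSm
    refine ⟨(S : Matrix (Fin a) (Fin a) F) *ᵥ v, ?_, ?_, hSv⟩
    · have := h₁.fgrp_le hSm v γ
      rwa [hSγ, hvγ] at this
    · have := hroot.conj he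
      rwa [mulVec_add, hev, hev, hev, hSγ, mulVec_smul, hSγ] at this
  by_cases h3 : Nat.card F = 3
  · rcases hX.moveOK with h | h | h | h
    · exact move (Or.inl h)
    · exact absurd h3 h
    · exact move (Or.inr (Or.inl h))
    · exact move (Or.inr (Or.inr ⟨h.1, h.2, h3⟩))
  rcases h₁.kind with ⟨-, h2⟩ | ⟨-, halt⟩
  swap
  · exact move (Or.inl halt)
  -- a torus element scales the two halves differently
  obtain ⟨μ, hμ0, hμ1⟩ : ∃ μ : F, μ ≠ 0 ∧ μ * μ ≠ 1 := by
    classical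
    have hcard : 4 ≤ Fintype.card F := by
      have h1 := Fintype.one_lt_card (α := F)
      have h2' : Fintype.card F ≠ 2 := fun h0 => h2 (by
        have := FiniteField.cast_card_eq_zero F
        rw [h0] at this
        exact_mod_cast this)
      rw [Nat.card_eq_fintype_card] at h3
      omega
    by_contra! hcon
    have hsub : (Finset.univ : Finset F) ⊆ {0, 1, -1} := fun x _ => by
      by_cases hx : x = 0
      · simp [hx]
      · rcases mul_self_eq_one_iff.1 (hcon x hx) with h | h <;> simp [h]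
    have := (Finset.card_le_card hsub).trans Finset.card_le_three
    rw [Finset.card_univ] at this
    omega
  obtain ⟨T, hTm, hTc, hTh⟩ := h₂.exists_torus hc hl.h_iso (h₂.orth_comm hl.hc) hne hc0 hμ0
  obtain ⟨e, he, hev⟩ := hX.right hTm
  refine ⟨(μ * μ) • v, by simp [hvγ], ?_, fun s hs => ?_⟩
  · have := hroot.conj he
    rw [mulVec_add, hev, hev, hev, hTc, hTh, ten_smul_right, rootMem_smul_left] at this
    convert this using 1
    rw [ten_smul_right, ten_smul_right, smul_add, smul_smul, smul_smul, mul_inv_cancel₀ hμ0, one_smul,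
      ← ten_smul_left]
  · have hγδ : B₁ γ δ = ε := by rw [h₁.symm, hδγ, mul_one]
    have h1 := congrArg (fun w => B₁ w δ) hs
    simp [hγδ, hvδ, h₁.eps_ne] at h1
    rw [h1, zero_smul, eq_comm, sub_eq_zero] at hs
    refine hv (by_contra fun hv0 => hμ1 ?_)
    have h3 : (μ * μ - 1) • v = 0 := by rw [sub_smul, hs, one_smul, sub_self]
    exact sub_eq_zero.1 ((smul_eq_zero.1 h3).resolve_right hv0)

end Ctx

end CfsgLib.TensorOrth
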