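import Cfsg.Agent.TensorOrth.Line

/-!
# A fixed radical element translates through one vector
-/

set_option autoImplicit false
set_option linter.unusedSectionVars false

namespace CfsgLib.TensorOrth

open Matrix Module CfsgLib.Spinor CfsgLib.OrthMax
open CfsgLib.TensorMax (Idx ten ten_add_left ten_add_right ten_smul_left ten_smul_right ten_eq_zero
  ten_inj_left ten_inj_right)
open CfsgLib.TensorUnitary (ten_induction)

variable {F : Type*} [Field F] [Fintype F] {a b : ℕ} {Q : QuadraticForm F (Idx a b → F)}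
  {B₁ : LinearMap.BilinForm F (Fin a → F)} {B₂ : LinearMap.BilinForm F (Fin b → F)} {ε : F}
  {M : Subgroup (Isom Q)}

/-- A vector orthogonal to two pairs pairing with a given one. -/
theorem Fac.exists_four_partner {n : ℕ} {B : LinearMap.BilinForm F (Fin n → F)} (hB : Fac B ε)
    {c d h g e : Fin n → F} (hc : B c c = 0) (hd : B d d = 0) (hdc : B d c = 1) (hh : B h h = 0)
    (hg : B g g = 0) (hgh : B g h = 1) (hhc : B h c = 0) (hhd : B h d = 0) (hgc : B g c = 0)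
    (hgd : B g d = 0) (he : e ≠ 0) (hec : B e c = 0) (hed : B e d = 0) (heh : B e h = 0) (heg : B e g = 0) :
    ∃ y, B y c = 0 ∧ B y d = 0 ∧ B y h = 0 ∧ B y g = 0 ∧ B y e = 1 := by
  obtain ⟨y, hy⟩ := hB.exists_one he
  set y₁ := y - B y c • d - (ε * B y d) • c with hy₁
  have m₁ := hB.sub_mem_pair hc hd hdc y
  rw [← hy₁, Submodule.mem_inf, mem_cperp, mem_cperp] at m₁
  set y₂ := y₁ - B y₁ h • g - (ε * B y₁ g) • h with hy₂
  have m₂ := hB.sub_mem_pair hh hg hgh y₁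
  rw [← hy₂, Submodule.mem_inf, mem_cperp, mem_cperp] at m₂
  refine ⟨y₂, ?_, ?_, m₂.1, m₂.2, ?_⟩
  · simp [hy₂, m₁.1, hgc, hhc]
  · simp [hy₂, m₁.2, hgd, hhd]
  · simp [hy₂, hy₁, hy, hB.orth_comm hec, hB.orth_comm hed, hB.orth_comm heh, hB.orth_comm heg]

namespace Ctx

variable (hX : Ctx Q B₁ B₂ ε M)
include hX

/-- A radical element outside `Kr` gives one translating through a single vector by a shaped map. -/
theorem exists_line_shape (hb5 : 5 ≤ b) {c d : Fin b → F} (hc0 : c ≠ 0) (hc : B₂ c c = 0) (hd : B₂ d d = 0)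
    (hdc : B₂ d c = 1) {r : Isom Q} (hr : r ∈ M) (hrR : r ∈ Rad Q B₂ c) (hrK : r ∉ Kr Q) :
    ∃ (h g : Fin b → F) (γ δ v : Fin a → F) (σ : F) (m : Isom Q),
      (h ≠ 0 ∧ B₂ h h = 0 ∧ B₂ g g = 0 ∧ B₂ g h = 1 ∧ B₂ h c = 0 ∧ B₂ h d = 0 ∧ B₂ g c = 0 ∧ B₂ g d = 0) ∧
      (γ ≠ 0 ∧ B₁ γ γ = 0 ∧ B₁ δ δ = 0 ∧ B₁ δ γ = 1 ∧ B₁ v γ = 0 ∧ B₁ v δ = 0) ∧
      m ∈ M ∧ m ∉ Kr Q ∧ RadLine Q B₂ c h (lineOp B₁ γ σ + altOp B₁ γ v) m := by
  have hS := hX.tset
  have h₁ := hS.f₁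
  have h₂ := hS.f₂
  have ha : 0 < a := by have := hX.a_two; omega
  have hb : 0 < b := by omega
  set K := cperp B₂ c ⊓ cperp B₂ d with hK
  have hKdim : 3 ≤ finrank F K := by
    have h1 := h₂.finrank_le_inf (cperp B₂ c) d
    have h2 := h₂.finrank_cperp hc0
    rw [← hK] at h1
    omega
  obtain ⟨h, hhK, hh0, hh⟩ := h₂.exists_iso K hKdim
  obtain ⟨y, hy⟩ := h₂.exists_one hh0
  have hyK : y - B₂ y c • d - (ε * B₂ y d) • c ∈ K := h₂.sub_mem_pair hc hd hdc y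
  obtain ⟨g, hgK, hg, hgh⟩ := h₂.exists_partner_in hhK hyK hh (by
    simp [hy, h₂.orth_comm (show B₂ h c = 0 from hhK.1), h₂.orth_comm (show B₂ h d = 0 from hhK.2)])
  have hhc : B₂ h c = 0 := hhK.1
  have hhd : B₂ h d = 0 := hhK.2
  have hgc : B₂ g c = 0 := hgK.1
  have hgd : B₂ g d = 0 := hgK.2
  obtain ⟨γ, hγ0, hγ⟩ := hX.exists_iso_left
  obtain ⟨δ, hδ, hδγ⟩ := h₁.exists_partner hγ0 hγ
  set p := ringChar F
  have : Fact p.Prime := ⟨CharP.char_is_prime F p⟩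
  set U := pairGrp M (rootsAt B₁ ε h₁ hγ γ) (rootsAt B₂ ε h₂ hh c) with hUdef
  have hU : IsPGroup p U := pairGrp_isPGroup (rootsAt_isPGroup h₁ ha hγ γ) (rootsAt_isPGroup h₂ hb hh c)
  have hinv : ∀ g ∈ U, ∀ r ∈ M ⊓ Rad Q B₂ c, g * r * g⁻¹ ∈ M ⊓ Rad Q B₂ c := by
    rintro g ⟨hg, E, -, E', hE', hgv⟩ r ⟨hr, hrc⟩
    refine ⟨M.mul_mem (M.mul_mem hg hr) (M.inv_mem hg), hS.conj_mem_rad g (glEquiv E) (fun x => ?_) hrc⟩
    obtain ⟨z, k, hz, hzc, -, hE'v⟩ := hE'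
    rw [hgv, glEquiv_apply, hE'v, esie_apply, h₂.orth_comm hhc, h₂.orth_comm hzc]
    simp
  obtain ⟨m, ⟨hmM, hmR⟩, hmK, hfix⟩ := hS.exists_fixed ha hb hc0 hc hdc inf_le_right hU hinv
    (fun hle => hrK (hle ⟨hr, hrR⟩))
  let X : (Fin b → F) → (Fin a → F) → (Fin a → F) := fun u x => xPart B₂ ε d m (ten x u)
  have hXa : ∀ u u' x, X (u + u') x = X u x + X u' x := fun u u' x => by
    simp only [X, ten_add_right, map_add]
  have hXs : ∀ (s : F) u x, X (s • u) x = s • X u x := fun s u x => by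
    simp only [X, ten_smul_right, map_smul]
  have hXsub : ∀ u u' x, X (u - u') x = X u x - X u' x := fun u u' x => by
    simp only [X, ten_sub_right', map_sub]
  have hmv : ∀ u, B₂ u c = 0 → ∀ x, mat Q m *ᵥ ten x u = ten x u + ten (X u x) c := fun u hu x =>
    hS.rad_mulVec hdc hmR (by simp [hu])
  have hrel : ∀ z k, B₁ z γ = 0 → k * (1 + ε) + B₁ z z = 0 → ∀ z' k', B₂ z' h = 0 → B₂ z' c = 0 →
      k' * (1 + ε) + B₂ z' z' = 0 → ∀ u, B₂ u c = 0 → ∃ μ : F, ∀ x,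
        esie B₁ ε γ z k (X u x) - X (esie B₂ ε h z' k' u) (esie B₁ ε γ z k x) = μ • esie B₁ ε γ z k x := by
    intro z k hz hk z' k' hz'h hz'c hk' u hu
    obtain ⟨e, he, hev⟩ := hX.left (h₁.eGL_mem hγ hz hk)
    obtain ⟨e', he', he'v⟩ := hX.right (h₂.eGL_mem hh hz'h hk')
    have hgv : ∀ x y, mat Q (e * e') *ᵥ ten x y = ten (esie B₁ ε γ z k x) (esie B₂ ε h z' k' y) := fun x y => by
      rw [mat_mul, ← mulVec_mulVec, he'v, hev, h₁.eGL_mulVec, h₂.eGL_mulVec]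
    obtain ⟨T, ν, hTc, -, hν, hrel⟩ := hfix (e * e') ⟨M.mul_mem he he', h₁.eGL hγ hz k,
      ⟨z, k, hz, hz, hk, h₁.eGL_mulVec hγ hz k⟩, h₂.eGL hh hz'h k',
      ⟨z', k', hz'h, hz'c, hk', h₂.eGL_mulVec hh hz'h k'⟩,
      fun x y => by rw [hgv, h₁.eGL_mulVec, h₂.eGL_mulVec]⟩
    have hec : esie B₂ ε h z' k' c = c := by
      rw [esie_apply, h₂.orth_comm hhc, h₂.orth_comm hz'c]
      simp
    obtain ⟨μ, -, hμ⟩ := split_ten ha (A := fun x => esie B₁ ε γ z k x)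
      (D := fun x => esie B₁ ε γ z k (X u x) - X (esie B₂ ε h z' k' u) (esie B₁ ε γ z k x))
      (y := T (esie B₂ ε h z' k' u) - esie B₂ ε h z' k' u)
      ⟨δ, fun he0 => by
        have := h₁.esie_isom hγ hz hk δ γ
        rw [he0, map_zero, LinearMap.zero_apply, hδγ] at this
        exact zero_ne_one this⟩ hc0 fun x => by
        have h1 := hrel (ten x u)
        have hu' : B₂ (esie B₂ ε h z' k' u) c = 0 := by
          rw [← hec, h₂.esie_isom hh hz'h hk', hu]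
        rw [hmv u hu, mulVec_add, hgv, hgv, hec, hmv _ hu', mulVec_add, hν, hν, hTc] at h1
        rw [ten_sub_right', ten_sub_left']
        linear_combination (norm := module) -h1
    exact ⟨μ, hμ⟩
  set A : (Fin a → F) →ₗ[F] (Fin a → F) := (xPart B₂ ε d m).comp (tenB.flip g) with hA
  have hfm : FixMod B₁ ε γ A := by
    intro z k hz hk
    obtain ⟨μ, hμ⟩ := hrel z k hz hk 0 0 (by simp) (by simp) (by simp) g hgc
    exact ⟨μ, fun x => by simpa [esie_zero, X, hA] using hμ x⟩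
  have hscal : ∀ z', B₂ z' h = 0 → B₂ z' c = 0 → ∀ u, B₂ u c = 0 → ∃ k' μ : F,
      ∀ x, X (esie B₂ ε h z' k' u - u) x = μ • x := by
    intro z' hz'h hz'c u hu
    obtain ⟨k', hk'⟩ := h₂.exists_param z'
    obtain ⟨μ, hμ⟩ := hrel 0 0 (by simp) (by simp) z' k' hz'h hz'c hk' u hu
    refine ⟨k', -μ, fun x => ?_⟩
    have := hμ x
    simp only [esie_zero, LinearMap.id_apply] at this
    rw [hXsub, neg_smul, ← this, neg_sub]
  have hX0 : ∃ μ : F, ∀ x, X h x = μ • x := by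
    have hKd : 1 ≤ finrank F (K ⊓ cperp B₂ h ⊓ cperp B₂ g : Submodule F (Fin b → F)) := by
      have h1 := h₂.finrank_le_inf K h
      have h2 := h₂.finrank_le_inf (K ⊓ cperp B₂ h) g
      omega
    obtain ⟨e, he, he0⟩ := Submodule.exists_mem_ne_zero_of_ne_bot
      (p := K ⊓ cperp B₂ h ⊓ cperp B₂ g) fun h0 => by rw [h0, finrank_bot] at hKd; omega
    obtain ⟨y, hyc, -, hyh, -, hye⟩ := h₂.exists_four_partner hc hd hdc hh hg hgh hhc hhd hgc hgd he0
      he.1.1.1 he.1.1.2 he.1.2 he.2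
    obtain ⟨k', μ, hμ⟩ := hscal e he.1.2 he.1.1.1 y hyc
    refine ⟨-(ε * μ), fun x => ?_⟩
    have := hμ x
    rw [esie_apply, hyh, hye, show y + (0 : F) • e - (ε * 1) • h + (k' * 0) • h - y = (-ε) • h by module,
      hXs] at this
    have e2 := congrArg (fun w => (-ε) • w) this
    simp only [smul_smul, neg_mul_neg, h₁.eps_sq, one_smul] at e2
    rw [e2, neg_mul]
  obtain ⟨μ₀, hμ₀⟩ := hX0
  have hXg : ∀ x, X g x = A x := fun x => rfl
  obtain ⟨l, v, σ, hvγ, hvδ, hAv⟩ := h₁.shape hX.shapeOK hγ hδ hδγ hfm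
  set L := lineOp B₁ γ σ + altOp B₁ γ v with hL
  have hperp : ∀ u, B₂ u c = 0 → ∃ s : F, ∀ x, X u x = B₂ u h • L x + s • x := by
    intro u hu
    set z := u - B₂ u h • g with hz
    have hzh : B₂ z h = 0 := by simp [hz, hgh]
    have hzc : B₂ z c = 0 := by simp [hz, hu, hgc]
    obtain ⟨k', μ, hμ⟩ := hscal z hzh hzc g hgc
    refine ⟨μ + (ε * B₂ g z - k') * μ₀ + B₂ u h * l, fun x => ?_⟩
    have := hμ x
    rw [esie_apply, hgh, show g + (1 : F) • z - (ε * B₂ g z) • h + (k' * 1) • h - g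
      = z + (k' - ε * B₂ g z) • h by module, hXa, hXs, hμ₀] at this
    have e2 : X u x = X z x + B₂ u h • X g x := by rw [← hXs, ← hXa, hz, sub_add_cancel]
    rw [e2, hXg, hAv, hL]
    simp only [LinearMap.add_apply, lineOp_apply, altOp_apply]
    linear_combination (norm := module) this
  -- the scalar part is a pairing
  let i₀ : Fin a := ⟨0, ha⟩
  let x₀ : Fin a → F := Pi.single i₀ 1
  set φ : (Fin b → F) →ₗ[F] F := (LinearMap.proj i₀).comp ((xPart B₂ ε d m).comp (tenB x₀))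
    - (L x₀ i₀) • B₂.flip h with hφ
  obtain ⟨z, hz⟩ := h₂.exists_rep φ
  have hφu : ∀ u, B₂ u c = 0 → ∀ x, X u x = B₂ u h • L x + B₂ u z • x := by
    intro u hu x
    obtain ⟨s, hs⟩ := hperp u hu
    have : B₂ u z = s := by
      rw [hz, hφ]
      simp only [LinearMap.sub_apply, LinearMap.comp_apply, LinearMap.proj_apply, tenB_apply,
        LinearMap.smul_apply, LinearMap.flip_apply, smul_eq_mul]
      rw [show xPart B₂ ε d m (ten x₀ u) = X u x₀ from rfl, hs]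
      simp [x₀, mul_comm]
    rw [this, hs]
  have hzc : B₂ z c = 0 := by
    refine h₂.orth_comm ?_
    rw [hz, hφ]
    simp only [LinearMap.sub_apply, LinearMap.comp_apply, LinearMap.proj_apply, tenB_apply,
      LinearMap.smul_apply, LinearMap.flip_apply, smul_eq_mul, h₂.orth_comm hhc, mul_zero, sub_zero]
    simp [xPart, hmR.1]
    exact Or.inr (h₂.orth_comm hhc)
  obtain ⟨q, hq, hqK, hqL, -⟩ := hX.exists_scalar_line hc (z := ε • z) (by simp [hzc])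
  refine ⟨h, g, γ, δ, v, σ, q * m, ⟨hh0, hh, hg, hgh, hhc, hhd, hgc, hgd⟩,
    ⟨hγ0, hγ, hδ, hδγ, hvγ, hvδ⟩, M.mul_mem hq hmM, fun hK => hmK ?_, RadLine.mk' (fun x => ?_) fun x u hu => ?_⟩
  · have := (Kr Q).mul_mem ((Kr Q).inv_mem hqK) hK
    rwa [inv_mul_cancel_left] at this
  · rw [mat_mul, ← mulVec_mulVec, hmR.1, hqL.1]
  · rw [mat_mul, ← mulVec_mulVec, hmv u hu, mulVec_add, hqL.1, hqL.ten_perp x hu, hφu u hu x,
      LinearMap.neg_apply, LinearMap.smul_apply, LinearMap.id_apply]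
    simp only [map_smul, smul_eq_mul, ten_add_left, ten_smul_left, ten_neg_left', smul_smul, smul_neg,
      mul_comm (ε * B₂ u z) ε]
    match_scalars <;> first
      | rfl
      | linear_combination (B₂ u z) * h₁.eps_sq
      | linear_combination (-(B₂ u z)) * h₁.eps_sq

end Ctx

end CfsgLib.TensorOrth
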