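import Cfsg.Agent.TensorOrth.LineShape

/-!
# The shape reduces to one line
-/

set_option autoImplicit false
set_option linter.unusedSectionVars false

namespace CfsgLib.TensorOrth

open Matrix Module CfsgLib.Spinor CfsgLib.OrthMax
open CfsgLib.TensorMax (Idx ten ten_add_left ten_add_right ten_smul_left ten_smul_right ten_eq_zero
  ten_inj_left ten_inj_right)
open CfsgLib.TensorUnitary (ten_induction)

variable {F : Type*} [Field F] [Fintype F] {a b : ℕ} {Q : QuadraticForm F (Idx a b → F)}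
  {B₁ : LinearMap.BilinForm F (Fin a → F)} {B₂ : LinearMap.BilinForm F (Fin b → F)} {ε : F}
  {M : Subgroup (Isom Q)}

namespace Ctx

variable (hX : Ctx Q B₁ B₂ ε M)
include hX

/-- The commutator of a translation with the scalar translation through the partner. -/
theorem line_adjoint {c d h g : Fin b → F} (hc0 : c ≠ 0) (hc : B₂ c c = 0) (hd : B₂ d d = 0)
    (hdc : B₂ d c = 1) (hgc : B₂ g c = 0) (hgd : B₂ g d = 0) (hgh : B₂ g h = 1)
    (hcen : M ⊓ Cen Q B₂ c ≤ Kr Q) {L : (Fin a → F) →ₗ[F] (Fin a → F)} {m : Isom Q} (hm : m ∈ M)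
    (hmL : RadLine Q B₂ c h L m) :
    ∃ μ : F, ∀ x x', B₁ (L x) x' - ε * B₁ x (L x') = μ * B₁ x x' := by
  have hS := hX.tset
  have h₂ := hS.f₂
  have ha : 0 < a := by have := hX.a_two; omega
  obtain ⟨q, hq, -, hqL, k, hqv⟩ := hX.exists_scalar_line hc hgc
  set n := m * q * m⁻¹ * q⁻¹ with hn
  have hnC : n ∈ Cen Q B₂ c := hS.commutator_mem_cen hmL.mem_rad hqL.mem_rad
  have hnK : n ∈ Kr Q := hcen ⟨M.mul_mem (M.mul_mem (M.mul_mem hm hq) (M.inv_mem hm)) (M.inv_mem hq), hnC⟩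
  obtain ⟨T, -, -, hT⟩ := hS.rad_kr ha hc0 (cen_le_rad hc hnC) hnK
  let W : (Fin a → F) → (Idx a b → F) := fun x => mat Q m *ᵥ ten x d - ten x d
  have hW : ∀ x, evB B₂ c (W x) = 0 := fun x => by
    simp only [W, map_sub, hS.evB_fix hmL.1, sub_self]
  obtain ⟨μ, -, hμ⟩ := split_ten ha (A := fun x : Fin a → F => x) (y := T d - d)
    (D := fun x => L x + ε • evB B₂ g (W x))
    ⟨Pi.single ⟨0, ha⟩ 1, by simp⟩ hc0 fun x => by
    have hqd : mat Q q *ᵥ ten x d = ten x d + ten x g + k • ten x c := by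
      rw [hqv, esie_apply, hdc, h₂.orth_comm hgd, ← ten_smul_right, ← ten_add_right, ← ten_add_right]
      congr 1
      module
    have hn1 : mat Q n *ᵥ (mat Q q *ᵥ (mat Q m *ᵥ ten x d)) = mat Q m *ᵥ (mat Q q *ᵥ ten x d) := by
      rw [hn]
      simp only [mat_mul, ← mulVec_mulVec, mulVec_cancel]
    have hmd : mat Q m *ᵥ ten x d = ten x d + W x := by simp only [W, add_sub_cancel]
    rw [hmd, mulVec_add (mat Q q), hqd, hqL.2 _ (hW x), mulVec_add, mulVec_add, mulVec_add, mulVec_add,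
      mulVec_smul, hnC (W x) (hW x), hnC (ten x g) (by simp [hgc]), (cen_le_rad hc hnC).1,
      (cen_le_rad hc hnC).1, hT] at hn1
    rw [mulVec_add, mulVec_add, mulVec_smul, hmd, hmL.ten_perp x hgc, hgh, one_smul, hmL.1] at hn1
    rw [ten_sub_right', ten_add_left]
    simp only [LinearMap.neg_apply, LinearMap.smul_apply, LinearMap.id_apply, ten_neg_left'] at hn1
    linear_combination (norm := module) hn1
  refine ⟨μ, fun x x' => ?_⟩
  have h1 : B₁ (evB B₂ g (W x)) x' = -(B₂ g h * B₁ x (L x')) := hS.evB_moved hdc hmL hgc x x'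
  have h2 := congrArg (fun w => B₁ w x') (hμ x)
  simp only [map_add, map_smul, LinearMap.add_apply, LinearMap.smul_apply, smul_eq_mul, h1, hgh] at h2
  linear_combination h2

/-- A transvection of the first factor in characteristic two. -/
theorem exists_transvection (h2 : (2 : F) = 0) (he : ε = -1) {w : Fin a → F} (hw : B₁ w w = 0) :
    ∃ S ∈ fgrp B₁ ε, ∀ x, (S : Matrix (Fin a) (Fin a) F) *ᵥ x = x + B₁ x w • w := by
  have hk : (1 : F) * (1 + ε) + B₁ 0 0 = 0 := by simp [he]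
  refine ⟨_, hX.tset.f₁.eGL_mem hw (show B₁ 0 w = 0 by simp) hk, fun x => ?_⟩
  rw [hX.tset.f₁.eGL_mulVec, esie_apply]
  simp

theorem exists_transvection_right (he : ε = -1) {w : Fin b → F} (hw : B₂ w w = 0) :
    ∃ T ∈ fgrp B₂ ε, ∀ x, (T : Matrix (Fin b) (Fin b) F) *ᵥ x = x + B₂ x w • w := by
  have hk : (1 : F) * (1 + ε) + B₂ 0 0 = 0 := by simp [he]
  refine ⟨_, hX.tset.f₂.eGL_mem hw (show B₂ 0 w = 0 by simp) hk, fun x => ?_⟩
  rw [hX.tset.f₂.eGL_mulVec, esie_apply]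
  simp

/-- In characteristic two a shaped translation gives a line translation. -/
theorem line_of_alt (hb5 : 5 ≤ b) (h2 : (2 : F) = 0) {c d h g : Fin b → F} (hc0 : c ≠ 0) (hc : B₂ c c = 0)
    (hd : B₂ d d = 0) (hdc : B₂ d c = 1) (hh : B₂ h h = 0) (hg : B₂ g g = 0) (hgh : B₂ g h = 1)
    (hhc : B₂ h c = 0) (hhd : B₂ h d = 0) (hgc : B₂ g c = 0) (hgd : B₂ g d = 0)
    {γ δ v : Fin a → F} {σ : F} (hγ : B₁ γ γ = 0) (hδ : B₁ δ δ = 0) (hδγ : B₁ δ γ = 1) (hvγ : B₁ v γ = 0)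
    (hvδ : B₁ v δ = 0) (hv : v ≠ 0) {m : Isom Q} (hm : m ∈ M)
    (hmL : RadLine Q B₂ c h (lineOp B₁ γ σ + altOp B₁ γ v) m) :
    ∃ (h' : Fin b → F) (γ' : Fin a → F) (σ' : F) (m' : Isom Q), Line Q B₁ B₂ M c d h' γ' σ' m' := by
  have hS := hX.tset
  have h₁ := hS.f₁
  have h₂ := hS.f₂
  have : CharP F 2 := CharTwo.of_one_ne_zero_of_two_eq_zero one_ne_zero h2
  have he : ε = -1 ∧ ∀ x, B₁ x x = 0 := by
    rcases h₁.kind with ⟨-, h⟩ | h
    · exact absurd h2 h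
    · exact h
  have ha₂ : ∀ x, B₂ x x = 0 := by
    rcases h₂.kind with ⟨-, h⟩ | h
    · exact absurd h2 h
    · exact h.2
  have hneg : ∀ r : F, -r = r := CharTwo.neg_eq
  have hε : ε = 1 := by rw [he.1, hneg]
  have s₁ : ∀ x y, B₁ x y = B₁ y x := fun x y => by rw [h₁.symm x y, hε, one_mul]
  have s₂ : ∀ x y, B₂ x y = B₂ y x := fun x y => by rw [h₂.symm x y, hε, one_mul]
  obtain ⟨y, hy⟩ := h₁.exists_one hv
  set w := y - B₁ y γ • δ - (ε * B₁ y δ) • γ with hw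
  have hwp := h₁.sub_mem_pair hγ hδ hδγ y
  rw [← hw, Submodule.mem_inf, mem_cperp, mem_cperp] at hwp
  have hwv : B₁ w v = 1 := by simp [hw, hy, h₁.orth_comm hvγ, h₁.orth_comm hvδ]
  clear_value w
  obtain ⟨τ, hτ, hτv⟩ := hX.exists_transvection h2 he.1 (he.2 w)
  obtain ⟨e, hem, hev⟩ := hX.left hτ
  have hev' : ∀ x y, mat Q e *ᵥ ten x y = ten (glEquiv τ x) (id y) := fun x y => by rw [hev]; rfl
  have hτl := hmL.conj hev' (fun _ => rfl) (fun _ => rfl) (L' := lineOp B₁ γ σ + altOp B₁ γ (v + w))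
    fun x => by
      simp only [LinearMap.add_apply, lineOp_apply, altOp_apply, glEquiv_apply, hτv, map_add, map_smul,
        map_sub, LinearMap.sub_apply, LinearMap.smul_apply, smul_eq_mul, hwp.1, s₁ γ w, s₁ v w,
        hwv, he.2 w]
      match_scalars <;> first
        | ring1
        | linear_combination (B₁ x w) * h2
        | linear_combination (-(B₁ x w)) * h2
  have hm1M : e * m * e⁻¹ * m⁻¹ ∈ M := M.mul_mem (M.mul_mem (M.mul_mem hem hm) (M.inv_mem hem)) (M.inv_mem hm)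
  have hm1 := hτl.mul hmL.inv
  rw [show lineOp B₁ γ σ + altOp B₁ γ (v + w) + -(lineOp B₁ γ σ + altOp B₁ γ v) = altOp B₁ γ w from
    LinearMap.ext fun x => by
      simp only [LinearMap.add_apply, LinearMap.neg_apply, lineOp_apply, altOp_apply, map_add]
      module] at hm1
  simp only [id_eq] at hm1
  set m₁ := e * m * e⁻¹ * m⁻¹
  -- a copy exchanging `γ` and `δ`, moved to a singular `k`
  set K := cperp B₂ c ⊓ cperp B₂ d ⊓ cperp B₂ h ⊓ cperp B₂ g with hK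
  have hKd : 1 ≤ finrank F K := by
    have h1 := h₂.finrank_le_inf (cperp B₂ c) d
    have h2 := h₂.finrank_le_inf (cperp B₂ c ⊓ cperp B₂ d) h
    have h3 := h₂.finrank_le_inf (cperp B₂ c ⊓ cperp B₂ d ⊓ cperp B₂ h) g
    have h4 := h₂.finrank_cperp hc0
    rw [← hK] at h3
    omega
  obtain ⟨k, hk, hk0⟩ := Submodule.exists_mem_ne_zero_of_ne_bot (p := K)
    fun h0 => by rw [h0, finrank_bot] at hKd; omega
  have hkc : B₂ k c = 0 := hk.1.1.1
  have hkd : B₂ k d = 0 := hk.1.1.2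
  have hkh : B₂ k h = 0 := hk.1.2
  have hkg : B₂ k g = 0 := hk.2
  obtain ⟨k', hk'c, hk'd, hk'h, hk'g, hk'k⟩ :=
    h₂.exists_four_partner hc hd hdc hh hg hgh hhc hhd hgc hgd hk0 hkc hkd hkh hkg
  obtain ⟨S, hSm, hSv⟩ := hX.exists_transvection h2 he.1 (he.2 (γ + δ))
  obtain ⟨T₁, hT₁, hT₁v⟩ := hX.exists_transvection_right he.1 (ha₂ (c + (d + k')))
  obtain ⟨T₂, hT₂, hT₂v⟩ := hX.exists_transvection_right he.1 (ha₂ (d + k' + k))
  obtain ⟨T₃, hT₃, hT₃v⟩ := hX.exists_transvection_right he.1 (ha₂ (h + g))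
  set T := T₃ * T₂ * T₁ with hT
  have hTm : T ∈ fgrp B₂ ε := mul_mem (mul_mem hT₃ hT₂) hT₁
  have htwo : ∀ x : Fin b → F, x + x = 0 := fun x => by rw [← two_smul F, h2, zero_smul]
  have hTc : (T : Matrix (Fin b) (Fin b) F) *ᵥ c = k := by
    have e1 : (T₁ : Matrix (Fin b) (Fin b) F) *ᵥ c = d + k' := by
      rw [hT₁v]
      simp only [map_add, hc, s₂ c d, hdc, s₂ c k', hk'c, zero_add, add_zero, one_smul]
      rw [← add_assoc, htwo, zero_add]
    have e2 : (T₂ : Matrix (Fin b) (Fin b) F) *ᵥ (d + k') = k := by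
      rw [hT₂v]
      simp only [map_add, LinearMap.add_apply, hd, ha₂ k', hk'd, s₂ d k', hk'k, s₂ d k, hkd, zero_add,
        add_zero, one_smul]
      rw [← add_assoc, htwo, zero_add]
    have e3 : (T₃ : Matrix (Fin b) (Fin b) F) *ᵥ k = k := by
      rw [hT₃v]
      simp [hkh, hkg]
    rw [hT, Units.val_mul, Units.val_mul, ← mulVec_mulVec, ← mulVec_mulVec, e1, e2, e3]
  have hTh : (T : Matrix (Fin b) (Fin b) F) *ᵥ h = g := by
    have e1 : (T₁ : Matrix (Fin b) (Fin b) F) *ᵥ h = h := by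
      rw [hT₁v]
      simp [hhc, hhd, s₂ h k', hk'h]
    have e2 : (T₂ : Matrix (Fin b) (Fin b) F) *ᵥ h = h := by
      rw [hT₂v]
      simp [hhd, s₂ h k', hk'h, s₂ h k, hkh]
    have e3 : (T₃ : Matrix (Fin b) (Fin b) F) *ᵥ h = g := by
      rw [hT₃v]
      simp only [map_add, hh, s₂ h g, hgh, zero_add, one_smul]
      rw [← add_assoc, htwo, zero_add]
    rw [hT, Units.val_mul, Units.val_mul, ← mulVec_mulVec, ← mulVec_mulVec, e1, e2, e3]
  obtain ⟨eS, heS, heSv⟩ := hX.left hSm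
  obtain ⟨eT, heT, heTv⟩ := hX.right hTm
  have heq : ∀ x y, mat Q (eS * eT) *ᵥ ten x y = ten (glEquiv S x) ((T : Matrix (Fin b) (Fin b) F) *ᵥ y) :=
    fun x y => by rw [mat_mul, ← mulVec_mulVec, heTv, heSv]; rfl
  have hm2 := hm1.conj heq (fun y => by rw [h₂.fgrp_le hTm]) (fun y => by rw [h₂.fgrp_le hTm])
    (L' := altOp B₁ δ w) fun x => by
      simp only [altOp_apply, glEquiv_apply, hSv, map_add, map_smul, map_sub, LinearMap.add_apply,
        LinearMap.smul_apply, LinearMap.sub_apply, smul_eq_mul, smul_add, hγ, hδ, hδγ, s₁ γ δ, hwp.1, hwp.2,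
        s₁ γ w, s₁ δ w, he.2 w]
      match_scalars <;> first
        | ring1
        | linear_combination (B₁ x γ) * h2
        | linear_combination (-(B₁ x γ)) * h2
        | linear_combination (B₁ x δ) * h2
        | linear_combination (-(B₁ x δ)) * h2
        | linear_combination (B₁ x w) * h2
        | linear_combination (-(B₁ x w)) * h2
  rw [hTc, hTh] at hm2
  have hm2M : eS * eT * m₁ * (eS * eT)⁻¹ ∈ M :=
    M.mul_mem (M.mul_mem (M.mul_mem heS heT) hm1M) (M.inv_mem (M.mul_mem heS heT))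
  set m₂ := eS * eT * m₁ * (eS * eT)⁻¹
  -- their commutator
  have hm1k : ∀ x, mat Q m₁ *ᵥ ten x k = ten x k := fun x => by
    rw [hm1.ten_perp x hkc, hkh, zero_smul, add_zero]
  have hm2c : ∀ x, mat Q m₂ *ᵥ ten x c = ten x c := fun x => by
    rw [hm2.ten_perp x (show B₂ c k = 0 by rw [s₂, hkc]), s₂ c g, hgc, zero_smul, add_zero]
  set P : (Fin a → F) →ₗ[F] (Fin a → F) := lineOp B₁ w 1 with hP
  have hL12 : ∀ x, altOp B₁ γ w (altOp B₁ δ w x) = P x := fun x => by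
    simp only [hP, lineOp_apply, altOp_apply, map_sub, map_smul, LinearMap.sub_apply, LinearMap.smul_apply,
      smul_eq_mul, hδγ, hwp.1, s₁ δ w, hwp.2, he.2 w, mul_zero, mul_one, sub_zero, zero_sub, zero_smul,
      hneg]
    match_scalars <;> first
      | ring1
      | linear_combination (B₁ x w) * h2
      | linear_combination (-(B₁ x w)) * h2
  have hsw : ∀ v, evB B₂ c v = 0 →
      mat Q m₁ *ᵥ (mat Q m₂ *ᵥ v) = mat Q m₂ *ᵥ (mat Q m₁ *ᵥ v) + ten (P (evB B₂ k v)) c := by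
    intro v hv
    set x := evB B₂ k v with hx
    set u := v - ten x k' with hu
    have huc : evB B₂ c u = 0 := by rw [hu, map_sub, hv, evB_ten, hk'c, zero_smul, sub_zero]
    have huk : evB B₂ k u = 0 := by rw [hu, map_sub, evB_ten, hk'k, one_smul, sub_self]
    have e0 : mat Q m₁ *ᵥ (mat Q m₂ *ᵥ u) = mat Q m₂ *ᵥ (mat Q m₁ *ᵥ u) := by
      rw [hm1.2 u huc, hm2.2 u huk, mulVec_add, mulVec_add, hm1.2 u huc, hm2.2 u huk, hm1k, hm2c]
      abel
    have e1 : mat Q m₁ *ᵥ ten x k' = ten x k' := by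
      rw [hm1.ten_perp x hk'c, hk'h, zero_smul, add_zero]
    set W := mat Q m₂ *ᵥ ten x k' - ten x k' with hW
    have hWc : evB B₂ c W = 0 := by
      rw [hW, map_sub, hS.evB_fix hm2c, sub_self]
    have hY : evB B₂ h W = altOp B₁ δ w x := by
      refine sub_eq_zero.1 (h₁.sep fun x' => ?_)
      rw [map_sub, LinearMap.sub_apply, hW, hS.evB_moved hk'k hm2 (show B₂ h k = 0 by rw [s₂, hkh]) x x',
        s₂ h g, hgh]
      simp only [altOp_apply, map_sub, map_smul, LinearMap.sub_apply, LinearMap.smul_apply, smul_eq_mul,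
        s₁ δ x', s₁ w x']
      ring
    have e2 : mat Q m₁ *ᵥ (mat Q m₂ *ᵥ ten x k') = mat Q m₂ *ᵥ (mat Q m₁ *ᵥ ten x k') + ten (P x) c := by
      rw [e1, show mat Q m₂ *ᵥ ten x k' = ten x k' + W by rw [hW, add_sub_cancel], mulVec_add, e1,
        hm1.2 W hWc, hY, hL12, add_assoc]
    have hvu : v = u + ten x k' := by rw [hu, sub_add_cancel]
    rw [hvu, mulVec_add, mulVec_add, mulVec_add, mulVec_add, e0, e2, add_assoc]
  have hzL : RadLine Q B₂ c k P (m₁ * m₂ * m₁⁻¹ * m₂⁻¹) := by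
    refine ⟨fun x => ?_, fun v hv => ?_⟩
    · have i1 : mat Q m₁⁻¹ *ᵥ ten x c = ten x c := mulVec_injective m₁ (by
        show mat Q m₁ *ᵥ _ = mat Q m₁ *ᵥ _; rw [mulVec_cancel', hm1.1])
      have i2 : mat Q m₂⁻¹ *ᵥ ten x c = ten x c := mulVec_injective m₂ (by
        show mat Q m₂ *ᵥ _ = mat Q m₂ *ᵥ _; rw [mulVec_cancel', hm2c])
      simp only [mat_mul, ← mulVec_mulVec, i2, i1, hm2c, hm1.1]
    · set u := mat Q m₁⁻¹ *ᵥ (mat Q m₂⁻¹ *ᵥ v) with hu
      have hvu : v = mat Q m₂ *ᵥ (mat Q m₁ *ᵥ u) := by rw [hu, mulVec_cancel', mulVec_cancel']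
      have huc : evB B₂ c u = 0 := by rw [← hv, hvu, hS.evB_fix hm2c, hS.evB_fix hm1.1]
      have huk : evB B₂ k v = evB B₂ k u := by rw [hvu, hS.evB_fix hm2.1, hS.evB_fix hm1k]
      conv_lhs => simp only [mat_mul, ← mulVec_mulVec]
      rw [← hu, hsw u huc, ← hvu, huk]
  refine ⟨k, w, 1, _, ⟨fun h0 => ?_, he.2 w, hk0, ha₂ k, hkc, hkd, one_ne_zero,
    M.mul_mem (M.mul_mem (M.mul_mem hm1M hm2M) (M.inv_mem hm1M)) (M.inv_mem hm2M), hzL⟩⟩
  rw [h0] at hwv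
  simp at hwv

/-- A radical element outside `Kr` gives a line translation, if there are no central ones. -/
theorem exists_line (hb5 : 5 ≤ b) {c d : Fin b → F} (hc0 : c ≠ 0) (hc : B₂ c c = 0) (hd : B₂ d d = 0)
    (hdc : B₂ d c = 1) (hcen : M ⊓ Cen Q B₂ c ≤ Kr Q) {r : Isom Q} (hr : r ∈ M) (hrR : r ∈ Rad Q B₂ c)
    (hrK : r ∉ Kr Q) :
    ∃ (h : Fin b → F) (γ : Fin a → F) (σ : F) (g : Isom Q), Line Q B₁ B₂ M c d h γ σ g := by
  have hS := hX.tset
  have h₁ := hS.f₁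
  obtain ⟨h, g, γ, δ, v, σ, m, ⟨hh0, hh, hg, hgh, hhc, hhd, hgc, hgd⟩, ⟨hγ0, hγ, hδ, hδγ, hvγ, hvδ⟩, hm, hmK,
    hmL⟩ := hX.exists_line_shape hb5 hc0 hc hd hdc hr hrR hrK
  have hσ : v = 0 → σ ≠ 0 ∧ RadLine Q B₂ c h (lineOp B₁ γ σ) m := by
    intro hv
    have e : lineOp B₁ γ σ + altOp B₁ γ v = lineOp B₁ γ σ := by
      rw [hv]; refine LinearMap.ext fun x => ?_; simp
    rw [e] at hmL
    refine ⟨fun hs => hmK (hcen ⟨hm, RadLine.mem_cen (h := h) ?_⟩), hmL⟩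
    have : lineOp B₁ γ σ = 0 := by rw [hs]; refine LinearMap.ext fun x => ?_; simp
    rwa [this] at hmL
  by_cases hv : v = 0
  · exact ⟨h, γ, σ, m, hγ0, hγ, hh0, hh, hhc, hhd, (hσ hv).1, hm, (hσ hv).2⟩
  by_cases h2 : (2 : F) = 0
  · exact hX.line_of_alt hb5 h2 hc0 hc hd hdc hh hg hgh hhc hhd hgc hgd hγ hδ hδγ hvγ hvδ hv hm hmL
  refine absurd (h₁.sep fun x => ?_) hv
  obtain ⟨μ, hμ⟩ := hX.line_adjoint hc0 hc hd hdc hgc hgd hgh hcen hm hmL
  have hγδ : B₁ γ δ = ε := by rw [h₁.symm, hδγ, mul_one]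
  have e1 := hμ δ γ
  simp [hγ, hδγ, hvγ, h₁.orth_comm hvγ, h₁.orth_comm hvδ] at e1
  have e2 := hμ δ x
  simp [← e1, hδγ, h₁.orth_comm hvδ, h₁.symm γ x] at e2
  refine mul_left_cancel₀ h2 ?_
  rw [mul_zero]
  linear_combination e2 + h₁.symm v x

end Ctx

end CfsgLib.TensorOrth
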