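import Cfsg.Agent.TensorOrth.SeedCentral

/-!
# Radical elements translating along one line
-/

set_option autoImplicit false
set_option linter.unusedSectionVars false

namespace CfsgLib.TensorOrth

open Matrix Module CfsgLib.Spinor CfsgLib.OrthMax
open CfsgLib.TensorMax (Idx ten ten_add_left ten_add_right ten_smul_left ten_smul_right ten_eq_zero
  ten_inj_left ten_inj_right)
open CfsgLib.TensorUnitary (ten_induction)

variable {F : Type*} [Field F] [Fintype F] {a b : ℕ} {Q : QuadraticForm F (Idx a b → F)}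
  {B₁ : LinearMap.BilinForm F (Fin a → F)} {B₂ : LinearMap.BilinForm F (Fin b → F)} {ε : F}

/-- `g` fixes `F^a ⊗ c` and translates `F^a ⊗ c⊥` along it by `L` of the contraction with `h`. -/
def RadLine (Q : QuadraticForm F (Idx a b → F)) (B₂ : LinearMap.BilinForm F (Fin b → F)) (c h : Fin b → F)
    (L : (Fin a → F) →ₗ[F] (Fin a → F)) (g : Isom Q) : Prop :=
  (∀ x, mat Q g *ᵥ ten x c = ten x c) ∧
    ∀ v, evB B₂ c v = 0 → mat Q g *ᵥ v = v + ten (L (evB B₂ h v)) c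

/-- A pair action commutes with contraction. -/
theorem evB_pair {g : Isom Q} {S : (Fin a → F) →ₗ[F] (Fin a → F)} {T : (Fin b → F) → (Fin b → F)}
    (hg : ∀ x y, mat Q g *ᵥ ten x y = ten (S x) (T y)) {w : Fin b → F}
    (hT : ∀ y, B₂ (T y) (T w) = B₂ y w) (v : Idx a b → F) :
    evB B₂ (T w) (mat Q g *ᵥ v) = S (evB B₂ w v) := by
  induction v using ten_induction with
  | hadd v v' h h' => rw [mulVec_add, map_add, map_add, h, h', map_add]
  | h0 => simp
  | h x y => rw [hg, evB_ten, evB_ten, hT, map_smul]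

theorem ker_mulVec_eq {c : Fin b → F} {M₁ M₂ : Matrix (Idx a b) (Idx a b) F}
    (h : ∀ x u, B₂ u c = 0 → M₁ *ᵥ ten x u = M₂ *ᵥ ten x u) {v : Idx a b → F} (hv : evB B₂ c v = 0) :
    M₁ *ᵥ v = M₂ *ᵥ v :=
  ker_induction (P := fun v => M₁ *ᵥ v = M₂ *ᵥ v) (by simp)
    (fun v w hv hw => by rw [mulVec_add, mulVec_add, hv, hw]) h hv

namespace RadLine

variable {c h : Fin b → F} {L L' : (Fin a → F) →ₗ[F] (Fin a → F)} {g g' : Isom Q}

theorem mem_rad (hg : RadLine Q B₂ c h L g) : g ∈ Rad Q B₂ c :=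
  ⟨hg.1, fun v hv => ⟨_, hg.2 v hv⟩⟩

theorem ten_perp (hg : RadLine Q B₂ c h L g) (x : Fin a → F) {u : Fin b → F} (hu : B₂ u c = 0) :
    mat Q g *ᵥ ten x u = ten x u + B₂ u h • ten (L x) c := by
  rw [hg.2 _ (by simp [hu]), evB_ten, map_smul, ten_smul_left]

theorem mk' (h1 : ∀ x, mat Q g *ᵥ ten x c = ten x c)
    (h2 : ∀ x u, B₂ u c = 0 → mat Q g *ᵥ ten x u = ten x u + B₂ u h • ten (L x) c) : RadLine Q B₂ c h L g :=
  ⟨h1, fun v hv => ker_induction (P := fun v => mat Q g *ᵥ v = v + ten (L (evB B₂ h v)) c) (by simp)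
    (fun v w hv hw => by
      rw [mulVec_add, hv, hw, map_add, map_add, ten_add_left]
      abel)
    (fun x u hu => by rw [h2 x u hu, evB_ten, map_smul, ten_smul_left]) hv⟩

theorem mul (hg : RadLine Q B₂ c h L g) (hg' : RadLine Q B₂ c h L' g') :
    RadLine Q B₂ c h (L + L') (g * g') :=
  ⟨fun x => by rw [mat_mul, ← mulVec_mulVec, hg'.1, hg.1], fun v hv => by
    rw [mat_mul, ← mulVec_mulVec, hg'.2 v hv, mulVec_add, hg.2 v hv, hg.1, add_assoc, ← ten_add_left,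
      LinearMap.add_apply]⟩

theorem inv (hg : RadLine Q B₂ c h L g) : RadLine Q B₂ c h (-L) g⁻¹ :=
  ⟨fun x => mulVec_injective g (by show mat Q g *ᵥ _ = mat Q g *ᵥ _; rw [mulVec_cancel', hg.1]),
    fun v hv => mulVec_injective g (by
      show mat Q g *ᵥ _ = mat Q g *ᵥ _
      rw [mulVec_cancel', mulVec_add, hg.2 v hv, hg.1, add_assoc, ← ten_add_left, LinearMap.neg_apply,
        add_neg_cancel, ten_zero_left, add_zero])⟩

theorem mem_cen (hg : RadLine Q B₂ c h 0 g) : g ∈ Cen Q B₂ c := fun v hv => by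
  rw [hg.2 v hv, LinearMap.zero_apply, ten_zero_left, add_zero]

/-- Conjugation by a pair. -/
theorem conj (hg : RadLine Q B₂ c h L g) {e : Isom Q} {S : (Fin a → F) ≃ₗ[F] (Fin a → F)}
    {T : (Fin b → F) → (Fin b → F)} (he : ∀ x y, mat Q e *ᵥ ten x y = ten (S x) (T y))
    (hTc : ∀ y, B₂ (T y) (T c) = B₂ y c) (hTh : ∀ y, B₂ (T y) (T h) = B₂ y h)
    {L' : (Fin a → F) →ₗ[F] (Fin a → F)} (hL : ∀ x, L' (S x) = S (L x)) :
    RadLine Q B₂ (T c) (T h) L' (e * g * e⁻¹) := by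
  constructor
  · intro x
    obtain ⟨x, rfl⟩ := S.surjective x
    rw [mat_mul, mat_mul, ← mulVec_mulVec, ← mulVec_mulVec, ← he, mulVec_cancel, hg.1]
  · intro v hv
    obtain ⟨v, rfl⟩ : ∃ w, mat Q e *ᵥ w = v := ⟨_, mulVec_cancel' e v⟩
    have he' : ∀ x y, mat Q e *ᵥ ten x y = ten (S.toLinearMap x) (T y) := he
    rw [evB_pair he' hTc, LinearEquiv.coe_coe, map_eq_zero_iff _ S.injective] at hv
    rw [mat_mul, mat_mul, ← mulVec_mulVec, ← mulVec_mulVec, mulVec_cancel, hg.2 v hv, mulVec_add, he,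
      evB_pair he' hTh, LinearEquiv.coe_coe, hL]

end RadLine

namespace TSet

variable (hS : TSet Q B₁ B₂ ε)
include hS

/-- An element fixing a slice keeps the contraction with it. -/
theorem evB_fix {g : Isom Q} {k : Fin b → F} (hg : ∀ x, mat Q g *ᵥ ten x k = ten x k) (v : Idx a b → F) :
    evB B₂ k (mat Q g *ᵥ v) = evB B₂ k v := by
  refine sub_eq_zero.1 (hS.f₁.sep fun x => ?_)
  rw [map_sub, LinearMap.sub_apply, ← hS.polar_ten, ← hS.polar_ten]
  conv_lhs => arg 1; arg 3; rw [← hg x]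
  rw [polar_mulVec, sub_self]

/-- The contraction of `g (x ⊗ d) - x ⊗ d` with a vector of `c⊥`. -/
theorem evB_moved {c d h : Fin b → F} (hdc : B₂ d c = 1) {L : (Fin a → F) →ₗ[F] (Fin a → F)} {g : Isom Q}
    (hg : RadLine Q B₂ c h L g) {u : Fin b → F} (hu : B₂ u c = 0) (x x' : Fin a → F) :
    B₁ (evB B₂ u (mat Q g *ᵥ ten x d - ten x d)) x' = -(B₂ u h * B₁ x (L x')) := by
  rw [← hS.polar_ten, QuadraticMap.polar_sub_left, hS.polar]
  have e : mat Q g *ᵥ ten x' u = ten x' u + B₂ u h • ten (L x') c := hg.ten_perp x' hu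
  have h1 := polar_mulVec Q g (ten x d) (ten x' u)
  have h2 := polar_mulVec Q g (ten x d) (ten (L x') c)
  rw [hg.1, hS.polar, hdc, mul_one] at h2
  rw [e, QuadraticMap.polar_add_right, QuadraticMap.polar_smul_right, h2, hS.polar, smul_eq_mul] at h1
  linear_combination h1

/-- A translation by a non-scalar lies outside `Kr`. -/
theorem radLine_notMem_Kr (ha : 0 < a) {c h u : Fin b → F} (hc0 : c ≠ 0) (hu : B₂ u c = 0)
    (huh : B₂ u h = 1) {L : (Fin a → F) →ₗ[F] (Fin a → F)} {g : Isom Q} (hg : RadLine Q B₂ c h L g)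
    (hL : ∀ s : F, ∃ x, L x ≠ s • x) : g ∉ Kr Q := by
  intro hK
  obtain ⟨T, -, -, hT⟩ := hS.rad_kr ha hc0 hg.mem_rad hK
  let i₀ : Fin a := ⟨0, ha⟩
  obtain ⟨μ, -, hμ⟩ := split_ten ha (A := fun x : Fin a → F => x) (D := fun x => L x) (y := T u - u)
    ⟨Pi.single i₀ 1, by simp⟩ hc0 fun x => by
    rw [show ten x (T u - u) = ten x (T u) - ten x u from map_sub (tenB x) _ _, ← hT, hg.ten_perp x hu, huh,
      one_smul, add_sub_cancel_left]
  obtain ⟨x, hx⟩ := hL μ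
  exact hx (hμ x)

end TSet

end CfsgLib.TensorOrth
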