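import Cfsg.Agent.TensorOrth.Factor

/-!
# Operators fixed modulo scalars by all Siegel elements at an isotropic vector
-/

set_option autoImplicit false
set_option linter.unusedSectionVars false

namespace CfsgLib.TensorOrth

open Matrix Module

variable {F : Type*} [Field F] {n : ℕ}

/-- Conjugation by every Siegel element at `γ` changes `A` by a scalar. -/
def FixMod (B : LinearMap.BilinForm F (Fin n → F)) (ε : F) (γ : Fin n → F)
    (A : (Fin n → F) →ₗ[F] (Fin n → F)) : Prop :=
  ∀ z k, B z γ = 0 → k * (1 + ε) + B z z = 0 →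
    ∃ μ : F, ∀ x, esie B ε γ z k (A x) - A (esie B ε γ z k x) = μ • esie B ε γ z k x

/-- The cases in which `FixMod` determines the shape. -/
def ShapeOK (B : LinearMap.BilinForm F (Fin n → F)) : Prop :=
  (∀ x, B x x = 0) ∧ (Nat.card F ≠ 2 ∨ 3 ≤ n) ∨ 3 ≤ n ∧ (Nat.card F ≠ 3 ∨ 4 ≤ n) ∧ (2 : F) ≠ 0

variable {B : LinearMap.BilinForm F (Fin n → F)} {ε : F}

namespace Fac

variable (hB : Fac B ε)
include hB

/-- A vector orthogonal to the orthogonal of `c` is a multiple of it. -/
theorem eq_smul_of_orth {c z : Fin n → F} (h : ∀ x, B x c = 0 → B z x = 0) : ∃ s : F, s • c = z := by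
  by_contra! hs
  obtain ⟨x, hx, hxz⟩ := hB.exists_orth_not_orth hs
  exact one_ne_zero (hxz.symm.trans (hB.orth_comm (h x hx)))

/-- The shape of an operator fixed modulo scalars, once `γ` is an eigenvector on both sides. -/
theorem shape_of_eigen {γ δ : Fin n → F} (hγ : B γ γ = 0) (hδ : B δ δ = 0)
    (hδγ : B δ γ = 1) {A : (Fin n → F) →ₗ[F] (Fin n → F)} (hA : FixMod B ε γ A) {l : F}
    (hl : A γ = l • γ) (hl' : ∀ x, B (A x) γ = l * B x γ) :
    ∃ (v : Fin n → F) (σ : F), B v γ = 0 ∧ B v δ = 0 ∧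
      ∀ x, A x = l • x + (σ * B x γ) • γ + (B x γ • v - B x v • γ) := by
  have hγ0 : γ ≠ 0 := fun h => by simp [h] at hδγ
  have hγδ : B γ δ = ε := by rw [hB.symm, hδγ, mul_one]
  set A' := A - l • LinearMap.id with hA'def
  have hA'γ : A' γ = 0 := by simp [hA'def, hl]
  have hA'pair : ∀ x, B (A' x) γ = 0 := fun x => by simp [hA'def, hl']
  have hcomm : ∀ z k, B z γ = 0 → k * (1 + ε) + B z z = 0 → ∀ x,
      esie B ε γ z k (A' x) = A' (esie B ε γ z k x) := by
    intro z k hz hk x
    obtain ⟨μ, hμ⟩ := hA z k hz hk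
    have h0 := hμ γ
    rw [hl, map_smul] at h0
    have hEγ : esie B ε γ z k γ = γ := by
      rw [esie_apply, hγ, hB.orth_comm hz]; simp
    rw [hEγ, hl, sub_self, eq_comm, smul_eq_zero] at h0
    have := hμ x
    rw [h0.resolve_right hγ0, zero_smul, sub_eq_zero] at this
    simp [hA'def, this]
  have horth : ∀ x, B x γ = 0 → A' x = (ε * B (A' x) δ) • γ := by
    intro x hx
    obtain ⟨s, hs⟩ := hB.eq_smul_of_orth (c := γ) (z := A' x) fun z hz => by
      obtain ⟨k, hk⟩ := hB.exists_param z
      have h := hcomm z k hz hk x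
      simp only [esie_apply, hA'pair, hx, mul_zero, zero_smul, add_zero, map_sub, map_smul, hA'γ,
        smul_zero, sub_zero] at h
      rw [sub_eq_self, smul_eq_zero] at h
      exact (mul_eq_zero.1 (h.resolve_right hγ0)).resolve_left hB.eps_ne
    rw [← hs]
    congr 1
    simp [hγδ]
    linear_combination -s * hB.eps_sq
  set σ := ε * B (A' δ) δ with hσ
  set v := A' δ - σ • γ with hv
  have hvγ : B v γ = 0 := by simp [hv, hA'pair, hγ]
  have hvδ : B v δ = 0 := by
    simp [hv, hσ, hγδ]
    linear_combination -(B (A' δ) δ) * hB.eps_sq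
  refine ⟨v, σ, hvγ, hvδ, fun x => ?_⟩
  set x' := x - B x γ • δ with hx'
  have hx'γ : B x' γ = 0 := by simp [hx', hδγ]
  have h2 : A' x' = -(B x v) • γ := by
    obtain ⟨k, hk⟩ := hB.exists_param x'
    have h := hcomm x' k hx'γ hk δ
    simp only [esie_apply, hA'pair, hδγ, mul_zero, zero_smul, add_zero, zero_mul, one_smul, mul_one,
      map_add, map_sub, map_smul, hA'γ, smul_zero, sub_zero] at h
    rw [sub_eq_add_neg, add_right_inj] at h
    rw [← h, ← neg_smul]
    congr 1
    have e1 : B (A' δ) x' = B v x' := by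
      simp [hv, hB.orth_comm hx'γ]
    rw [e1, ← hB.symm, hx']
    simp [hB.orth_comm hvδ]
  have e : A x = A' x + l • x := by simp [hA'def]
  rw [e, show x = x' + B x γ • δ by rw [hx']; abel, map_add, map_smul, h2,
    show A' δ = v + σ • γ by rw [hv]; abel]
  rw [hx']
  simp [hδγ, hB.orth_comm hvδ]
  module

/-- A non-singular vector orthogonal to a hyperbolic pair and a non-singular vector. -/
theorem exists_nonsingular_triple (h2 : (2 : F) ≠ 0) (he : ε = 1) {c d e : Fin n → F} (hc0 : c ≠ 0)
    (hc : B c c = 0) (hd : B d d = 0) (hdc : B d c = 1) (hec : B e c = 0) (hed : B e d = 0)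
    (hee : B e e ≠ 0) (hn : 4 ≤ n) :
    ∃ f, B f c = 0 ∧ B f d = 0 ∧ B f e = 0 ∧ B f f ≠ 0 := by
  by_contra! h
  set K := cperp B c ⊓ cperp B d ⊓ cperp B e with hK
  obtain ⟨z, hz, hz0⟩ := (Submodule.ne_bot_iff K).1 (fun hb => by
    have h1 := hB.finrank_cperp hc0
    have h3 := hB.finrank_le_inf (cperp B c) d
    have h4 := hB.finrank_le_inf (cperp B c ⊓ cperp B d) e
    rw [← hK, hb, finrank_bot] at h4
    omega)
  refine hz0 (hB.sep fun y => ?_)
  have hy := hB.sub_mem_pair hc hd hdc y
  set y1 := y - B y c • d - (ε * B y d) • c with hy1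
  set y2 := y1 - (B y1 e / B e e) • e with hy2
  have hy2K : y2 ∈ K := by
    refine ⟨⟨?_, ?_⟩, ?_⟩ <;> rw [SetLike.mem_coe, mem_cperp, hy2]
    · simp [hec, show B y1 c = 0 from hy.1]
    · simp [hed, show B y1 d = 0 from hy.2]
    · simp [hee]
  have h7 := h z hz.1.1 hz.1.2 hz.2
  have h8 := h y2 hy2K.1.1 hy2K.1.2 hy2K.2
  have hsum := K.add_mem hz hy2K
  have h9 := h (z + y2) hsum.1.1 hsum.1.2 hsum.2
  have h10 : B z y2 = 0 := by
    simp only [map_add, LinearMap.add_apply, h7, h8, hB.symm y2 z, he, one_mul, zero_add, add_zero] at h9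
    exact (mul_eq_zero.1 ((two_mul _).trans h9)).resolve_left h2
  have e1 : y = y2 + (B y1 e / B e e) • e + B y c • d + (ε * B y d) • c := by rw [hy2, hy1]; abel
  rw [e1]
  simp [h10, show B z e = 0 from hz.2, show B z d = 0 from hz.1.2, show B z c = 0 from hz.1.1]

/-- Symmetric forms: `γ` is an eigenvector on both sides. -/
theorem eigen_symm [Finite F] (he : ε = 1) (h2 : (2 : F) ≠ 0) (hn : 3 ≤ n)
    (hex : Nat.card F ≠ 3 ∨ 4 ≤ n) {γ δ : Fin n → F} (hγ : B γ γ = 0) (hδ : B δ δ = 0)
    (hδγ : B δ γ = 1) {A : (Fin n → F) →ₗ[F] (Fin n → F)} (hA : FixMod B ε γ A) :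
    ∃ l : F, A γ = l • γ ∧ ∀ x, B (A x) γ = l * B x γ := by
  have hγ0 : γ ≠ 0 := fun h => by simp [h] at hδγ
  have hγδ : B γ δ = 1 := by rw [hB.symm, hδγ, mul_one, he]
  have hs : ∀ x y, B x y = B y x := fun x y => by rw [hB.symm, he, one_mul]
  -- the equation at a vector `z ⊥ γ, δ`
  have heq : ∀ z, B z γ = 0 → ∃ μ : F, ∀ x,
      B (A x) γ • z - B (A x) z • γ + (-B z z / 2 * B (A x) γ) • γ
        - (B x γ • A z - B x z • A γ + (-B z z / 2 * B x γ) • A γ)
      = μ • (x + B x γ • z - B x z • γ + (-B z z / 2 * B x γ) • γ) := by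
    intro z hz
    obtain ⟨μ, hμ⟩ := hA z (-B z z / 2) hz (by rw [he]; field_simp; ring)
    refine ⟨μ, fun x => ?_⟩
    have := hμ x
    simp only [esie_apply, he, one_mul, map_add, map_sub, map_smul] at this
    rw [← this]
    abel
  obtain ⟨e, hec, hed, hee⟩ := hB.exists_nonsingular_pair h2 he hγ hδ hδγ hn
  have hγγ : B (A γ) γ = 0 := by
    obtain ⟨μ, hμ⟩ := heq e hec
    have h := congrArg (fun w => B w e) (hμ γ)
    simp [hγ, hs γ e, hec, hee] at h
    exact h
  -- `φ` and `ψ` on the orthogonal of the pair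
  have hmu : ∀ z, B z γ = 0 → B z δ = 0 → ∀ μ : F, (∀ x,
      B (A x) γ • z - B (A x) z • γ + (-B z z / 2 * B (A x) γ) • γ
        - (B x γ • A z - B x z • A γ + (-B z z / 2 * B x γ) • A γ)
      = μ • (x + B x γ • z - B x z • γ + (-B z z / 2 * B x γ) • γ)) → μ = -B (A γ) z := by
    intro z hz hzδ μ hμ
    have h := congrArg (fun w => B w δ) (hμ γ)
    simp [hγ, hγγ, hs γ z, hz, hγδ] at h
    exact h.symm
  have hstar : ∀ x y z, B x γ = 0 → B x δ = 0 → B y γ = 0 → B y δ = 0 → B z γ = 0 → B z δ = 0 →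
      B (A x) γ * B z y + B x z * B (A γ) y + B (A γ) z * B x y = 0 := by
    intro x y z hx _ hy _ hz hzδ
    obtain ⟨μ, hμ⟩ := heq z hz
    have h := congrArg (fun w => B w y) (hμ x)
    rw [hmu z hz hzδ μ hμ] at h
    simp [hx, hB.orth_comm hy] at h
    linear_combination h
  have hψ : ∀ y, B y γ = 0 → B y δ = 0 → B (A γ) y = 0 := by
    rcases Nat.lt_or_ge n 4 with hn4 | hn4
    · -- the orthogonal of the pair is the line through `e`
      have hq : Nat.card F ≠ 3 := hex.resolve_right (by omega)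
      have hline : ∀ y, B y γ = 0 → B y δ = 0 → ∃ s : F, s • e = y := by
        intro y hy1 hy2
        by_contra! hne
        have h1 := hB.finrank_cperp hγ0
        have hK : cperp B γ ⊓ cperp B δ < cperp B γ := lt_of_le_of_ne inf_le_left fun h => by
          have : γ ∈ cperp B δ := (h.ge (show γ ∈ cperp B γ from hγ)).2
          rw [mem_cperp, hγδ] at this
          exact one_ne_zero this
        have h2 := Submodule.finrank_lt_finrank_of_lt hK
        have h3 : Submodule.span F {e} = cperp B γ ⊓ cperp B δ := by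
          refine Submodule.eq_of_le_of_finrank_le
            ((Submodule.span_singleton_le_iff_mem _ _).2 ⟨hec, hed⟩) ?_
          rw [finrank_span_singleton (fun h => hee (by simp [h]))]
          omega
        obtain ⟨s, hs⟩ := Submodule.mem_span_singleton.1 (h3.ge (⟨hy1, hy2⟩ : y ∈ cperp B γ ⊓ cperp B δ))
        exact hne s hs
      set ω := B (A γ) e with hω
      have key : ∀ s : F, -2 * s * (B (A δ) e + B (A e) δ) - s * s * B e e * (B (A δ) γ - B (A γ) δ)
          = s * s * s * ω * B e e := by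
        intro s
        have hzγ : B (s • e) γ = 0 := by simp [hec]
        have hzδ : B (s • e) δ = 0 := by simp [hed]
        obtain ⟨μ, hμ⟩ := heq _ hzγ
        have h := congrArg (fun w => B w δ) (hμ δ)
        rw [hmu _ hzγ hzδ μ hμ] at h
        simp [hδγ, hδ, hγδ, hed, hs δ e] at h
        field_simp at h
        linear_combination h
      intro y hy1 hy2
      obtain ⟨s, rfl⟩ := hline y hy1 hy2
      have hω0 : ω = 0 := by
        obtain ⟨r, hr0, hr1⟩ : ∃ r : F, r ≠ 0 ∧ r * r ≠ 1 := by
          by_contra! hall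
          have := Fintype.ofFinite F
          classical
          have hsub : (Finset.univ : Finset F) ⊆ {0, 1, -1} := fun r _ => by
            rcases eq_or_ne r 0 with hr | hr
            · simp [hr]
            · rcases mul_self_eq_one_iff.1 (hall r hr) with h | h <;> simp [h]
          have h3 := (Finset.card_le_card hsub).trans Finset.card_le_three
          rw [Finset.card_univ, ← Nat.card_eq_fintype_card] at h3
          have h4 : 1 < Nat.card F := Finite.one_lt_card
          have hqne : Nat.card F ≠ 2 := fun h5 => h2 (by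
            have hchar := FiniteField.cast_card_eq_zero F
            rw [← Nat.card_eq_fintype_card, h5] at hchar
            exact_mod_cast hchar)
          omega
        have k1 := key 1
        have k2 := key (-1)
        have k3 := key r
        have k4 := key (-r)
        have e4 : r * (r * r - 1) * (ω * B e e) = 0 := by
          have h22 : (2 : F) * (r * (r * r - 1) * (ω * B e e)) = 0 := by
            linear_combination r * k1 - r * k2 - k3 + k4
          exact (mul_eq_zero.1 h22).resolve_left h2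
        rcases mul_eq_zero.1 e4 with h | h
        · rcases mul_eq_zero.1 h with h | h
          · exact absurd h hr0
          · exact absurd (sub_eq_zero.1 h) hr1
        · exact (mul_eq_zero.1 h).resolve_right hee
      simp [← hω, hω0]
    · obtain ⟨f, hfc, hfd, hfe, hff⟩ := hB.exists_nonsingular_triple h2 he hγ0 hγ hδ hδγ hec hed hee hn4
      have hperp : ∀ x u, B x γ = 0 → B x δ = 0 → B u γ = 0 → B u δ = 0 → B u u ≠ 0 → B x u = 0 →
          B (A x) γ = 0 := by
        intro x u hx1 hx2 hu1 hu2 huu hxu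
        have := hstar x u u hx1 hx2 hu1 hu2 hu1 hu2
        simp [hxu] at this
        exact this.resolve_right huu
      have hφ : ∀ x, B x γ = 0 → B x δ = 0 → B (A x) γ = 0 := by
        intro x hx1 hx2
        have h1 := hperp (x - (B x e / B e e) • e) e (by simp [hx1, hec]) (by simp [hx2, hed]) hec hed hee
          (by simp [hee])
        have h3 := hperp e f hec hed hfc hfd hff (hB.orth_comm hfe)
        simpa [h3] using h1
      intro y hy1 hy2
      by_contra hne
      rcases eq_or_ne y 0 with rfl | hy0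
      · simp at hne
      obtain ⟨x, hx⟩ := hB.exists_one hy0
      have hxm := hB.sub_mem_pair hγ hδ hδγ x
      set x' := x - B x γ • δ - (ε * B x δ) • γ with hx'
      have hxy : B x' y = 1 := by simp [hx', hx, hB.orth_comm hy1, hB.orth_comm hy2]
      have h4 := hstar x' y y hxm.1 hxm.2 hy1 hy2 hy1 hy2
      rw [hφ x' hxm.1 hxm.2, hxy] at h4
      exact hne ((mul_eq_zero.1 (show 2 * B (A γ) y = 0 by linear_combination h4)).resolve_left h2)
  obtain ⟨l, hl⟩ : ∃ l : F, l • γ = A γ := hB.eq_smul_of_orth (c := γ) fun x hx => by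
    have hxm := hB.sub_mem_pair hγ hδ hδγ x
    have h := hψ _ hxm.1 hxm.2
    simpa [hx, hγγ] using h
  refine ⟨l, hl.symm, ?_⟩
  have hφ : ∀ x, B x γ = 0 → B x δ = 0 → B (A x) γ = 0 ∧ ∀ z, B z γ = 0 → B z δ = 0 →
      B (A x) z = l * B x z := by
    intro x hx1 hx2
    have hφ0 : B (A x) γ = 0 := by
      have h := hstar x e e hx1 hx2 hec hed hec hed
      rw [← hl] at h
      simp [hB.orth_comm hec, hee] at h
      exact h
    refine ⟨hφ0, fun z hz hzδ => ?_⟩
    obtain ⟨μ, hμ⟩ := heq z hz
    have h := congrArg (fun w => B w δ) (hμ x)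
    rw [hmu z hz hzδ μ hμ, ← hl] at h
    simp [hx1, hφ0, hγδ, hB.orth_comm hz] at h
    linear_combination -h
  have hlδ : B (A δ) γ = l := by
    obtain ⟨μ, hμ⟩ := heq e hec
    have h := congrArg (fun w => B w e) (hμ δ)
    rw [hmu e hec hed μ hμ, ← hl] at h
    simp [hδγ, hB.orth_comm hec, hB.orth_comm hed, (hφ e hec hed).2 e hec hed] at h
    exact mul_right_cancel₀ hee (by linear_combination h)
  intro x
  have hxm := hB.sub_mem_pair hγ hδ hδγ x
  set x' := x - B x γ • δ - (ε * B x δ) • γ with hx'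
  have e1 : x = x' + B x γ • δ + (ε * B x δ) • γ := by rw [hx']; abel
  conv_lhs => rw [e1]
  simp [(hφ x' hxm.1 hxm.2).1, hlδ, ← hl, hγ]
  ring

/-- Alternating forms: `γ` is an eigenvector on both sides. -/
theorem eigen_alt [Finite F] (ha : ∀ x, B x x = 0) (he : ε = -1)
    (hex : Nat.card F ≠ 2 ∨ 3 ≤ n) {γ δ : Fin n → F} (hδγ : B δ γ = 1)
    {A : (Fin n → F) →ₗ[F] (Fin n → F)} (hA : FixMod B ε γ A) :
    ∃ l : F, A γ = l • γ ∧ ∀ x, B (A x) γ = l * B x γ := by
  have hγ0 : γ ≠ 0 := fun h => by simp [h] at hδγ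
  have hγδ : B γ δ = -1 := by rw [hB.symm, hδγ, mul_one, he]
  have heq : ∀ s : F, ∃ μ : F, ∀ x, (s * B (A x) γ) • γ - (s * B x γ) • A γ
      = μ • (x + (s * B x γ) • γ) := by
    intro s
    obtain ⟨μ, hμ⟩ := hA 0 s (by simp) (by simp [he])
    refine ⟨μ, fun x => ?_⟩
    have := hμ x
    simp only [esie_apply, map_zero, smul_zero, mul_zero, zero_smul, sub_zero, add_zero, map_add,
      map_smul] at this
    rw [← this]
    abel
  obtain ⟨μ, hμ⟩ := heq 1
  have hμ0 : μ = 0 := by
    rcases Nat.lt_or_ge n 3 with hn | hn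
    · have hq : Nat.card F ≠ 2 := hex.resolve_right (by omega)
      obtain ⟨r, hr0, hr1⟩ : ∃ r : F, r ≠ 0 ∧ r ≠ 1 := by
        by_contra! hall
        have := Fintype.ofFinite F
        classical
        have hsub : (Finset.univ : Finset F) ⊆ {0, 1} := fun r _ => by
          rcases eq_or_ne r 0 with hr | hr
          · simp [hr]
          · simp [hall r hr]
        have h3 := (Finset.card_le_card hsub).trans Finset.card_le_two
        rw [Finset.card_univ, ← Nat.card_eq_fintype_card] at h3
        have h4 : 1 < Nat.card F := Finite.one_lt_card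
        omega
      have key : ∀ s : F, s ≠ 0 → ∀ μ : F, (∀ x, (s * B (A x) γ) • γ - (s * B x γ) • A γ
          = μ • (x + (s * B x γ) • γ)) →
          μ = s * B (A γ) γ ∧ -(s * B (A δ) γ) - s * B (A γ) δ = μ * -s := by
        intro s _ μ hμ
        refine ⟨?_, ?_⟩
        · have h := congrArg (fun w => B w δ) (hμ γ)
          simp [ha, hγδ] at h
          exact h.symm
        · have h := congrArg (fun w => B w δ) (hμ δ)
          simp [ha, hγδ, hδγ] at h
          linear_combination h
      obtain ⟨μ', hμ'⟩ := heq r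
      obtain ⟨k1, k2⟩ := key 1 one_ne_zero μ hμ
      obtain ⟨k3, k4⟩ := key r hr0 μ' hμ'
      rw [k3] at k4
      have : r * (r - 1) * μ = 0 := by
        linear_combination k4 - r * k2 + (r * r) * k1
      simpa [hr0, sub_eq_zero, hr1] using this
    · obtain ⟨x, hx, hx0⟩ := (Submodule.ne_bot_iff
          (cperp B γ ⊓ LinearMap.ker ((B.flip γ).comp A))).1 (fun h => by
        have h1 := hB.finrank_cperp hγ0
        have h2 := Submodule.finrank_sup_add_finrank_inf_eq (cperp B γ) (LinearMap.ker ((B.flip γ).comp A))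
        have h3 := Submodule.finrank_le (cperp B γ ⊔ LinearMap.ker ((B.flip γ).comp A))
        have h4 := LinearMap.finrank_range_add_finrank_ker ((B.flip γ).comp A)
        have h5 := Submodule.finrank_le (LinearMap.range ((B.flip γ).comp A))
        rw [h, finrank_bot] at h2
        rw [Module.finrank_fin_fun] at h3 h4
        rw [Module.finrank_self] at h5
        omega)
      have h := hμ x
      rw [show B x γ = 0 from hx.1, show B (A x) γ = 0 from hx.2] at h
      simp at h
      exact (smul_eq_zero.1 h.symm).resolve_right hx0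
  have hmain : ∀ x, B (A x) γ • γ = B x γ • A γ := fun x => by
    have := hμ x
    rwa [hμ0, zero_smul, one_mul, one_mul, sub_eq_zero] at this
  refine ⟨B (A δ) γ, ?_, fun x => ?_⟩
  · have := hmain δ
    rw [hδγ, one_smul] at this
    exact this.symm
  · have h1 := hmain δ
    rw [hδγ, one_smul] at h1
    have h2 := hmain x
    rw [← h1, smul_smul] at h2
    exact (smul_left_injective F hγ0 h2).trans (mul_comm _ _)

/-- The shape of an operator fixed modulo scalars by the Siegel elements at `γ`. -/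
theorem shape [Finite F] (hok : ShapeOK B) {γ δ : Fin n → F} (hγ : B γ γ = 0) (hδ : B δ δ = 0)
    (hδγ : B δ γ = 1) {A : (Fin n → F) →ₗ[F] (Fin n → F)} (hA : FixMod B ε γ A) :
    ∃ (l : F) (v : Fin n → F) (σ : F), B v γ = 0 ∧ B v δ = 0 ∧
      ∀ x, A x = l • x + (σ * B x γ) • γ + (B x γ • v - B x v • γ) := by
  obtain ⟨l, hl, hl'⟩ : ∃ l : F, A γ = l • γ ∧ ∀ x, B (A x) γ = l * B x γ := by
    rcases hB.kind with ⟨he, h2⟩ | ⟨he, ha⟩
    · rcases hok with ⟨ha, -⟩ | ⟨hn, hq, -⟩
      · have h3 := ha (γ + δ)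
        simp only [map_add, LinearMap.add_apply, hγ, hδ, hδγ, hB.symm γ δ, he] at h3
        exact absurd (show (2 : F) = 0 by linear_combination h3) h2
      · exact hB.eigen_symm he h2 hn hq hγ hδ hδγ hA
    · refine hB.eigen_alt ha he ?_ hδγ hA
      rcases hok with ⟨-, h⟩ | ⟨h, -⟩
      · exact h
      · exact Or.inr h
  obtain ⟨v, σ, h⟩ := hB.shape_of_eigen hγ hδ hδγ hA hl hl'
  exact ⟨l, v, σ, h⟩

end Fac

end CfsgLib.TensorOrth
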