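import Cfsg.Agent.TensorOrth.Setup
import Cfsg.Agent.TensorOrth.Shape
import Cfsg.Agent.TensorOrth.Fixed
import Cfsg.Agent.TensorUnitary.Radical

/-!
# Isometries acting trivially on `F^a ⊗ c` and on its orthogonal modulo it
-/

set_option autoImplicit false
set_option linter.unusedSectionVars false

namespace CfsgLib.TensorOrth

open Matrix Module CfsgLib.Spinor CfsgLib.OrthMax
open CfsgLib.TensorMax (Idx ten krG ten_add_left ten_add_right ten_smul_left
  ten_smul_right kron_mulVec_ten krG_val mem_kroneckerSubgroup_iff ten_eq_zero ten_inj_left ten_inj_right)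
open CfsgLib.TensorUnitary (sum_ten_row ten_induction mat_ext_ten rowDot rowDot_ten)
open scoped Kronecker

variable {F : Type*} [Field F] {a b : ℕ}

/-- The contraction with `w` in the second factor. -/
def evB (B₂ : LinearMap.BilinForm F (Fin b → F)) (w : Fin b → F) : (Idx a b → F) →ₗ[F] (Fin a → F) :=
  LinearMap.pi fun i => (B₂.flip w).comp (LinearMap.funLeft F F fun k => (i, k))

theorem evB_apply (B₂ : LinearMap.BilinForm F (Fin b → F)) (w : Fin b → F) (v : Idx a b → F) (i : Fin a) :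
    evB B₂ w v i = B₂ (fun k => v (i, k)) w := rfl

@[simp] theorem evB_ten (B₂ : LinearMap.BilinForm F (Fin b → F)) (w : Fin b → F) (x : Fin a → F)
    (y : Fin b → F) : evB B₂ w (ten x y) = B₂ y w • x := by
  funext i
  rw [evB_apply, show (fun k => ten x y (i, k)) = x i • y from rfl, map_smul]
  simp [mul_comm]

variable {Q : QuadraticForm F (Idx a b → F)} {B₁ : LinearMap.BilinForm F (Fin a → F)}
  {B₂ : LinearMap.BilinForm F (Fin b → F)} {ε : F}

theorem evB_add_right (w w' : Fin b → F) (v : Idx a b → F) :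
    evB B₂ (w + w') v = evB B₂ w v + evB B₂ w' v :=
  funext fun i => by simp [evB_apply]

theorem evB_smul_right (k : F) (w : Fin b → F) (v : Idx a b → F) :
    evB B₂ (k • w) v = k • evB B₂ w v :=
  funext fun i => by simp [evB_apply]

theorem mulVec_injective (g : Isom Q) : Function.Injective (fun v => mat Q g *ᵥ v) := fun v w h =>
  OmegaOrbits.mulVec_injective g h

theorem mulVec_cancel (g : Isom Q) (v : Idx a b → F) : mat Q g⁻¹ *ᵥ (mat Q g *ᵥ v) = v := by
  rw [mulVec_mulVec, ← mat_mul, inv_mul_cancel, mat_one, one_mulVec]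

theorem mulVec_cancel' (g : Isom Q) (v : Idx a b → F) : mat Q g *ᵥ (mat Q g⁻¹ *ᵥ v) = v := by
  rw [mulVec_mulVec, ← mat_mul, mul_inv_cancel, mat_one, one_mulVec]

namespace TSet

variable (hS : TSet Q B₁ B₂ ε)
include hS

theorem polar_ten (v : Idx a b → F) (x : Fin a → F) (y : Fin b → F) :
    QuadraticMap.polar (⇑Q) v (ten x y) = B₁ (evB B₂ y v) x := by
  induction v using ten_induction with
  | hadd v w hv hw => rw [QuadraticMap.polar_add_left, hv, hw, map_add, map_add, LinearMap.add_apply]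
  | h0 => simp [QuadraticMap.polar_zero_left]
  | h x' y' => simp [hS.polar, mul_comm]

/-- A vector killed by contraction with all of `c⊥` lies in `F^a ⊗ c`. -/
theorem eq_ten_of_evB {c d : Fin b → F} (hdc : B₂ d c = 1) {z : Idx a b → F}
    (hz : ∀ u, B₂ u c = 0 → evB B₂ u z = 0) : z = ten (ε • evB B₂ d z) c := by
  funext ⟨i, k⟩
  obtain ⟨s, hs⟩ := hS.f₂.eq_smul_of_orth (c := c) (z := fun k => z (i, k)) fun u hu =>
    congrFun (hz u hu) i
  have hk : z (i, k) = s * c k := (congrFun hs k).symm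
  show z (i, k) = (ε • evB B₂ d z) i * c k
  rw [Pi.smul_apply, evB_apply, ← hs, map_smul, LinearMap.smul_apply, hS.f₂.symm c d, hdc, hk,
    smul_eq_mul, smul_eq_mul]
  linear_combination (-s * c k) * hS.f₂.eps_sq

/-- An element mapping each pure tensor to `S x ⊗ T y` lies in `Kr`. -/
theorem mem_Kr_of_ten (ha : 0 < a) (hb : 0 < b) {g : Isom Q} (S : (Fin a → F) →ₗ[F] (Fin a → F))
    (T : (Fin b → F) →ₗ[F] (Fin b → F)) (h : ∀ x y, mat Q g *ᵥ ten x y = ten (S x) (T y)) :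
    g ∈ Kr Q := by
  have e : mat Q g = LinearMap.toMatrix' S ⊗ₖ LinearMap.toMatrix' T := mat_ext_ten fun x y => by
    rw [h, kron_mulVec_ten, LinearMap.toMatrix'_mulVec, LinearMap.toMatrix'_mulVec]
  have hu : IsUnit (mat Q g).det :=
    (Matrix.isUnit_iff_isUnit_det _).1 (g : GL (Idx a b) F).isUnit
  rw [e, Matrix.det_kronecker, Fintype.card_fin, Fintype.card_fin, IsUnit.mul_iff,
    isUnit_pow_iff (by omega), isUnit_pow_iff (by omega)] at hu
  exact ⟨Matrix.nonsingInvUnit _ hu.1, Matrix.nonsingInvUnit _ hu.2, e⟩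

/-- Isometries preserve the contraction with a fixed vector. -/
theorem evB_mulVec_eq_zero {g : Isom Q} {c : Fin b → F} (hg : ∀ x, ∃ x', mat Q g *ᵥ ten x' c = ten x c)
    {v : Idx a b → F} (hv : evB B₂ c v = 0) : evB B₂ c (mat Q g *ᵥ v) = 0 := by
  refine hS.f₁.sep fun x => ?_
  obtain ⟨x', hx'⟩ := hg x
  rw [← hS.polar_ten, ← hx', polar_mulVec, hS.polar_ten, hv, map_zero, LinearMap.zero_apply]

end TSet

/-- Elements fixing `F^a ⊗ c` pointwise and moving `F^a ⊗ c⊥` within its cosets. -/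
def Rad (Q : QuadraticForm F (Idx a b → F)) (B₂ : LinearMap.BilinForm F (Fin b → F)) (c : Fin b → F) :
    Subgroup (Isom Q) where
  carrier := {g | (∀ x, mat Q g *ᵥ ten x c = ten x c) ∧
    ∀ v, evB B₂ c v = 0 → ∃ z, mat Q g *ᵥ v = v + ten z c}
  one_mem' := ⟨fun x => by simp [mat_one], fun v _ => ⟨0, by simp [mat_one, ten_eq_zero]⟩⟩
  mul_mem' {g h} hg hh := ⟨fun x => by rw [mat_mul, ← mulVec_mulVec, hh.1, hg.1], fun v hv => by
    obtain ⟨z, hz⟩ := hh.2 v hv
    obtain ⟨z', hz'⟩ := hg.2 v hv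
    exact ⟨z' + z, by rw [mat_mul, ← mulVec_mulVec, hz, mulVec_add, hg.1, hz', add_assoc, ← ten_add_left]⟩⟩
  inv_mem' {g} hg := ⟨fun x => by conv_lhs => rw [← hg.1 x, mulVec_cancel], fun v hv => by
    obtain ⟨z, hz⟩ := hg.2 v hv
    refine ⟨-z, mulVec_injective g ?_⟩
    show mat Q g *ᵥ (mat Q g⁻¹ *ᵥ v) = mat Q g *ᵥ (v + ten (-z) c)
    rw [mulVec_cancel', mulVec_add, hg.1, hz, add_assoc, ← ten_add_left, add_neg_cancel,
      ten_eq_zero.2 (Or.inl rfl), add_zero]⟩

/-- Elements fixing `F^a ⊗ c⊥` pointwise. -/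
def Cen (Q : QuadraticForm F (Idx a b → F)) (B₂ : LinearMap.BilinForm F (Fin b → F)) (c : Fin b → F) :
    Subgroup (Isom Q) where
  carrier := {g | ∀ v, evB B₂ c v = 0 → mat Q g *ᵥ v = v}
  one_mem' v _ := by simp [mat_one]
  mul_mem' {g h} hg hh v hv := by rw [mat_mul, ← mulVec_mulVec, hh v hv, hg v hv]
  inv_mem' {g} hg v hv := by conv_lhs => rw [← hg v hv, mulVec_cancel]

theorem cen_le_rad {c : Fin b → F} (hc : B₂ c c = 0) : Cen Q B₂ c ≤ Rad Q B₂ c := fun g hg =>
  ⟨fun x => hg _ (by simp [hc]), fun v hv => ⟨0, by simp [hg v hv, ten_eq_zero]⟩⟩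

/-- The translation part of an element of `Rad`. -/
def xPart (B₂ : LinearMap.BilinForm F (Fin b → F)) (ε : F) (d : Fin b → F) (g : Isom Q) :
    (Idx a b → F) →ₗ[F] (Fin a → F) :=
  ε • (evB B₂ d).comp (Matrix.mulVecLin (mat Q g) - LinearMap.id)

namespace TSet

variable (hS : TSet Q B₁ B₂ ε)
include hS

theorem rad_mulVec {c d : Fin b → F} (hdc : B₂ d c = 1) {g : Isom Q} (hg : g ∈ Rad Q B₂ c)
    {v : Idx a b → F} (hv : evB B₂ c v = 0) : mat Q g *ᵥ v = v + ten (xPart B₂ ε d g v) c := by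
  obtain ⟨z, hz⟩ := hg.2 v hv
  have : xPart B₂ ε d g v = z := by
    simp only [xPart, LinearMap.smul_apply, LinearMap.comp_apply, LinearMap.sub_apply, LinearMap.id_apply,
      mulVecLin_apply, hz, add_sub_cancel_left, evB_ten, hS.f₂.symm c d, hdc, smul_smul, mul_one,
      hS.f₂.eps_sq, one_smul]
  rw [hz, this]

theorem cen_mulVec {c d : Fin b → F} (hd : B₂ d d = 0) (hdc : B₂ d c = 1) {g : Isom Q}
    (hg : g ∈ Cen Q B₂ c) (x : Fin a → F) :
    mat Q g *ᵥ ten x d = ten x d + ten (xPart B₂ ε d g (ten x d)) c := by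
  set z := mat Q g *ᵥ ten x d - ten x d with hz
  have hzero : ∀ u, B₂ u c = 0 → evB B₂ u z = 0 := by
    intro u hu
    refine hS.f₁.sep fun x' => ?_
    rw [← hS.polar_ten, hz, QuadraticMap.polar_sub_left]
    have h := polar_mulVec Q g (ten x d) (ten x' u)
    rw [hg (ten x' u) (by simp [hu])] at h
    rw [h, sub_self]
  have e := hS.eq_ten_of_evB hdc hzero
  have : xPart B₂ ε d g (ten x d) = ε • evB B₂ d z := by simp [xPart, hz]
  rw [this, ← e, hz, add_sub_cancel]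

/-- Elements of `Rad ∩ Kr` act on the second factor only. -/
theorem rad_kr (ha : 0 < a) {c : Fin b → F} (hc0 : c ≠ 0) {g : Isom Q} (hg : g ∈ Rad Q B₂ c)
    (hgK : g ∈ Kr Q) :
    ∃ T : (Fin b → F) →ₗ[F] (Fin b → F), T c = c ∧ (∀ u u', B₂ (T u) (T u') = B₂ u u') ∧
      ∀ x y, mat Q g *ᵥ ten x y = ten x (T y) := by
  obtain ⟨S, T₀, hST⟩ := hgK
  have hST' : mat Q g = (S : Matrix (Fin a) (Fin a) F) ⊗ₖ (T₀ : Matrix (Fin b) (Fin b) F) := hST
  obtain ⟨s, hs⟩ := TensorUnitary.scalar_of_fix_slice hc0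
    (S := (S : Matrix (Fin a) (Fin a) F)) (T := (T₀ : Matrix (Fin b) (Fin b) F))
    fun x => by rw [← hST']; exact hg.1 x
  set T := s • Matrix.mulVecLin (T₀ : Matrix (Fin b) (Fin b) F) with hT
  have hgT : ∀ x y, mat Q g *ᵥ ten x y = ten x (T y) := fun x y => by
    rw [hST', kron_mulVec_ten, hs, smul_mulVec, one_mulVec, hT, LinearMap.smul_apply, mulVecLin_apply,
      ten_smul_left, ten_smul_right]
  let e : Fin a → F := Pi.single ⟨0, ha⟩ 1
  have he : e ≠ 0 := by simp [e]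
  refine ⟨T, ten_inj_right he ((hgT e c).symm.trans (hg.1 e)), fun u u' => ?_, hgT⟩
  obtain ⟨x, hx⟩ := hS.f₁.exists_one he
  have h := polar_mulVec Q g (ten x u) (ten e u')
  rw [hgT, hgT, hS.polar, hS.polar, hx, one_mul, one_mul] at h
  exact h

end TSet

/-- A matrix whose difference with `1` has vanishing fourth power has `p`-power order. -/
theorem pow_eq_one_of_nilp {ι : Type} [Fintype ι] [DecidableEq ι] {p : ℕ} [Fact p.Prime] [CharP F p]
    [Nonempty ι] {g : Matrix ι ι F} (h : (g - 1) ^ 4 = 0) : g ^ p ^ 2 = 1 := by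
  have h4 : 4 ≤ p ^ 2 := by
    have := (Fact.out (p := p.Prime)).two_le
    nlinarith
  have h0 : (g - 1) ^ p ^ 2 = 0 := pow_eq_zero_of_le h4 h
  rwa [sub_pow_char_pow_of_commute _ _ (Commute.one_right _), one_pow, sub_eq_zero] at h0

/-- The Siegel elements at `c` with parameter orthogonal to `w`. -/
def rootsAt (B : LinearMap.BilinForm F (Fin b → F)) (ε : F) (hB : Fac B ε) {c : Fin b → F} (hc : B c c = 0)
    (w : Fin b → F) : Subgroup (GL (Fin b) F) where
  carrier := {S | ∃ z k, B z c = 0 ∧ B z w = 0 ∧ k * (1 + ε) + B z z = 0 ∧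
    ∀ x, (S : Matrix (Fin b) (Fin b) F) *ᵥ x = esie B ε c z k x}
  one_mem' := ⟨0, 0, by simp, by simp, by simp, fun x => by simp [esie_zero]⟩
  mul_mem' := by
    rintro S S' ⟨z, k, hz, hzw, hk, hS⟩ ⟨z', k', hz', hzw', hk', hS'⟩
    refine ⟨z' + z, k' + k - ε * B z' z, by simp [hz, hz'], by simp [hzw, hzw'], ?_, fun x => ?_⟩
    · simp only [map_add, LinearMap.add_apply, hB.symm z z']
      linear_combination hk + hk' - B z' z * hB.eps_sq
    · rw [Units.val_mul, ← mulVec_mulVec, hS', hS, hB.esie_comp hc hz' hz]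
  inv_mem' := by
    rintro S ⟨z, k, hz, hzw, hk, hS⟩
    refine ⟨-z, -k - ε * B z z, by simp [hz], by simp [hzw], ?_, fun x => ?_⟩
    · rw [map_neg, map_neg, LinearMap.neg_apply, neg_neg]
      linear_combination -hk - (B z z) * hB.eps_sq + hB.self_eq (x := z)
    · have : S = hB.eGL hc hz k := Units.ext (Matrix.ext_iff_mulVec.2 fun y => by rw [hS, hB.eGL_mulVec])
      rw [this]
      exact LinearMap.toMatrix'_mulVec _ _

theorem rootsAt_le {B : LinearMap.BilinForm F (Fin b → F)} (hB : Fac B ε) {c : Fin b → F} (hc : B c c = 0)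
    (w : Fin b → F) : rootsAt B ε hB hc w ≤ fgrp B ε := by
  rintro S ⟨z, k, hz, -, hk, hS⟩
  exact Subgroup.subset_closure (Or.inl ⟨c, z, k, hc, hz, hk, hS⟩)

theorem rootsAt_nilp {B : LinearMap.BilinForm F (Fin b → F)} (hB : Fac B ε) {c : Fin b → F} (hc : B c c = 0)
    {w : Fin b → F} {S : GL (Fin b) F} (hS : S ∈ rootsAt B ε hB hc w) :
    ((S : Matrix (Fin b) (Fin b) F) - 1) ^ 4 = 0 := by
  obtain ⟨z, k, hz, -, -, hS⟩ := hS
  refine pow_eq_zero_of_le (show 3 ≤ 4 by norm_num) (Matrix.ext_iff_mulVec.2 fun x => ?_)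
  rw [pow_succ, pow_two, zero_mulVec, ← mulVec_mulVec, ← mulVec_mulVec]
  simp only [sub_mulVec, one_mulVec, hS, esie_apply, map_add, map_sub, map_smul, LinearMap.add_apply,
    LinearMap.sub_apply, LinearMap.smul_apply, smul_eq_mul, hc, hz, hB.orth_comm hz]
  match_scalars <;> ring

theorem rootsAt_isPGroup [Finite F] {B : LinearMap.BilinForm F (Fin b → F)} (hB : Fac B ε) (hb : 0 < b)
    {c : Fin b → F} (hc : B c c = 0) (w : Fin b → F) {p : ℕ} [Fact p.Prime] [CharP F p] :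
    IsPGroup p (rootsAt B ε hB hc w) := by
  rintro ⟨S, hS⟩
  have : Nonempty (Fin b) := ⟨⟨0, hb⟩⟩
  exact ⟨2, Subtype.ext (Units.ext (by
    simpa using pow_eq_one_of_nilp (p := p) (rootsAt_nilp hB hc hS)))⟩

namespace TSet

variable (hS : TSet Q B₁ B₂ ε)
include hS

theorem rad_isPGroup [Finite F] (ha : 0 < a) (hb : 0 < b) {c d : Fin b → F} (hc : B₂ c c = 0)
    (hdc : B₂ d c = 1) {p : ℕ} [Fact p.Prime] [CharP F p] : IsPGroup p (Rad Q B₂ c) := by
  rintro ⟨g, hg⟩
  have : Nonempty (Idx a b) := ⟨⟨⟨0, ha⟩, ⟨0, hb⟩⟩⟩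
  have h3 : (mat Q g - 1) ^ 3 = 0 := Matrix.ext_iff_mulVec.2 fun v => by
    rw [pow_succ, pow_two, zero_mulVec, ← mulVec_mulVec, ← mulVec_mulVec]
    have h1 : evB B₂ c ((mat Q g - 1) *ᵥ v) = 0 := by
      refine hS.f₁.sep fun x => ?_
      rw [← hS.polar_ten, sub_mulVec, one_mulVec, QuadraticMap.polar_sub_left]
      conv_lhs => arg 1; rw [← hg.1 x]
      rw [polar_mulVec, sub_self]
    have h2 : ∀ u, evB B₂ c u = 0 → (mat Q g - 1) *ᵥ u = ten (xPart B₂ ε d g u) c := fun u hu => by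
      rw [sub_mulVec, one_mulVec, hS.rad_mulVec hdc hg hu, add_sub_cancel_left]
    rw [h2 _ h1, sub_mulVec, one_mulVec, hg.1, sub_self]
  exact ⟨2, Subtype.ext (Subtype.ext (Units.ext (by
    have := pow_eq_one_of_nilp (p := p) (pow_eq_zero_of_le (show 3 ≤ 4 by norm_num) h3)
    simpa using this)))⟩

end TSet

end CfsgLib.TensorOrth
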