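import Cfsg.Agent.TensorOrth.Central

/-!
# A central element outside `Kr` gives a seed
-/

set_option autoImplicit false
set_option linter.unusedSectionVars false

namespace CfsgLib.TensorOrth

open Matrix Module CfsgLib.Spinor CfsgLib.OrthMax CfsgLib.Forms
open CfsgLib.TensorMax (Idx ten ten_add_left ten_add_right ten_smul_left ten_smul_right ten_eq_zero
  ten_inj_left ten_inj_right)
open CfsgLib.TensorUnitary (ten_induction)

variable {F : Type*} [Field F] [Fintype F] {a b : ℕ} {Q : QuadraticForm F (Idx a b → F)}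
  {B₁ : LinearMap.BilinForm F (Fin a → F)} {B₂ : LinearMap.BilinForm F (Fin b → F)} {ε : F}
  {M : Subgroup (Isom Q)}

theorem ker_induction {c : Fin b → F} {P : (Idx a b → F) → Prop} (h0 : P 0)
    (hadd : ∀ v w, P v → P w → P (v + w)) (h : ∀ x u, B₂ u c = 0 → P (ten x u)) {v : Idx a b → F}
    (hv : evB B₂ c v = 0) : P v := by
  rw [← TensorUnitary.sum_ten_row v]
  exact Finset.sum_induction _ P hadd h0 fun i _ => h _ _ (congrFun hv i)

namespace TSet

variable (hS : TSet Q B₁ B₂ ε)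
include hS

theorem conj_mem_rad {c : Fin b → F} (g : Isom Q) (S : (Fin a → F) ≃ₗ[F] (Fin a → F))
    (hg : ∀ x, mat Q g *ᵥ ten x c = ten (S x) c) {r : Isom Q} (hr : r ∈ Rad Q B₂ c) :
    g * r * g⁻¹ ∈ Rad Q B₂ c := by
  have hgi : ∀ x, mat Q g⁻¹ *ᵥ ten x c = ten (S.symm x) c := fun x => mulVec_injective g (by
    show mat Q g *ᵥ _ = mat Q g *ᵥ _
    rw [mulVec_cancel', hg, LinearEquiv.apply_symm_apply])
  refine ⟨fun x => ?_, fun v hv => ?_⟩
  · rw [mat_mul, mat_mul, ← mulVec_mulVec, ← mulVec_mulVec, hgi, hr.1, hg, LinearEquiv.apply_symm_apply]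
  · obtain ⟨z, hz⟩ := hr.2 _ (hS.evB_mulVec_eq_zero (g := g⁻¹)
      (fun x => ⟨S x, by rw [hgi, LinearEquiv.symm_apply_apply]⟩) hv)
    exact ⟨S z, by rw [mat_mul, mat_mul, ← mulVec_mulVec, ← mulVec_mulVec, hz, mulVec_add, mulVec_cancel', hg]⟩

theorem conj_mem_cen {c : Fin b → F} (g : Isom Q) (S : (Fin a → F) ≃ₗ[F] (Fin a → F))
    (hg : ∀ x, mat Q g *ᵥ ten x c = ten (S x) c) {r : Isom Q} (hr : r ∈ Cen Q B₂ c) :
    g * r * g⁻¹ ∈ Cen Q B₂ c := by
  intro v hv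
  rw [mat_mul, mat_mul, ← mulVec_mulVec, ← mulVec_mulVec, hr _ (hS.evB_mulVec_eq_zero (g := g⁻¹)
    (fun x => ⟨S x, mulVec_injective g (by
      show mat Q g *ᵥ _ = mat Q g *ᵥ _
      rw [mulVec_cancel', hg])⟩) hv), mulVec_cancel']

theorem commutator_mem_cen {c : Fin b → F} {g h : Isom Q} (hg : g ∈ Rad Q B₂ c) (hh : h ∈ Rad Q B₂ c) :
    g * h * g⁻¹ * h⁻¹ ∈ Cen Q B₂ c := by
  intro v hv
  set w := mat Q g⁻¹ *ᵥ (mat Q h⁻¹ *ᵥ v) with hw
  have hfix : ∀ {g : Isom Q}, g ∈ Rad Q B₂ c → ∀ x, ∃ x', mat Q g *ᵥ ten x' c = ten x c :=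
    fun hg x => ⟨x, hg.1 x⟩
  have hwk : evB B₂ c w = 0 := hS.evB_mulVec_eq_zero (hfix ((Rad Q B₂ c).inv_mem hg))
    (hS.evB_mulVec_eq_zero (hfix ((Rad Q B₂ c).inv_mem hh)) hv)
  obtain ⟨p, hp⟩ := hg.2 w hwk
  obtain ⟨q, hq⟩ := hh.2 w hwk
  have hcomm : mat Q g *ᵥ (mat Q h *ᵥ w) = mat Q h *ᵥ (mat Q g *ᵥ w) := by
    rw [hq, hp, mulVec_add, mulVec_add, hp, hq, hg.1, hh.1]
    abel
  simp only [mat_mul, ← mulVec_mulVec]
  rw [← hw, hcomm, hw, mulVec_cancel', mulVec_cancel']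

end TSet

/-- Left root elements at `γ`, acting as `E ⊗ 1`. -/
theorem Ctx.pair_left (hX : Ctx Q B₁ B₂ ε M) {γ z : Fin a → F} (hγ : B₁ γ γ = 0) (hz : B₁ z γ = 0) {k : F}
    (hk : k * (1 + ε) + B₁ z z = 0) (G₂ : Subgroup (GL (Fin b) F)) :
    ∃ g ∈ pairGrp M (rootsAt B₁ ε hX.tset.f₁ hγ γ) G₂,
      ∀ x y, mat Q g *ᵥ ten x y = ten (esie B₁ ε γ z k x) y := by
  obtain ⟨e, he, hev⟩ := hX.left (hX.tset.f₁.eGL_mem hγ hz hk)
  refine ⟨e, ⟨he, _, ⟨z, k, hz, hz, hk, hX.tset.f₁.eGL_mulVec hγ hz k⟩, 1, G₂.one_mem, fun x y => ?_⟩,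
    fun x y => by rw [hev, hX.tset.f₁.eGL_mulVec]⟩
  rw [hev, Units.val_one, one_mulVec]

/-- A matrix in `GL` as a linear equivalence. -/
noncomputable def glEquiv {n : ℕ} (E : GL (Fin n) F) : (Fin n → F) ≃ₗ[F] (Fin n → F) where
  toFun x := (E : Matrix (Fin n) (Fin n) F) *ᵥ x
  map_add' x y := mulVec_add _ x y
  map_smul' k x := mulVec_smul _ k x
  invFun x := ((E⁻¹ : GL (Fin n) F) : Matrix (Fin n) (Fin n) F) *ᵥ x
  left_inv x := by show _ *ᵥ (_ *ᵥ x) = x; rw [mulVec_mulVec, Units.inv_mul, one_mulVec]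
  right_inv x := by show _ *ᵥ (_ *ᵥ x) = x; rw [mulVec_mulVec, Units.mul_inv, one_mulVec]

@[simp] theorem glEquiv_apply {n : ℕ} (E : GL (Fin n) F) (x : Fin n → F) :
    glEquiv E x = (E : Matrix (Fin n) (Fin n) F) *ᵥ x := rfl

/-- A central element outside `Kr` gives a right seed. -/
theorem Ctx.seed_of_cen (hX : Ctx Q B₁ B₂ ε M) {c : Fin b → F} (hc0 : c ≠ 0) (hc : B₂ c c = 0)
    (hne : ¬ M ⊓ Cen Q B₂ c ≤ Kr Q) : ∃ γ v, Seed M tenB.flip B₂ B₁ c γ v := by
  have hS := hX.tset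
  have h₁ := hS.f₁
  have h₂ := hS.f₂
  have ha : 0 < a := by have := hX.a_two; omega
  have hb : 0 < b := by have := hX.b_three; omega
  obtain ⟨d, hd, hdc⟩ := h₂.exists_partner hc0 hc
  obtain ⟨γ, hγ0, hγ⟩ := hX.exists_iso_left
  obtain ⟨δ, hδ, hδγ⟩ := h₁.exists_partner hγ0 hγ
  set p := ringChar F
  have : Fact p.Prime := ⟨CharP.char_is_prime F p⟩
  set U := pairGrp M (rootsAt B₁ ε h₁ hγ γ) (⊥ : Subgroup (GL (Fin b) F)) with hUdef
  have hU : IsPGroup p U := pairGrp_isPGroup (rootsAt_isPGroup h₁ ha hγ γ) IsPGroup.of_bot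
  have hinv : ∀ g ∈ U, ∀ r ∈ M ⊓ Cen Q B₂ c, g * r * g⁻¹ ∈ M ⊓ Cen Q B₂ c := by
    rintro g ⟨hg, E, -, E', hE', hgv⟩ r ⟨hr, hrc⟩
    refine ⟨M.mul_mem (M.mul_mem hg hr) (M.inv_mem hg), hS.conj_mem_cen g (glEquiv E) (fun x => ?_) hrc⟩
    rw [hgv, (Subgroup.mem_bot.1 hE' : E' = 1), Units.val_one, one_mulVec, glEquiv_apply]
  obtain ⟨m, ⟨hmM, hmC⟩, hmK, hfix⟩ :=
    hS.exists_fixed ha hb hc0 hc hdc (inf_le_right.trans (cen_le_rad hc)) hU hinv hne
  set A := (xPart B₂ ε d m).comp (tenB.flip d) with hA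
  have hmd : ∀ x, mat Q m *ᵥ ten x d = ten x d + ten (A x) c := hS.cen_mulVec hd hdc hmC
  let i₀ : Fin a := ⟨0, ha⟩
  have hfm : FixMod B₁ ε γ A := by
    intro z k hz hk
    obtain ⟨g, hg, hgv⟩ := hX.pair_left hγ hz hk (⊥ : Subgroup (GL (Fin b) F))
    obtain ⟨T, ν, hTc, -, hν, hrel⟩ := hfix g hg
    obtain ⟨μ, -, hμ⟩ := split_ten ha (A := fun x => esie B₁ ε γ z k x) (y := T d - d)
      (D := fun x => esie B₁ ε γ z k (A x) - A (esie B₁ ε γ z k x))
      ⟨δ, fun h => by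
        have := h₁.esie_isom hγ hz hk δ γ
        rw [h, map_zero, LinearMap.zero_apply, hδγ] at this
        exact zero_ne_one this⟩ hc0 fun x => by
        have h1 := hrel (ten x d)
        rw [hmd, mulVec_add, hgv, hgv, hmd, mulVec_add, hν, hν, hTc] at h1
        rw [show ten (esie B₁ ε γ z k x) (T d - d) = ten (esie B₁ ε γ z k x) (T d) - ten (esie B₁ ε γ z k x) d
            from map_sub (tenB _) _ _,
          show ten (esie B₁ ε γ z k (A x) - A (esie B₁ ε γ z k x)) c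
            = ten (esie B₁ ε γ z k (A x)) c - ten (A (esie B₁ ε γ z k x)) c
            from LinearMap.map_sub₂ tenB _ _ c]
        linear_combination (norm := module) -h1
    exact ⟨μ, hμ⟩
  obtain ⟨l, v, σ, hvγ, hvδ, hAv⟩ := h₁.shape hX.shapeOK hγ hδ hδγ hfm
  have hcd : B₂ c d = ε := by rw [h₂.symm, hdc, mul_one]
  have hAx : ∀ x, B₁ (A x) x = 0 := by
    intro x
    have h := quad_mulVec Q m (ten x d)
    rw [hmd, QuadraticMap.map_add (⇑Q), hS.quad x d (Or.inr hd), hS.quad _ c (Or.inr hc), hS.polar, hdc,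
      mul_one, zero_add, zero_add] at h
    exact h₁.orth_comm h
  have hγδ : B₁ γ δ = ε := by rw [h₁.symm, hδγ, mul_one]
  have hσ : σ = 0 := by
    have h := hAx δ
    rw [hAv] at h
    simp [hδ, hδγ, hγδ, hvδ, h₁.orth_comm hvδ] at h
    exact h.resolve_right h₁.eps_ne
  have hl : -l * (1 + ε) + B₂ 0 0 = 0 := by
    rcases h₁.kind with ⟨he, h2⟩ | ⟨he, -⟩
    · have hn : 3 ≤ a := by
        rcases hX.first_ok with h | h
        · exact h
        · have h3 := h (γ + δ)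
          simp only [map_add, LinearMap.add_apply, hγ, hδ, hδγ, hγδ, he] at h3
          exact absurd (show (2 : F) = 0 by linear_combination h3) h2
      obtain ⟨e, hec, hed, hee⟩ := h₁.exists_nonsingular_pair h2 he hγ hδ hδγ hn
      have h := hAx e
      rw [hAv] at h
      simp [hec, h₁.orth_comm hec] at h
      simp [h.resolve_right hee]
    · simp [he]
  have hv0 : v ≠ 0 := by
    intro hv
    refine hmK (hS.mem_Kr_of_ten ha hb LinearMap.id (LinearMap.id + l • (B₂.flip c).smulRight c) fun x y => ?_)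
    have hy : evB B₂ c (ten x (y - B₂ y c • d)) = 0 := by simp [hdc]
    have e1 : ten x y = ten x (y - B₂ y c • d) + B₂ y c • ten x d := by
      rw [← ten_smul_right, ← ten_add_right, sub_add_cancel]
    conv_lhs => rw [e1]
    rw [mulVec_add, mulVec_smul, hmC _ hy, hmd, hAv, hσ, hv, smul_add, ← add_assoc, ← e1]
    simp [ten_smul_left, ten_add_right, ten_smul_right, smul_smul, mul_comm]
  obtain ⟨q, hq, hqv⟩ := hX.right (h₂.eGL_mem hc (show B₂ 0 c = 0 by simp) hl)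
  refine ⟨γ, v, hc0, hc, hγ0, hγ, hvγ, fun s hs => ?_, ?_⟩
  · have h := congrArg (fun w => B₁ w δ) hs
    simp [hγδ, hvδ, h₁.eps_ne] at h
    exact hv0 (by rw [← hs, h, zero_smul])
  -- `q * m` is the Eichler element
  intro g hg
  have hgm : g = q * m := by
    refine mat_ext Q (hg.trans (TensorUnitary.mat_ext_ten fun x y => ?_))
    have hy : evB B₂ c (ten x (y - B₂ y c • d)) = 0 := by simp [hdc]
    have e1 : ten x y = ten x (y - B₂ y c • d) + B₂ y c • ten x d := by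
      rw [← ten_smul_right, ← ten_add_right, sub_add_cancel]
    have hR : mat Q (q * m) *ᵥ ten x y
        = ten x y + (B₂ y c * B₁ x γ) • ten v c - (B₂ y c * B₁ x v) • ten γ c := by
      rw [mat_mul, ← mulVec_mulVec]
      conv_lhs => rw [e1]
      rw [mulVec_add, mulVec_smul, hmC _ hy, hmd, mulVec_add, mulVec_smul, mulVec_add, hqv, hqv, hqv,
        h₂.eGL_mulVec, h₂.eGL_mulVec, h₂.eGL_mulVec, esie_apply, esie_apply, esie_apply, hAv, hσ]
      conv_rhs => rw [e1]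
      simp [hdc, hc, ten_add_left, ten_add_right, ten_smul_left, ten_smul_right, sub_eq_add_neg,
        neg_smul, mul_comm, smul_smul]
      simp only [show ∀ p : Fin a → F, ten (-p) c = -ten p c from fun p => LinearMap.map_neg₂ tenB p c,
        show ∀ p : Fin b → F, ten x (-p) = -ten x p from fun p => map_neg (tenB x) p,
        ten_smul_left, ten_smul_right]
      module
    rw [hR, eich_mulVec]
    simp only [LinearMap.flip_apply, tenB_apply, hS.polar, hS.quad v c (Or.inr hc), zero_mul, zero_smul,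
      sub_zero, h₁.symm γ x, h₁.symm v x, h₂.symm c y]
    match_scalars <;> first
      | rfl
      | linear_combination (B₁ x v * B₂ y c) * h₁.eps_sq
      | linear_combination (-(B₁ x v * B₂ y c)) * h₁.eps_sq
      | linear_combination (B₁ x γ * B₂ y c) * h₁.eps_sq
      | linear_combination (-(B₁ x γ * B₂ y c)) * h₁.eps_sq
  rw [hgm]
  exact M.mul_mem hq hmM

end CfsgLib.TensorOrth
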