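import Cfsg.Agent.TensorOrth.Generate
import Cfsg.Agent.TensorUnitary.Product
import Cfsg.Agent.TensorUnitary.FixStab

/-!
# Orthogonal spaces on `F^a ⊗ F^b`
-/

set_option autoImplicit false
set_option linter.unusedSectionVars false

namespace CfsgLib.TensorOrth

open Matrix Module CfsgLib.Spinor CfsgLib.OrthMax CfsgLib.OmegaOrbits
open CfsgLib.TensorMax (Idx ten krG ten_add_left ten_add_right ten_smul_left
  ten_smul_right kron_mulVec_ten krG_val mem_kroneckerSubgroup_iff ten_eq_zero)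
open CfsgLib.TensorUnitary (row sum_ten_row ten_induction mat_ext_ten rowsIn finrank_rowsIn ten_mem_rowsIn)
open scoped Kronecker

variable {F : Type*} [Field F] {a b : ℕ}

/-- The pure tensor, bilinear. -/
def tenB : (Fin a → F) →ₗ[F] (Fin b → F) →ₗ[F] (Idx a b → F) :=
  LinearMap.mk₂ F ten ten_add_left ten_smul_left ten_add_right ten_smul_right

@[simp] theorem tenB_apply (x : Fin a → F) (y : Fin b → F) : tenB x y = ten x y := rfl

theorem tenB_span (P : Submodule F (Idx a b → F)) (hP : ∀ x y, ten x y ∈ P) : P = ⊤ :=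
  eq_top_iff.2 fun v _ => ten_induction (P := (· ∈ P)) (fun _ _ => P.add_mem) P.zero_mem hP v

/-- An orthogonal space decomposed as a tensor product. -/
structure TSet (Q : QuadraticForm F (Idx a b → F)) (B₁ : LinearMap.BilinForm F (Fin a → F))
    (B₂ : LinearMap.BilinForm F (Fin b → F)) (ε : F) : Prop where
  nondeg : (QuadraticMap.polarBilin Q).Nondegenerate
  f₁ : Fac B₁ ε
  f₂ : Fac B₂ ε
  polar : ∀ x x' y y', QuadraticMap.polar (⇑Q) (ten x y) (ten x' y') = B₁ x x' * B₂ y y'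
  quad : ∀ x y, B₁ x x = 0 ∨ B₂ y y = 0 → Q (ten x y) = 0

variable {Q : QuadraticForm F (Idx a b → F)} {B₁ : LinearMap.BilinForm F (Fin a → F)}
  {B₂ : LinearMap.BilinForm F (Fin b → F)} {ε : F}

/-- The isometries preserving the decomposition. -/
abbrev Kr (Q : QuadraticForm F (Idx a b → F)) : Subgroup (Isom Q) :=
  (Cfsg.Geo.kroneckerSubgroup a b F).comap (Cfsg.isometryGroup F ⇑Q).subtype

namespace TSet

variable (hS : TSet Q B₁ B₂ ε)
include hS

theorem tens : Tens Q B₁ B₂ tenB := ⟨hS.polar, hS.quad, tenB_span⟩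

theorem polar_eq_of_ten {g : Matrix (Idx a b) (Idx a b) F}
    (h : ∀ x y x' y', QuadraticMap.polar (⇑Q) (g *ᵥ ten x y) (g *ᵥ ten x' y') = B₁ x x' * B₂ y y')
    (u v : Idx a b → F) : QuadraticMap.polar (⇑Q) (g *ᵥ u) (g *ᵥ v) = QuadraticMap.polar (⇑Q) u v := by
  induction u using ten_induction with
  | hadd u w hu hw => rw [mulVec_add, QuadraticMap.polar_add_left, hu, hw, QuadraticMap.polar_add_left]
  | h0 => rw [mulVec_zero, QuadraticMap.polar_zero_left, QuadraticMap.polar_zero_left]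
  | h x y =>
    induction v using ten_induction with
    | hadd u w hu hw => rw [mulVec_add, QuadraticMap.polar_add_right, hu, hw, QuadraticMap.polar_add_right]
    | h0 => rw [mulVec_zero, QuadraticMap.polar_zero_right, QuadraticMap.polar_zero_right]
    | h x' y' => rw [h, hS.polar]

/-- The value at a pure tensor depends only on the two factor values. -/
theorem quad_ten_eq {x x' : Fin a → F} {y y' : Fin b → F}
    (h : B₁ x' x' * B₂ y' y' = B₁ x x * B₂ y y) : Q (ten x' y') = Q (ten x y) := by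
  rcases hS.f₁.kind with ⟨-, h2⟩ | ⟨-, ha⟩
  · refine mul_left_cancel₀ h2 ?_
    rw [← polar_self', ← polar_self', hS.polar, hS.polar, h]
  · rw [hS.quad _ _ (Or.inl (ha x')), hS.quad _ _ (Or.inl (ha x))]

theorem quad_mulVec_of_factor {S : GL (Fin a) F} {T : GL (Fin b) F}
    (h : ∀ x x' y y', B₁ ((S : Matrix (Fin a) (Fin a) F) *ᵥ x) ((S : Matrix (Fin a) (Fin a) F) *ᵥ x') *
      B₂ ((T : Matrix (Fin b) (Fin b) F) *ᵥ y) ((T : Matrix (Fin b) (Fin b) F) *ᵥ y') = B₁ x x' * B₂ y y')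
    (v : Idx a b → F) : Q ((krG (S, T) : Matrix (Idx a b) (Idx a b) F) *ᵥ v) = Q v := by
  have hp : ∀ u w, QuadraticMap.polar (⇑Q) ((krG (S, T) : Matrix (Idx a b) (Idx a b) F) *ᵥ u)
      ((krG (S, T) : Matrix (Idx a b) (Idx a b) F) *ᵥ w) = QuadraticMap.polar (⇑Q) u w :=
    hS.polar_eq_of_ten fun x y x' y' => by
      rw [krG_val, kron_mulVec_ten, kron_mulVec_ten, hS.polar, h]
  induction v using ten_induction with
  | hadd u w hu hw =>
    rw [mulVec_add, QuadraticMap.map_add (⇑Q), QuadraticMap.map_add (⇑Q), hu, hw, hp]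
  | h0 => rw [mulVec_zero]
  | h x y =>
    rw [krG_val, kron_mulVec_ten]
    exact hS.quad_ten_eq (h x x y y)

/-- A pair of factor isometries up to opposite multipliers, in the isometry group. -/
noncomputable def krIso (S : GL (Fin a) F) (T : GL (Fin b) F)
    (h : ∀ x x' y y', B₁ ((S : Matrix (Fin a) (Fin a) F) *ᵥ x) ((S : Matrix (Fin a) (Fin a) F) *ᵥ x') *
      B₂ ((T : Matrix (Fin b) (Fin b) F) *ᵥ y) ((T : Matrix (Fin b) (Fin b) F) *ᵥ y') = B₁ x x' * B₂ y y') :
    Isom Q :=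
  ⟨krG (S, T), fun x _ => hS.quad_mulVec_of_factor h x⟩

theorem left_ok {S : GL (Fin a) F} (h : S ∈ isoG B₁) (x x' : Fin a → F) (y y' : Fin b → F) :
    B₁ ((S : Matrix (Fin a) (Fin a) F) *ᵥ x) ((S : Matrix (Fin a) (Fin a) F) *ᵥ x') *
      B₂ (((1 : GL (Fin b) F) : Matrix (Fin b) (Fin b) F) *ᵥ y)
        (((1 : GL (Fin b) F) : Matrix (Fin b) (Fin b) F) *ᵥ y') = B₁ x x' * B₂ y y' := by
  rw [h, Units.val_one, one_mulVec, one_mulVec]

theorem right_ok {T : GL (Fin b) F} (h : T ∈ isoG B₂) (x x' : Fin a → F) (y y' : Fin b → F) :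
    B₁ (((1 : GL (Fin a) F) : Matrix (Fin a) (Fin a) F) *ᵥ x)
        (((1 : GL (Fin a) F) : Matrix (Fin a) (Fin a) F) *ᵥ x') *
      B₂ ((T : Matrix (Fin b) (Fin b) F) *ᵥ y) ((T : Matrix (Fin b) (Fin b) F) *ᵥ y') = B₁ x x' * B₂ y y' := by
  rw [h, Units.val_one, one_mulVec, one_mulVec]

end TSet

/-- Squares lie in `Ω` in odd characteristic. -/
theorem sq_mem_omega {F : Type*} [Field F] [Fintype F] {ι : Type} [Fintype ι] [DecidableEq ι]
    {Q : QuadraticForm F (ι → F)} (h2 : (2 : F) ≠ 0) (hQ : (QuadraticMap.polarBilin Q).Nondegenerate)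
    (g : Isom Q) : g * g ∈ Cfsg.Omega F ⇑Q := by
  obtain ⟨vs, hvs⟩ := exists_isReflProd h2 hQ g
  refine mem_omega_of_isReflProd h2 (hvs.mul hvs) ?_ ?_
  · simp [Nat.even_add]
  · rw [List.map_append, List.prod_append]; exact ⟨_, rfl⟩

/-- An isometry fixing a totally singular subspace of half the dimension has even parity. -/
theorem mem_omega_of_stab {F : Type*} [Field F] [Fintype F] {ι : Type} [Fintype ι] [DecidableEq ι]
    {Q : QuadraticForm F (ι → F)} (h2 : (2 : F) = 0) (hQ : (QuadraticMap.polarBilin Q).Nondegenerate)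
    (hn : 5 ≤ Fintype.card ι) {g : Isom Q} {W : Submodule F (ι → F)} {m : ℕ}
    (hm : Fintype.card ι = 2 * m) (hW : finrank F W = m) (hW0 : ∀ w ∈ W, Q w = 0)
    (hg : ∀ w ∈ W, mat Q g *ᵥ w ∈ W) : g ∈ Cfsg.Omega F ⇑Q := by
  have hexc : Nat.card F ≠ 2 ∨ Fintype.card ι ≠ 4 := Or.inr (by omega)
  obtain ⟨vs, hvs⟩ := Forms.exists_isReflProd_finite hQ hexc g
  refine (mem_omega_iff_even hQ hexc hvs).2 ⟨?_, ?_⟩
  · have h := even_finrank_inf_gmap hQ hm hW hW0 hW hW0 vs g hvs
    rw [gmap_eq_of_le g hg, inf_idem] at h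
    exact (Nat.even_add.1 h).1 ⟨_, rfl⟩
  · have : CharP F 2 := CharTwo.of_one_ne_zero_of_two_eq_zero one_ne_zero h2
    exact FiniteField.isSquare_of_char_two (ringChar.eq F 2) _

theorem Fac.exists_lagrangian {n : ℕ} {B : LinearMap.BilinForm F (Fin n → F)} (hB : Fac B ε)
    (ha : ∀ x, B x x = 0) :
    ∃ W : Submodule F (Fin n → F), 2 * finrank F W = n ∧ ∀ x ∈ W, ∀ y ∈ W, B x y = 0 := by
  suffices h : ∀ j, ∀ W : Submodule F (Fin n → F), n - finrank F W ≤ j → (∀ x ∈ W, ∀ y ∈ W, B x y = 0) →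
      ∃ W : Submodule F (Fin n → F), 2 * finrank F W = n ∧ ∀ x ∈ W, ∀ y ∈ W, B x y = 0 from
    h n ⊥ (Nat.sub_le _ _) fun x hx y _ => by simp [(Submodule.mem_bot F).1 hx]
  intro j
  induction j with
  | zero =>
    intro W hj hW
    have hle : W ≤ B.orthogonal W := fun x hx y hy => hW y hy x hx
    have h1 := Submodule.finrank_mono hle
    rw [hB.finrank_orth] at h1
    exact ⟨W, by omega, hW⟩
  | succ j ih =>
    intro W hj hW
    have hle : W ≤ B.orthogonal W := fun x hx y hy => hW y hy x hx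
    by_cases hge : B.orthogonal W ≤ W
    · have h1 := Submodule.finrank_mono hle
      have h2 := Submodule.finrank_mono hge
      rw [hB.finrank_orth] at h1 h2
      exact ⟨W, by omega, hW⟩
    obtain ⟨v, hv, hvW⟩ := SetLike.not_le_iff_exists.1 hge
    have hv' : ∀ y ∈ W, B y v = 0 := hv
    refine ih (W ⊔ Submodule.span F {v}) ?_ ?_
    · have hlt : W < W ⊔ Submodule.span F {v} := lt_of_le_of_ne le_sup_left fun h =>
        hvW (h.symm ▸ Submodule.mem_sup_right (Submodule.mem_span_singleton_self v))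
      have := Submodule.finrank_lt_finrank_of_lt hlt
      omega
    · intro x hx y hy
      obtain ⟨x', hx', p, hp, rfl⟩ := Submodule.mem_sup.1 hx
      obtain ⟨y', hy', q, hq, rfl⟩ := Submodule.mem_sup.1 hy
      obtain ⟨r, rfl⟩ := Submodule.mem_span_singleton.1 hp
      obtain ⟨s, rfl⟩ := Submodule.mem_span_singleton.1 hq
      simp [hW x' hx' y' hy', hv' x' hx', hB.orth_comm (hv' y' hy'), ha v]

/-- The vectors whose columns lie in `H`. -/
def colsIn (b : ℕ) (H : Submodule F (Fin a → F)) : Submodule F (Idx a b → F) where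
  carrier := {v | ∀ j, (fun i => v (i, j)) ∈ H}
  add_mem' {u v} hu hv j := H.add_mem (hu j) (hv j)
  zero_mem' _ := H.zero_mem
  smul_mem' c {v} hv j := H.smul_mem c (hv j)

theorem finrank_colsIn (H : Submodule F (Fin a → F)) :
    finrank F (colsIn b H) = b * finrank F H := by
  let e : colsIn b H ≃ₗ[F] (Fin b → H) :=
    { toFun := fun v j => ⟨fun i => v.1 (i, j), v.2 j⟩
      map_add' := fun u v => rfl
      map_smul' := fun c v => rfl
      invFun := fun w => ⟨fun p => (w p.2 : Fin a → F) p.1, fun j => (w j).2⟩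
      left_inv := fun v => rfl
      right_inv := fun w => rfl }
  rw [e.finrank_eq, Module.finrank_pi_fintype, Finset.sum_const, Finset.card_univ, Fintype.card_fin,
    smul_eq_mul]

namespace TSet

variable [Fintype F] (hS : TSet Q B₁ B₂ ε)
include hS

theorem rowsIn_singular (ha : ∀ x, B₁ x x = 0) {H : Submodule F (Fin b → F)}
    (hH : ∀ x ∈ H, ∀ y ∈ H, B₂ x y = 0) {v : Idx a b → F} (hv : v ∈ rowsIn a H) : Q v = 0 := by
  have key : ∀ s : Finset (Fin a), Q (∑ i ∈ s, ten (Pi.single i 1) (row v i)) = 0 := by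
    classical
    intro s
    induction s using Finset.induction with
    | empty => simp
    | insert i s hi ih =>
      rw [Finset.sum_insert hi, QuadraticMap.map_add (⇑Q), ih, hS.quad _ _ (Or.inl (ha _))]
      have : ∀ s : Finset (Fin a), QuadraticMap.polar (⇑Q) (ten (Pi.single i 1) (row v i))
          (∑ j ∈ s, ten (Pi.single j 1) (row v j)) = 0 := by
        intro s
        induction s using Finset.induction with
        | empty => simp [QuadraticMap.polar_zero_right]
        | insert j s hj ihj =>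
          rw [Finset.sum_insert hj, QuadraticMap.polar_add_right, ihj, hS.polar, hH _ (hv i) _ (hv j),
            mul_zero, add_zero]
      rw [this s]; simp
  rw [← sum_ten_row v]
  exact key Finset.univ

theorem colsIn_singular (ha : ∀ x, B₁ x x = 0) {H : Submodule F (Fin a → F)}
    (hH : ∀ x ∈ H, ∀ y ∈ H, B₁ x y = 0) {v : Idx a b → F} (hv : v ∈ colsIn b H) : Q v = 0 := by
  classical
  have hsum : v = ∑ j, ten (fun i => v (i, j)) (Pi.single j 1) := by
    funext ⟨i, k⟩
    rw [Finset.sum_apply, Finset.sum_eq_single k]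
    · simp [ten]
    · intro j _ hj; simp [ten, Ne.symm hj]
    · simp
  have key : ∀ s : Finset (Fin b), Q (∑ j ∈ s, ten (fun i => v (i, j)) (Pi.single j 1)) = 0 := by
    intro s
    induction s using Finset.induction with
    | empty => simp
    | insert i s hi ih =>
      rw [Finset.sum_insert hi, QuadraticMap.map_add (⇑Q), ih, hS.quad _ _ (Or.inl (ha _))]
      have : ∀ s : Finset (Fin b), QuadraticMap.polar (⇑Q) (ten (fun k => v (k, i)) (Pi.single i 1))
          (∑ j ∈ s, ten (fun k => v (k, j)) (Pi.single j 1)) = 0 := by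
        intro s
        induction s using Finset.induction with
        | empty => simp [QuadraticMap.polar_zero_right]
        | insert j s hj ihj =>
          rw [Finset.sum_insert hj, QuadraticMap.polar_add_right, ihj, hS.polar, hH _ (hv i) _ (hv j),
            zero_mul, add_zero]
      rw [this s]; simp
  rw [hsum]
  exact key Finset.univ

/-- Left factor elements lie in `Ω`. -/
theorem left_mem_omega (hn : 5 ≤ a * b) {S : GL (Fin a) F} (hSm : S ∈ fgrp B₁ ε) :
    ∃ g ∈ Cfsg.Omega F ⇑Q, (g : GL (Idx a b) F) = krG (S, 1) := by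
  let U : Subgroup (GL (Fin a) F) :=
    ((Cfsg.Omega F ⇑Q).map (Cfsg.isometryGroup F ⇑Q).subtype).comap
      (krG.comp (MonoidHom.inl (GL (Fin a) F) (GL (Fin b) F)))
  suffices h : fgrp B₁ ε ≤ U by
    obtain ⟨g, hg, he⟩ := h hSm
    exact ⟨g, hg, he⟩
  refine (Subgroup.closure_le _).2 (Set.union_subset ?_ ?_)
  · rintro S ⟨c, z, k, hc, hz, hk, hSv⟩
    have hiso : S ∈ isoG B₁ := hS.f₁.rootSet_isom ⟨c, z, k, hc, hz, hk, hSv⟩
    refine ⟨hS.krIso S 1 (hS.left_ok hiso), ?_, rfl⟩
    by_cases h2 : (2 : F) = 0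
    · have ha : ∀ x, B₁ x x = 0 := by
        rcases hS.f₁.kind with ⟨-, h⟩ | ⟨-, h⟩
        · exact absurd h2 h
        · exact h
      have ha₂ : ∀ x, B₂ x x = 0 := by
        rcases hS.f₂.kind with ⟨-, h⟩ | ⟨-, h⟩
        · exact absurd h2 h
        · exact h
      obtain ⟨H, hH, hH0⟩ := hS.f₂.exists_lagrangian ha₂
      refine mem_omega_of_stab h2 hS.nondeg (by simpa [Fintype.card_prod] using hn)
        (W := rowsIn a H) (m := a * finrank F H) (by
          rw [Fintype.card_prod, Fintype.card_fin, Fintype.card_fin, mul_left_comm, hH])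
        (finrank_rowsIn H) (fun w hw => hS.rowsIn_singular ha hH0 hw) fun w hw i => ?_
      show TensorUnitary.row ((krG (S, (1 : GL (Fin b) F))).val *ᵥ w) i ∈ H
      rw [krG_val, TensorUnitary.row_kron_mulVec, Units.val_one]
      exact H.sum_mem fun j _ => H.smul_mem _ (by rw [one_mulVec]; exact hw j)
    · set z' := (2 : F)⁻¹ • z with hz'
      set k' := (k + ε * B₁ z' z') / 2 with hk'
      have hz'c : B₁ z' c = 0 := by simp [hz', hz]
      have hk2 : k' * (1 + ε) + B₁ z' z' = 0 := by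
        have e : 4 * B₁ z' z' = B₁ z z := by
          simp [hz']; field_simp; ring
        rw [hk']
        rcases hS.f₁.kind with ⟨he, -⟩ | ⟨he, ha⟩
        · rw [he] at hk ⊢; field_simp; linear_combination hk + e
        · rw [he, ha]; ring
      have hiso' : hS.f₁.eGL hc hz'c k' ∈ isoG B₁ := hS.f₁.rootSet_isom (hS.f₁.eGL_mem_rootSet hc hz'c hk2)
      have heq : S = hS.f₁.eGL hc hz'c k' * hS.f₁.eGL hc hz'c k' := by
        refine Units.ext (Matrix.ext_iff_mulVec.2 fun x => ?_)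
        rw [hSv, Units.val_mul, ← mulVec_mulVec, hS.f₁.eGL_mulVec, hS.f₁.eGL_mulVec,
          hS.f₁.esie_comp hc hz'c hz'c]
        congr 2
        · rw [hz', ← add_smul, ← two_mul, mul_inv_cancel₀ h2, one_smul]
        · rw [hk']; field_simp; ring
      have e2 : hS.krIso S 1 (hS.left_ok hiso) = hS.krIso _ 1 (hS.left_ok hiso') * hS.krIso _ 1 (hS.left_ok hiso') :=
        Subtype.ext (by
          show krG (S, 1) = krG (_, 1) * krG (_, 1)
          rw [← map_mul, Prod.mk_mul_mk, one_mul, ← heq])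
      rw [SetLike.mem_coe, e2]
      exact sq_mem_omega h2 hS.nondeg _
  · rintro S ⟨g, hg, h, hh, rfl⟩
    let G := hS.krIso g 1 (hS.left_ok hg)
    let H := hS.krIso h 1 (hS.left_ok hh)
    refine ⟨G * H * G⁻¹ * H⁻¹, Subgroup.commutator_mem_commutator (Subgroup.mem_top G) (Subgroup.mem_top H), ?_⟩
    show krG (g, 1) * krG (h, 1) * (krG (g, 1))⁻¹ * (krG (h, 1))⁻¹ = krG (g * h * g⁻¹ * h⁻¹, 1)
    simp only [← map_mul, ← map_inv, Prod.mk_mul_mk, Prod.inv_mk, inv_one, mul_one]

/-- Right factor elements lie in `Ω`. -/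
theorem right_mem_omega (hn : 5 ≤ a * b) {T : GL (Fin b) F} (hTm : T ∈ fgrp B₂ ε) :
    ∃ g ∈ Cfsg.Omega F ⇑Q, (g : GL (Idx a b) F) = krG (1, T) := by
  let U : Subgroup (GL (Fin b) F) :=
    ((Cfsg.Omega F ⇑Q).map (Cfsg.isometryGroup F ⇑Q).subtype).comap
      (krG.comp (MonoidHom.inr (GL (Fin a) F) (GL (Fin b) F)))
  suffices h : fgrp B₂ ε ≤ U by
    obtain ⟨g, hg, he⟩ := h hTm
    exact ⟨g, hg, he⟩
  refine (Subgroup.closure_le _).2 (Set.union_subset ?_ ?_)
  · rintro S ⟨c, z, k, hc, hz, hk, hSv⟩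
    have hiso : S ∈ isoG B₂ := hS.f₂.rootSet_isom ⟨c, z, k, hc, hz, hk, hSv⟩
    refine ⟨hS.krIso 1 S (hS.right_ok hiso), ?_, rfl⟩
    by_cases h2 : (2 : F) = 0
    · have ha : ∀ x, B₁ x x = 0 := by
        rcases hS.f₁.kind with ⟨-, h⟩ | ⟨-, h⟩
        · exact absurd h2 h
        · exact h
      obtain ⟨H, hH, hH0⟩ := hS.f₁.exists_lagrangian ha
      refine mem_omega_of_stab h2 hS.nondeg (by simpa [Fintype.card_prod] using hn)
        (W := colsIn b H) (m := b * finrank F H) (by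
          rw [Fintype.card_prod, Fintype.card_fin, Fintype.card_fin, mul_left_comm, hH, mul_comm])
        (finrank_colsIn H) (fun w hw => hS.colsIn_singular ha hH0 hw) fun w hw j => ?_
      show (fun i => ((krG ((1 : GL (Fin a) F), S) : Matrix (Idx a b) (Idx a b) F) *ᵥ w) (i, j)) ∈ H
      have e : (fun i => ((krG ((1 : GL (Fin a) F), S) : Matrix (Idx a b) (Idx a b) F) *ᵥ w) (i, j))
          = ∑ l, (S : Matrix (Fin b) (Fin b) F) j l • (fun i => w (i, l)) := by
        funext i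
        simp only [krG_val, Units.val_one, mulVec, dotProduct, kroneckerMap_apply, Fintype.sum_prod_type,
          Finset.sum_apply, Pi.smul_apply, smul_eq_mul]
        rw [Finset.sum_eq_single i]
        · simp
        · intro i' _ hi'; simp [Matrix.one_apply_ne (Ne.symm hi')]
        · simp
      rw [e]
      exact H.sum_mem fun l _ => H.smul_mem _ (hw l)
    · set z' := (2 : F)⁻¹ • z with hz'
      set k' := (k + ε * B₂ z' z') / 2 with hk'
      have hz'c : B₂ z' c = 0 := by simp [hz', hz]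
      have hk2 : k' * (1 + ε) + B₂ z' z' = 0 := by
        have e : 4 * B₂ z' z' = B₂ z z := by
          simp [hz']; field_simp; ring
        rw [hk']
        rcases hS.f₂.kind with ⟨he, -⟩ | ⟨he, ha⟩
        · rw [he] at hk ⊢; field_simp; linear_combination hk + e
        · rw [he, ha]; ring
      have hiso' : hS.f₂.eGL hc hz'c k' ∈ isoG B₂ := hS.f₂.rootSet_isom (hS.f₂.eGL_mem_rootSet hc hz'c hk2)
      have heq : S = hS.f₂.eGL hc hz'c k' * hS.f₂.eGL hc hz'c k' := by
        refine Units.ext (Matrix.ext_iff_mulVec.2 fun x => ?_)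
        rw [hSv, Units.val_mul, ← mulVec_mulVec, hS.f₂.eGL_mulVec, hS.f₂.eGL_mulVec,
          hS.f₂.esie_comp hc hz'c hz'c]
        congr 2
        · rw [hz', ← add_smul, ← two_mul, mul_inv_cancel₀ h2, one_smul]
        · rw [hk']; field_simp; ring
      have e2 : hS.krIso 1 S (hS.right_ok hiso) = hS.krIso 1 _ (hS.right_ok hiso') * hS.krIso 1 _ (hS.right_ok hiso') :=
        Subtype.ext (by
          show krG (1, S) = krG (1, _) * krG (1, _)
          rw [← map_mul, Prod.mk_mul_mk, one_mul, ← heq])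
      rw [SetLike.mem_coe, e2]
      exact sq_mem_omega h2 hS.nondeg _
  · rintro S ⟨g, hg, h, hh, rfl⟩
    let G := hS.krIso 1 g (hS.right_ok hg)
    let H := hS.krIso 1 h (hS.right_ok hh)
    refine ⟨G * H * G⁻¹ * H⁻¹, Subgroup.commutator_mem_commutator (Subgroup.mem_top G) (Subgroup.mem_top H), ?_⟩
    show krG (1, g) * krG (1, h) * (krG (1, g))⁻¹ * (krG (1, h))⁻¹ = krG (1, g * h * g⁻¹ * h⁻¹)
    simp only [← map_mul, ← map_inv, Prod.mk_mul_mk, Prod.inv_mk, inv_one, mul_one]

theorem lifts (hn : 5 ≤ a * b) {M : Subgroup (Isom Q)}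
    (hM : ∀ g ∈ Cfsg.Omega F ⇑Q, g ∈ Kr Q → g ∈ M) : Lifts M tenB B₁ B₂ ε where
  left S hSm := by
    obtain ⟨g, hg, he⟩ := hS.left_mem_omega hn hSm
    refine ⟨g, hM g hg ⟨S, 1, by rw [Subgroup.coe_subtype, he]; rfl⟩, fun x y => ?_⟩
    show ((g : GL (Idx a b) F) : Matrix (Idx a b) (Idx a b) F) *ᵥ ten x y = _
    rw [he, krG_val, kron_mulVec_ten, Units.val_one, one_mulVec]; rfl
  right T hTm := by
    obtain ⟨g, hg, he⟩ := hS.right_mem_omega hn hTm
    refine ⟨g, hM g hg ⟨1, T, by rw [Subgroup.coe_subtype, he]; rfl⟩, fun x y => ?_⟩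
    show ((g : GL (Idx a b) F) : Matrix (Idx a b) (Idx a b) F) *ᵥ ten x y = _
    rw [he, krG_val, kron_mulVec_ten, Units.val_one, one_mulVec]; rfl

end TSet

end CfsgLib.TensorOrth
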